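import Mathlib

/-!
# The arithmetic of the class inequality
-/

set_option autoImplicit false

namespace Cfsg.Agent.Lib.JankoOrder

/-- An admissible pair (index of a torus in its normaliser, order of the torus). -/
def goodPair (e a : ℕ) : Bool :=
  decide ((e = 2 ∨ e = 6 ∨ e = 10) ∧ 7 ≤ a ∧ e ∣ a - 1 ∧ Nat.gcd a 30 = 1)

/-- All completions by a largest torus of given smaller tori yield the target. -/
def chkTop (c w target lim M P W big : ℕ) : Bool :=
  [2, 6, 10].all fun e => (List.range (lim / P + 1)).all fun q =>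
    let d := e * q * P - 120
    let N := e * (c + 120 * M) - 120
    let a := N / d
    !(decide (0 < d ∧ d * a = N ∧ big < a) && goodPair e a &&
      decide (q * P * a % 7 = 0 ∧ 120 * ((a - 1) / e * P + a * W) < w * (a * P))) ||
      decide (q * P * a = target)

/-- The candidates for the smaller tori. -/
def smallPairs (w lim : ℕ) : List (ℕ × ℕ) :=
  ([2, 6, 10].flatMap fun e => (List.range (lim + 1)).map fun a => (e, a)).filter fun p =>
    goodPair p.1 p.2 && decide (120 * ((p.2 - 1) / p.1) < w * p.2)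

/-- The whole finite check. -/
def chkAll (c w target lim : ℕ) : Bool :=
  chkTop c w target lim 0 1 0 0 &&
  (smallPairs w lim).all fun p =>
    chkTop c w target lim ((p.2 - 1) / p.1) p.2 ((p.2 - 1) / p.1) p.2 &&
    (smallPairs w lim).all fun r =>
      !decide (p.2 < r.2 ∧ p.2 * r.2 ≤ lim ∧ Nat.gcd p.2 r.2 = 1) ||
        chkTop c w target lim ((p.2 - 1) / p.1 + (r.2 - 1) / r.1) (p.2 * r.2)
          ((p.2 - 1) / p.1 * r.2 + (r.2 - 1) / r.1 * p.2) r.2

theorem chk_small : chkAll 751 31 0 138 = true := by decide +kernel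

theorem chk_j1 : chkAll 863 47 1463 170 = true := by decide +kernel

theorem chkTop_spec {c w target lim M P W big : ℕ} (h : chkTop c w target lim M P W big = true)
    {e q a : ℕ} (hc : 120 < c) (hq : q * P ≤ lim) (hP : 0 < P) (hg : goodPair e a = true)
    (hbig : big < a) (hf : q * P * a = c + 120 * (M + (a - 1) / e))
    (h7 : q * P * a % 7 = 0) (hw : 120 * ((a - 1) / e * P + a * W) < w * (a * P)) :
    q * P * a = target := by
  simp only [goodPair, decide_eq_true_eq] at hg
  obtain ⟨he, ha, hdiv, hgcd⟩ := hg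
  have hq' : q < lim / P + 1 := Nat.lt_succ_of_le ((Nat.le_div_iff_mul_le hP).mpr hq)
  have hm : e * ((a - 1) / e) = a - 1 := Nat.mul_div_cancel' hdiv
  obtain ⟨m, hmdef⟩ : ∃ m, m = (a - 1) / e := ⟨_, rfl⟩
  rw [← hmdef] at hm hf hw
  have he2 : 2 ≤ e := by rcases he with h | h | h <;> omega
  have hkey : e * q * P * a = e * (c + 120 * M) + 120 * (a - 1) := by
    rw [show e * q * P * a = e * (q * P * a) by ring, hf, mul_add, ← hm]; ring
  have hd : 120 < e * q * P := by
    by_contra hle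
    push Not at hle
    have h1 : e * q * P * a ≤ 120 * a := Nat.mul_le_mul_right _ hle
    have h2 : 2 * c ≤ e * (c + 120 * M) := Nat.mul_le_mul he2 (Nat.le_add_right _ _)
    omega
  have hN : (e * q * P - 120) * a = e * (c + 120 * M) - 120 := by
    rw [Nat.sub_mul, hkey, Nat.mul_sub, mul_one]
    omega
  have ha' : (e * (c + 120 * M) - 120) / (e * q * P - 120) = a := by
    rw [← hN]; exact Nat.mul_div_cancel_left _ (by omega)
  simp only [chkTop, List.all_eq_true, List.mem_range] at h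
  have h' := h e (by rcases he with h | h | h <;> simp [h]) q hq'
  rw [ha'] at h'
  rw [hmdef] at hw
  simp only [Bool.or_eq_true, Bool.not_eq_true', Bool.and_eq_false_iff, decide_eq_false_iff_not,
    decide_eq_true_eq, goodPair] at h'
  rcases h' with ((h' | h') | h') | h'
  · exact absurd ⟨by omega, hN, hbig⟩ h'
  · exact absurd ⟨he, ha, hdiv, hgcd⟩ h'
  · exact absurd ⟨h7, hw⟩ h'
  · exact h'

theorem mem_smallPairs {w lim e a : ℕ} (hg : goodPair e a = true) (hw : 120 * ((a - 1) / e) < w * a)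
    (ha : a ≤ lim) : (e, a) ∈ smallPairs w lim := by
  simp only [smallPairs, List.mem_filter, Bool.and_eq_true, decide_eq_true_eq]
  refine ⟨?_, hg, hw⟩
  simp only [goodPair, decide_eq_true_eq] at hg
  simp only [List.mem_flatMap, List.mem_map, List.mem_range]
  exact ⟨e, by rcases hg.1 with h | h | h <;> simp [h], a, by omega, rfl⟩

theorem arith_target {ι : Type*} [DecidableEq ι] (s : Finset ι) (e a : ι → ℕ) {f c w target lim : ℕ}
    (hchk : chkAll c w target lim = true) (hc : 120 < c) (hc7 : c % 7 ≠ 0)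
    (hlim : lim < 343) (hcw : c ≤ 7 * (lim + 1 - w)) (hwl : w ≤ lim)
    (hg : ∀ i ∈ s, goodPair (e i) (a i) = true)
    (hco : ∀ i ∈ s, ∀ j ∈ s, i ≠ j → Nat.Coprime (a i) (a j))
    (hdvd : (∏ i ∈ s, a i) ∣ f) (hf : f = c + 120 * ∑ i ∈ s, (a i - 1) / e i)
    (h7 : 7 ∣ f) (hw : (∑ i ∈ s, (120 * (((a i - 1) / e i : ℕ) : ℚ)) / (a i : ℚ)) < w) :
    f = target := by
  classical
  obtain ⟨m, hm⟩ : ∃ m : ι → ℕ, m = fun i => (a i - 1) / e i := ⟨_, rfl⟩
  have hmi : ∀ i, (a i - 1) / e i = m i := fun i => by rw [hm]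
  simp only [hmi] at hf hw
  have ha7 : ∀ i ∈ s, 7 ≤ a i := fun i hi => by
    have := hg i hi
    simp only [goodPair, decide_eq_true_eq] at this
    exact this.2.1
  have hapos : ∀ i ∈ s, (0 : ℚ) < a i := fun i hi => by
    have := ha7 i hi
    exact_mod_cast (by omega : 0 < a i)
  have hne : s.Nonempty := by
    rw [Finset.nonempty_iff_ne_empty]
    rintro rfl
    simp only [Finset.sum_empty, mul_zero, add_zero] at hf
    omega
  obtain ⟨i, hi, hmax⟩ := s.exists_max_image a hne
  obtain ⟨t, ht⟩ : ∃ t, t = s.erase i := ⟨_, rfl⟩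
  obtain ⟨P, hP⟩ : ∃ P, P = ∏ j ∈ t, a j := ⟨_, rfl⟩
  have hprod : ∏ j ∈ s, a j = P * a i := by
    rw [hP, ht, mul_comm, Finset.mul_prod_erase _ _ hi]
  obtain ⟨q, hq⟩ := hdvd
  rw [hprod] at hq
  have hfq : f = q * P * a i := by rw [hq]; ring
  have hlt : 120 * ∑ j ∈ s, m j < w * a i := by
    have h1 : (∑ j ∈ s, (120 * (m j : ℚ))) ≤ ∑ j ∈ s, 120 * (m j : ℚ) / (a j) * (a i) := by
      refine Finset.sum_le_sum fun j hj => ?_
      rw [div_mul_eq_mul_div, le_div_iff₀ (hapos j hj)]
      exact mul_le_mul_of_nonneg_left (by exact_mod_cast hmax j hj) (by positivity)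
    rw [← Finset.sum_mul] at h1
    have h2 := mul_lt_mul_of_pos_right hw (hapos i hi)
    have h3 : ((120 * ∑ j ∈ s, m j : ℕ) : ℚ) < ((w * a i : ℕ) : ℚ) := by
      push_cast
      rw [Finset.mul_sum]
      linarith
    exact_mod_cast h3
  have hqP : q * P ≤ lim := by
    by_contra hbig
    push Not at hbig
    have h1 : (lim + 1) * a i ≤ f := hfq ▸ Nat.mul_le_mul_right _ hbig
    have h2 : (lim + 1 - w) * 7 ≤ (lim + 1 - w) * a i := Nat.mul_le_mul_left _ (ha7 i hi)
    have h3 : (lim + 1) * a i = (lim + 1 - w) * a i + w * a i := by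
      rw [← add_mul, Nat.sub_add_cancel (by omega)]
    omega
  have hts : ∀ {j}, j ∈ t → j ∈ s := fun {j} hj => Finset.mem_of_mem_erase (ht ▸ hj)
  have hPpos : 0 < P := hP ▸ Finset.prod_pos fun j hj => by have := ha7 j (hts hj); omega
  have hqpos : 1 ≤ q := Nat.one_le_iff_ne_zero.mpr (by rintro rfl; simp only [zero_mul] at hfq; omega)
  have hPlim : P ≤ lim := le_trans (Nat.le_mul_of_pos_left _ hqpos) hqP
  have hcard : t.card ≤ 2 := by
    by_contra hgt
    push Not at hgt
    have h1 : 7 ^ t.card ≤ P := hP ▸ Finset.pow_card_le_prod _ _ _ fun j hj => ha7 j (hts hj)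
    have h2 : 7 ^ 3 ≤ 7 ^ t.card := Nat.pow_le_pow_right (by norm_num) hgt
    omega
  have hinj : ∀ j ∈ s, ∀ k ∈ s, j ≠ k → a j ≠ a k := fun j hj k hk hjk heq => by
    have h1 := hco j hj k hk hjk
    rw [heq, Nat.coprime_self] at h1
    have := ha7 k hk
    omega
  have hlt' : ∀ j ∈ t, a j < a i := fun j hj => lt_of_le_of_ne (hmax j (hts hj))
    (hinj j (hts hj) i hi (Finset.ne_of_mem_erase (ht ▸ hj)))
  have hsumsplit : ∑ j ∈ s, m j = (∑ j ∈ t, m j) + m i := by
    rw [ht, Finset.sum_erase_add _ _ hi]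
  have hwsplit : (∑ j ∈ t, 120 * (m j : ℚ) / a j) + 120 * (m i : ℚ) / a i < w := by
    rw [ht, Finset.sum_erase_add s (fun j => 120 * (m j : ℚ) / a j) hi]; exact hw
  have hm1 : ∀ j ∈ s, 120 * m j < w * a j := fun j hj => by
    have h1 : 120 * (m j : ℚ) / a j ≤ ∑ k ∈ s, 120 * (m k : ℚ) / a k :=
      Finset.single_le_sum (f := fun k => 120 * (m k : ℚ) / a k)
        (fun k hk => div_nonneg (by positivity) (hapos k hk).le) hj
    have h2 := lt_of_le_of_lt h1 hw
    rw [div_lt_iff₀ (hapos j hj)] at h2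
    exact_mod_cast h2
  have hmem : ∀ j ∈ t, (e j, a j) ∈ smallPairs w lim := fun j hj => by
    refine mem_smallPairs (hg j (hts hj)) ?_ ?_
    · rw [hmi]; exact hm1 j (hts hj)
    · exact le_trans (Finset.single_le_prod' (f := a)
        (fun k hk => by have := ha7 k (hts hk); omega) hj) (hP ▸ hPlim)
  simp only [chkAll, Bool.and_eq_true, List.all_eq_true] at hchk
  have h7' : f % 7 = 0 := Nat.mod_eq_zero_of_dvd h7
  have key : ∀ M W big, chkTop c w target lim M P W big = true → M = ∑ j ∈ t, m j → big < a i →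
      ((W : ℚ) / P = ∑ j ∈ t, (m j : ℚ) / a j) → f = target := by
    intro M W big hT hM hbig hW
    rw [hfq]
    refine chkTop_spec hT hc hqP hPpos (hg i hi) hbig ?_ (hfq ▸ h7') ?_
    · rw [← hfq, hf, hsumsplit, hM, hmi]
    · rw [hmi]
      have hP0 : (0 : ℚ) < P := by exact_mod_cast hPpos
      have h1 : 120 * ((W : ℚ) / P) + 120 * (m i : ℚ) / a i < w := by
        rw [hW, Finset.mul_sum]
        simpa only [mul_div_assoc] using hwsplit
      have h2 := mul_lt_mul_of_pos_right h1 (mul_pos (hapos i hi) hP0)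
      have h3 : (120 * ((W : ℚ) / P) + 120 * (m i : ℚ) / a i) * ((a i : ℚ) * P) =
          120 * ((m i : ℚ) * P + a i * W) := by
        field_simp [(hapos i hi).ne', hP0.ne']
        ring
      rw [h3] at h2
      exact_mod_cast h2
  rcases Nat.lt_or_ge t.card 1 with h0 | h0
  · have ht0 : t = ∅ := Finset.card_eq_zero.mp (by omega)
    rw [ht0, Finset.prod_empty] at hP
    subst hP
    refine key 0 0 0 hchk.1 ?_ (by have := ha7 i hi; omega) ?_ <;> simp [ht0]
  rcases Nat.lt_or_ge t.card 2 with h1 | h1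
  · obtain ⟨j, hj⟩ := Finset.card_eq_one.mp (show t.card = 1 by omega)
    have hjt : j ∈ t := hj ▸ Finset.mem_singleton_self j
    rw [hj, Finset.prod_singleton] at hP
    subst hP
    have hT := (hchk.2 _ (hmem j hjt)).1
    simp only [hmi] at hT
    refine key _ _ _ hT ?_ (hlt' j hjt) ?_ <;> simp [hj]
  · obtain ⟨j, k, hjk, hjk'⟩ := Finset.card_eq_two.mp (show t.card = 2 by omega)
    wlog hle : a j < a k generalizing j k
    · refine this k j hjk.symm (by rw [hjk', Finset.pair_comm]) ?_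
      have hjt : j ∈ t := by simp [hjk']
      have hkt : k ∈ t := by simp [hjk']
      exact lt_of_le_of_ne (not_lt.mp hle) (hinj k (hts hkt) j (hts hjt) hjk.symm)
    have hjt : j ∈ t := by simp [hjk']
    have hkt : k ∈ t := by simp [hjk']
    rw [hjk', Finset.prod_pair hjk] at hP
    subst hP
    have hT := (hchk.2 _ (hmem j hjt)).2 _ (hmem k hkt)
    simp only [Bool.or_eq_true, Bool.not_eq_true', decide_eq_false_iff_not] at hT
    simp only [hmi] at hT
    rcases hT with hT | hT
    · exact absurd ⟨hle, hPlim, hco j (hts hjt) k (hts hkt) hjk⟩ hT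
    refine key _ _ _ hT ?_ (hlt' k hkt) ?_
    · rw [hjk', Finset.sum_pair hjk]
    · rw [hjk', Finset.sum_pair hjk]
      have := hapos j (hts hjt); have := hapos k (hts hkt)
      push_cast
      field_simp

end Cfsg.Agent.Lib.JankoOrder
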