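import Cfsg.Agent.Lib.InvertedBound.Count
import Mathlib

/-!
# Four groups acting on groups of odd order
-/

set_option autoImplicit false
set_option linter.unusedSectionVars false

namespace Cfsg.Agent.Lib.JankoOrder

open Subgroup Cfsg.Agent.Lib.InvertedBound

variable {N : Type*} [Group N] [Finite N]

theorem sq_injective_of_odd (hodd : Odd (Nat.card N)) {x y : N} (h : x * x = y * y) : x = y := by
  obtain ⟨k, hk⟩ := hodd
  have key : ∀ z : N, (z * z) ^ (k + 1) = z := fun z => by
    rw [← pow_two, ← pow_mul, show 2 * (k + 1) = Nat.card N + 1 by omega, pow_add, pow_card_eq_one',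
      one_mul, pow_one]
  rw [← key x, h, key y]

theorem exists_sqrt_of_odd (hodd : Odd (Nat.card N)) (z : N) : ∃ w : N, w * w = z :=
  Finite.surjective_of_injective (f := fun w : N => w * w) (fun _ _ h => sq_injective_of_odd hodd h) z

theorem sqrt_fixed (hodd : Odd (Nat.card N)) {γ : N →* N} {w : N} (h : γ (w * w) = w * w) :
    γ w = w := sq_injective_of_odd hodd (by rw [← map_mul, h])

theorem sqrt_inverted (hodd : Odd (Nat.card N)) {γ : N →* N} {w : N}
    (h : γ (w * w) = (w * w)⁻¹) : γ w = w⁻¹ :=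
  sq_injective_of_odd hodd (by rw [← map_mul, h, mul_inv_rev])

theorem inverted_eq_range (hodd : Odd (Nat.card N)) {β : N →* N} (hβ : ∀ x, β (β x) = x) :
    Set.range (fun c : N => c * (β c)⁻¹) = {x | β x = x⁻¹} := by
  ext x
  refine ⟨fun ⟨c, hc⟩ => map_range_inv hβ ⟨c, hc⟩, fun hx => ?_⟩
  obtain ⟨w, rfl⟩ := exists_sqrt_of_odd hodd x
  exact ⟨w, by simp only [sqrt_inverted hodd hx, inv_inv]⟩

theorem card_fixed_mul_inverted (hodd : Odd (Nat.card N)) (β : N →* N) (hβ : ∀ x, β (β x) = x) :
    Nat.card (fixedSub β) * {x | β x = x⁻¹}.ncard = Nat.card N := by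
  rw [← Nat.card_coe_set_eq, ← inverted_eq_range hodd hβ]
  exact card_fixed_mul_card_range β

theorem inverts_fixed (α β : N →* N) (hα : ∀ x, α (α x) = x) (hc : ∀ x, α (β x) = β (α x))
    (hfree : ∀ x, α x = x → β x = x → x = 1) {x : N} (hx : β x = x) : α x = x⁻¹ := by
  have hinv : ∀ y ∈ fixedSub β, α y ∈ fixedSub β := fun y hy => by
    rw [mem_fixedSub] at hy ⊢
    rw [← hc, hy]
  let α' : fixedSub β →* fixedSub β :=
    (α.comp (fixedSub β).subtype).codRestrict _ fun y => hinv y y.2
  have h := inv_of_fixedSub_eq_bot (β := α') (fun y => Subtype.ext (hα y)) (by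
    rw [eq_bot_iff]
    intro y hy
    exact Subgroup.mem_bot.mpr (Subtype.ext (hfree y (congrArg Subtype.val (mem_fixedSub.mp hy)) y.2)))
    ⟨x, hx⟩
  exact congrArg Subtype.val h

/-- The elements inverted by `α` are the products `u v u`. -/
theorem card_inverted_four (hodd : Odd (Nat.card N)) (α β : N →* N) (hα : ∀ x, α (α x) = x)
    (hβ : ∀ x, β (β x) = x) (hc : ∀ x, α (β x) = β (α x))
    (hfree : ∀ x, α x = x → β x = x → x = 1) :
    {x | α x = x⁻¹}.ncard = Nat.card (fixedSub β) * Nat.card (fixedSub (β.comp α)) := by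
  have hu : ∀ u ∈ fixedSub β, α u = u⁻¹ ∧ β u = u := fun u hu =>
    ⟨inverts_fixed α β hα hc hfree (mem_fixedSub.mp hu), mem_fixedSub.mp hu⟩
  have hv : ∀ v ∈ fixedSub (β.comp α), α v = v⁻¹ ∧ β v = v⁻¹ := fun v hv => by
    have h1 : β (α v) = v := mem_fixedSub.mp hv
    have hav : α v = β v := by
      conv_rhs => rw [← h1]
      rw [hβ]
    have h2 := inverts_fixed α (β.comp α) hα (fun x => by simp [hc])
      (fun x hx hx' => hfree x hx (by simpa [hx] using hx')) (mem_fixedSub.mp hv)
    exact ⟨h2, hav ▸ h2⟩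
  let f : fixedSub β × fixedSub (β.comp α) → {x | α x = x⁻¹} := fun q =>
    ⟨(q.1 : N) * q.2 * q.1, by
      show α _ = _
      rw [map_mul, map_mul, (hu _ q.1.2).1, (hv _ q.2.2).1, mul_inv_rev, mul_inv_rev, mul_assoc]⟩
  have hf : Function.Bijective f := by
    constructor
    · intro q r h
      have h' : (q.1 : N) * q.2 * q.1 = (r.1 : N) * r.2 * r.1 := congrArg Subtype.val h
      have key : ∀ p : fixedSub β × fixedSub (β.comp α),
          (p.1 : N) * p.1 * ((p.1 : N) * p.2 * p.1)⁻¹ * ((p.1 : N) * p.1) *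
            ((p.1 : N) * p.2 * p.1)⁻¹ = β ((p.1 : N) * p.2 * p.1) * ((p.1 : N) * p.2 * p.1)⁻¹ := by
        intro p
        rw [map_mul, map_mul, (hu _ p.1.2).2, (hv _ p.2.2).2]
        group
      have h1 := sq_injective_of_odd hodd (x := (q.1 : N) * q.1 * ((q.1 : N) * q.2 * q.1)⁻¹)
        (y := (r.1 : N) * r.1 * ((q.1 : N) * q.2 * q.1)⁻¹) (by
          have kr := key r
          rw [← h'] at kr
          calc _ = (q.1 : N) * q.1 * ((q.1 : N) * q.2 * q.1)⁻¹ * ((q.1 : N) * q.1) *
                ((q.1 : N) * q.2 * q.1)⁻¹ := by group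
            _ = (r.1 : N) * r.1 * ((q.1 : N) * q.2 * q.1)⁻¹ * ((r.1 : N) * r.1) *
                ((q.1 : N) * q.2 * q.1)⁻¹ := by rw [key q, kr]
            _ = _ := by group)
      have h2 := sq_injective_of_odd hodd (mul_right_cancel h1)
      have e1 : q.1 = r.1 := Subtype.ext h2
      rw [e1] at h'
      exact Prod.ext e1 (Subtype.ext (mul_left_cancel (mul_right_cancel h')))
    · rintro ⟨g, hg⟩
      obtain ⟨r, hr⟩ := exists_sqrt_of_odd hodd (β g * g⁻¹)
      obtain ⟨u, hu'⟩ := exists_sqrt_of_odd hodd (r * g)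
      set w := r * g with hw
      have hsg : β g = w * g⁻¹ * w := by
        have : β g = r * r * g := by rw [hr, inv_mul_cancel_right]
        rw [this, hw]; group
      have huniq : ∀ w' : N, β g = w' * g⁻¹ * w' → w' = w := fun w' h => by
        have := sq_injective_of_odd hodd (x := w' * g⁻¹) (y := w * g⁻¹)
          (by rw [← mul_assoc, ← h, ← mul_assoc, ← hsg])
        exact mul_right_cancel this
      have hsw : β w = w := by
        refine huniq _ ?_
        have h1 := congrArg β hsg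
        rw [hβ, map_mul, map_mul, map_inv] at h1
        calc β g = β w * (β w * (β g)⁻¹ * β w)⁻¹ * β w := by group
          _ = β w * g⁻¹ * β w := by rw [← h1]
      have htw : α w = w⁻¹ := by
        rw [← inv_inj, inv_inv]
        refine huniq _ ?_
        have hg' : α g = g⁻¹ := hg
        have h1 := congrArg α hsg
        rw [hc, hg', map_inv, map_mul, map_mul, map_inv, hg', inv_inv] at h1
        rw [← inv_inv (β g), h1]
        group
      have hu1 : β u = u := sqrt_fixed hodd (by rw [hu', hsw])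
      have hu2 : α u = u⁻¹ := sqrt_inverted hodd (by rw [hu', htw])
      refine ⟨(⟨u, mem_fixedSub.mpr hu1⟩, ⟨u⁻¹ * g * u⁻¹, mem_fixedSub.mpr ?_⟩),
        Subtype.ext (by show u * (u⁻¹ * g * u⁻¹) * u = g; group)⟩
      show β (α (u⁻¹ * g * u⁻¹)) = _
      simp only [map_mul, map_inv, hu2, inv_inv, show α g = g⁻¹ from hg, hu1, hsg]
      rw [← hu']
      group
  rw [← Nat.card_prod, ← Nat.card_coe_set_eq]
  exact (Nat.card_eq_of_bijective f hf).symm

end Cfsg.Agent.Lib.JankoOrder
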