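import Cfsg.Agent.Lib.JankoOrder.Odd
import Cfsg.Agent.Lib.JankoOrder.Four
import Mathlib

/-!
# The four group acting on the odd part of a centraliser
-/

set_option autoImplicit false
set_option linter.unusedSectionVars false
set_option linter.style.haveILetI false

namespace Cfsg.Agent.Lib.JankoOrder

open Cfsg Subgroup Cfsg.Agent.Lib.InvertedBound

universe u

variable {G : Type u} [Group G] [Finite G]

/-- Conjugation by a normalising element as an endomorphism of the subgroup. -/
def conjEnd {K : Subgroup G} {w : G} (hw : ∀ x ∈ K, w * x * w⁻¹ ∈ K) : K →* K :=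
  MonoidHom.mk' (fun x => ⟨w * x * w⁻¹, hw x x.2⟩) fun x y => Subtype.ext (by
    show w * ((x : G) * y) * w⁻¹ = w * x * w⁻¹ * (w * y * w⁻¹)
    group)

@[simp] theorem coe_conjEnd {K : Subgroup G} {w : G} (hw : ∀ x ∈ K, w * x * w⁻¹ ∈ K) (x : K) :
    (conjEnd hw x : G) = w * x * w⁻¹ := rfl

theorem oddCent_inv (g : G) : oddCent g⁻¹ = oddCent g := by
  rw [oddCent, oddCent]
  congr 1
  ext h
  exact and_congr_left' ⟨fun e => by simpa using (Commute.inv_right (e : Commute h g⁻¹)).eq,
    fun e => (Commute.inv_right (e : Commute h g)).eq⟩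

theorem conj_mem_oddCent {g w x : G} (hw : w * g * w⁻¹ = g ∨ w * g * w⁻¹ = g⁻¹) (hx : x ∈ oddCent g) :
    w * x * w⁻¹ ∈ oddCent g := by
  have h := mem_oddCent_conj (c := w) hx
  rcases hw with e | e <;> rw [e] at h
  · exact h
  · rwa [oddCent_inv] at h

/-- The axis of `w` in the odd part of the centraliser of `g`. -/
def axis (g w : G) : Subgroup G := oddCent g ⊓ centralizer ({w} : Set G)

theorem mem_axis {g w h : G} : h ∈ axis g w ↔ h ∈ oddCent g ∧ h * w = w * h := by
  rw [axis, mem_inf, mem_centralizer_singleton_iff]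

/-- An axial pair with an inverting involution. -/
structure Frame (v g s : G) : Prop extends Axial v g where
  s_inv : orderOf s = 2
  s_comm : s * v = v * s
  s_act : s * g * s⁻¹ = g⁻¹

theorem Axial.commute_conj {v g : G} (A : Axial v g) : v * g * v⁻¹ = g := by
  rw [← A.comm, mul_inv_cancel_right]

theorem Axial.not_mem {v g : G} (H : Hyp G) (A : Axial v g) : v ∉ oddCent g := fun h => by
  have h1 := ((H.mem_oddCent_iff A).mp h).2
  rw [A.inv] at h1
  exact absurd h1 (by decide)

theorem Hyp.exists_frame (H : Hyp G) {v g : G} (A : Axial v g) : ∃ s, Frame v g s := by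
  obtain ⟨s, h1, h2, h3, -⟩ := H.exists_inverting A.inv A.comm A.ord
  exact ⟨s, ⟨A, h1, h2, h3⟩⟩

namespace Frame

variable {v g s : G} (F : Frame v g s)
include F

theorem axial : Axial v g := F.toAxial

theorem ne_inv : g⁻¹ ≠ g := fun h => by
  have h2 : g ^ 2 = 1 := by rw [pow_two]; exact eq_inv_iff_mul_eq_one.mp h.symm
  have := Nat.le_of_dvd (by norm_num) (orderOf_dvd_of_pow_eq_one h2)
  have := F.ord
  omega

theorem ne : s ≠ v := fun h => by
  have h1 := F.s_act
  rw [h, F.toAxial.commute_conj] at h1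
  exact F.ne_inv h1.symm

theorem vs_inv : orderOf (v * s) = 2 := by
  have hv := Involution.mul_self_eq_one F.inv
  have hs := Involution.mul_self_eq_one F.s_inv
  refine Involution.orderOf_eq_two ?_ fun h => F.ne ?_
  · calc v * s * (v * s) = v * (s * v) * s := by group
      _ = (v * v) * (s * s) := by rw [F.s_comm]; group
      _ = 1 := by rw [hv, hs, one_mul]
  · rw [mul_eq_one_iff_eq_inv, inv_eq_of_mul_eq_one_right hs] at h
    exact h.symm

theorem swap : Frame v g (v * s) := by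
  refine ⟨F.toAxial, F.vs_inv, ?_, ?_⟩
  · rw [mul_assoc, F.s_comm]
  · calc v * s * g * (v * s)⁻¹ = v * (s * g * s⁻¹) * v⁻¹ := by group
      _ = v * g⁻¹ * v⁻¹ := by rw [F.s_act]
      _ = (v * g * v⁻¹)⁻¹ := by group
      _ = g⁻¹ := by rw [F.toAxial.commute_conj]

theorem vs_vs : v * (v * s) = s := by
  rw [← mul_assoc, Involution.mul_self_eq_one F.inv, one_mul]

theorem conj (c : G) : Frame (c * v * c⁻¹) (c * g * c⁻¹) (c * s * c⁻¹) := by
  refine ⟨F.toAxial.conj c, by rw [Involution.orderOf_conj_eq]; exact F.s_inv, ?_, ?_⟩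
  · calc c * s * c⁻¹ * (c * v * c⁻¹) = c * (s * v) * c⁻¹ := by group
      _ = c * (v * s) * c⁻¹ := by rw [F.s_comm]
      _ = _ := by group
  · calc c * s * c⁻¹ * (c * g * c⁻¹) * (c * s * c⁻¹)⁻¹ = c * (s * g * s⁻¹) * c⁻¹ := by group
      _ = c * g⁻¹ * c⁻¹ := by rw [F.s_act]
      _ = _ := by group

variable (H : Hyp G)
include H

theorem axis_self : axis g v = zpowers g := by
  refine le_antisymm (fun h hh => ?_) ?_
  · obtain ⟨hO, hv⟩ := mem_axis.mp hh
    obtain ⟨hc, ho⟩ := (H.mem_oddCent_iff F.toAxial).mp hO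
    obtain ⟨i, j, rfl⟩ := H.cent_form F.inv F.comm F.ord hv hc
    have hgj : g ^ j ∈ oddCent g := pow_mem (mem_oddCent_of rfl F.toAxial.odd) j
    have hvi : v ^ i ∈ oddCent g := by
      simpa using mul_mem hO (inv_mem hgj)
    rcases Nat.even_or_odd i with ⟨k, hk⟩ | ⟨k, hk⟩
    · rw [hk, pow_add, ← (Commute.refl v).mul_pow, Involution.mul_self_eq_one F.inv, one_pow, one_mul]
      exact pow_mem (mem_zpowers g) j
    · rw [hk, pow_add, pow_mul, pow_two, Involution.mul_self_eq_one F.inv, one_pow, one_mul,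
        pow_one] at hvi
      exact absurd hvi (F.toAxial.not_mem H)
  · exact zpowers_le.mpr (mem_axis.mpr ⟨mem_oddCent_of rfl F.toAxial.odd, F.comm⟩)

theorem card_axis_self : Nat.card (axis g v) = orderOf g := by
  rw [F.axis_self H, Nat.card_zpowers]

omit H in
theorem conj_v_mem : ∀ x ∈ oddCent g, v * x * v⁻¹ ∈ oddCent g := fun _ hx =>
  conj_mem_oddCent (Or.inl F.toAxial.commute_conj) hx

omit H in
theorem conj_s_mem : ∀ x ∈ oddCent g, s * x * s⁻¹ ∈ oddCent g := fun _ hx =>
  conj_mem_oddCent (Or.inr F.s_act) hx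

omit H in
theorem v_invol : ∀ x, conjEnd F.conj_v_mem (conjEnd F.conj_v_mem x) = x := fun x => Subtype.ext (by
  simp only [coe_conjEnd]
  have hv := Involution.mul_self_eq_one F.inv
  rw [inv_eq_of_mul_eq_one_right hv]
  calc v * (v * (x : G) * v) * v = (v * v) * x * (v * v) := by group
    _ = x := by rw [hv, one_mul, mul_one])

omit H in
theorem s_invol : ∀ x, conjEnd F.conj_s_mem (conjEnd F.conj_s_mem x) = x := fun x => Subtype.ext (by
  simp only [coe_conjEnd]
  have hv := Involution.mul_self_eq_one F.s_inv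
  rw [inv_eq_of_mul_eq_one_right hv]
  calc s * (s * (x : G) * s) * s = (s * s) * x * (s * s) := by group
    _ = x := by rw [hv, one_mul, mul_one])

omit H in
theorem ends_comm : ∀ x, conjEnd F.conj_v_mem (conjEnd F.conj_s_mem x) =
    conjEnd F.conj_s_mem (conjEnd F.conj_v_mem x) := fun x => Subtype.ext (by
  simp only [coe_conjEnd]
  calc v * (s * (x : G) * s⁻¹) * v⁻¹ = (v * s) * x * (v * s)⁻¹ := by group
    _ = (s * v) * x * (s * v)⁻¹ := by rw [F.s_comm]
    _ = _ := by group)

theorem ends_free : ∀ x, conjEnd F.conj_v_mem x = x → conjEnd F.conj_s_mem x = x → x = 1 := by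
  rintro ⟨x, hx⟩ hv hs
  have hv' : v * x * v⁻¹ = x := congrArg Subtype.val hv
  have hs' : s * x * s⁻¹ = x := congrArg Subtype.val hs
  have hmem : x ∈ zpowers g := by
    rw [← F.axis_self H]
    exact mem_axis.mpr ⟨hx, (mul_inv_eq_iff_eq_mul.mp hv').symm⟩
  obtain ⟨k, rfl⟩ := mem_zpowers_iff.mp hmem
  rw [← conj_zpow, F.s_act, inv_zpow] at hs'
  refine Subtype.ext ?_
  show g ^ k = 1
  have h2 : (g ^ k) ^ 2 = 1 := by rw [pow_two]; exact eq_inv_iff_mul_eq_one.mp hs'.symm
  have h3 : orderOf (g ^ k) ∣ 2 := orderOf_dvd_of_pow_eq_one h2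
  have h4 : Odd (orderOf (g ^ k)) := ((H.mem_oddCent_iff F.toAxial).mp hx).2
  exact orderOf_eq_one_iff.mp ((Nat.coprime_two_right.mpr h4).eq_one_of_dvd h3)

theorem card_fixed (w : G) (hw : ∀ x ∈ oddCent g, w * x * w⁻¹ ∈ oddCent g) :
    Nat.card (fixedSub (conjEnd hw)) = Nat.card (axis g w) := by
  refine Nat.card_congr
    { toFun := fun x => ⟨x.1.1, mem_axis.mpr ⟨x.1.2,
        (mul_inv_eq_iff_eq_mul.mp (congrArg Subtype.val (mem_fixedSub.mp x.2))).symm⟩⟩
      invFun := fun x => ⟨⟨x.1, (mem_axis.mp x.2).1⟩, mem_fixedSub.mpr (Subtype.ext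
        (mul_inv_eq_iff_eq_mul.mpr (mem_axis.mp x.2).2.symm))⟩
      left_inv := fun _ => rfl
      right_inv := fun _ => rfl }

theorem axis_inverted {h : G} (hh : h ∈ axis g s) : v * h * v⁻¹ = h⁻¹ := by
  obtain ⟨hO, hs⟩ := mem_axis.mp hh
  exact congrArg Subtype.val (inverts_fixed (conjEnd F.conj_v_mem) (conjEnd F.conj_s_mem) F.v_invol
    F.ends_comm (F.ends_free H) (x := ⟨h, hO⟩) (Subtype.ext (mul_inv_eq_iff_eq_mul.mpr hs.symm)))

theorem card_oddCent :
    Nat.card (oddCent g) = orderOf g * (Nat.card (axis g s) * Nat.card (axis g (v * s))) := by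
  have hodd := (H.oddCent_facts F.toAxial).1
  have h1 := card_fixed_mul_inverted hodd (conjEnd F.conj_v_mem) F.v_invol
  have h2 := card_inverted_four hodd (conjEnd F.conj_v_mem) (conjEnd F.conj_s_mem) F.v_invol
    F.s_invol F.ends_comm (F.ends_free H)
  have h3 : (conjEnd F.conj_s_mem).comp (conjEnd F.conj_v_mem) = conjEnd F.swap.conj_s_mem := by
    refine MonoidHom.ext fun x => Subtype.ext ?_
    simp only [MonoidHom.comp_apply, coe_conjEnd]
    calc s * (v * (x : G) * v⁻¹) * s⁻¹ = (s * v) * x * (s * v)⁻¹ := by group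
      _ = _ := by rw [F.s_comm]
  rw [h2, h3, F.card_fixed H, F.card_fixed H, F.card_fixed H, F.card_axis_self H] at h1
  exact h1.symm

theorem axis_structure {h : G} (hh : h ∈ axis g s) (h1 : h ≠ 1) :
    Axial s h ∧ axis g s = zpowers h ∧ g ∈ oddCent h := by
  obtain ⟨hO, hs⟩ := mem_axis.mp hh
  obtain ⟨hg, ho⟩ := (H.mem_oddCent_iff F.toAxial).mp hO
  have A : Axial s h := ⟨F.s_inv, hs, (H.odd_cases F.s_inv hs ho).resolve_left h1⟩
  refine ⟨A, le_antisymm (fun x hx => ?_) (zpowers_le.mpr hh), mem_oddCent_of hg.symm F.toAxial.odd⟩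
  have hxh : x * h = h * x := by
    have e1 := F.axis_inverted H hx
    have e2 := F.axis_inverted H hh
    have e3 := F.axis_inverted H (mul_mem hx hh)
    have e4 : v * (x * h) * v⁻¹ = x⁻¹ * h⁻¹ := by
      calc v * (x * h) * v⁻¹ = (v * x * v⁻¹) * (v * h * v⁻¹) := by group
        _ = _ := by rw [e1, e2]
    rw [e4, ← mul_inv_rev] at e3
    exact (inv_injective e3).symm
  obtain ⟨hxO, hxs⟩ := mem_axis.mp hx
  obtain ⟨i, j, rfl⟩ := H.cent_form F.s_inv hs A.ord hxs hxh
  rcases Nat.even_or_odd i with ⟨k, hk⟩ | ⟨k, hk⟩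
  · rw [hk, pow_add, ← (Commute.refl s).mul_pow, Involution.mul_self_eq_one F.s_inv, one_pow, one_mul]
    exact pow_mem (mem_zpowers h) j
  · exfalso
    have hsO : s ^ i ∈ oddCent g := by simpa using mul_mem hxO (inv_mem (pow_mem hO j))
    rw [hk, pow_add, pow_mul, pow_two, Involution.mul_self_eq_one F.s_inv, one_pow, one_mul, pow_one]
      at hsO
    have := ((H.mem_oddCent_iff F.toAxial).mp hsO).2
    rw [F.s_inv] at this
    exact absurd this (by decide)

theorem card_axis : Nat.card (axis g s) = 1 ∨ ∃ h ∈ axis g s, Axial s h ∧ g ∈ oddCent h ∧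
    axis g s = zpowers h ∧ Nat.card (axis g s) = orderOf h := by
  by_cases hb : axis g s = ⊥
  · left; rw [hb, card_bot]
  obtain ⟨h, hh, h1⟩ := exists_ne_one_of_ne_bot hb
  obtain ⟨A, he, hg⟩ := F.axis_structure H hh h1
  exact Or.inr ⟨h, hh, A, hg, he, by rw [he, Nat.card_zpowers]⟩
where
  exists_ne_one_of_ne_bot {K : Subgroup G} (hb : K ≠ ⊥) : ∃ h ∈ K, h ≠ 1 := by
    by_contra hc
    push Not at hc
    exact hb (eq_bot_iff.mpr fun x hx => Subgroup.mem_bot.mpr (hc x hx))

theorem card_axis_cases : Nat.card (axis g s) = 1 ∨ Nat.card (axis g s) = 3 ∨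
    Nat.card (axis g s) = 5 := by
  rcases F.card_axis H with h | ⟨h, -, A, -, -, hc⟩
  · exact Or.inl h
  · rw [hc]; exact Or.inr A.ord

theorem mem_cent_cases {x : G} (hx : x * g = g * x) : x ∈ oddCent g ∨ x * v ∈ oddCent g := by
  classical
  by_contra hc
  push Not at hc
  obtain ⟨-, hcard⟩ := H.oddCent_facts F.toAxial
  have hv2 := Involution.mul_self_eq_one F.inv
  let S : Set G := (oddCent g : Set G) ∪ (fun o => o * v) '' (oddCent g : Set G)
  have hsub : S ⊆ (centralizer ({g} : Set G) : Set G) := by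
    rintro y (hy | ⟨o, ho, rfl⟩)
    · exact mem_centralizer_singleton_iff.mpr (oddCent_commute hy)
    · exact mem_centralizer_singleton_iff.mpr
        ((Commute.mul_left (oddCent_commute ho) F.comm.symm) : Commute (o * v) g).eq
  have hS : S.ncard = 2 * Nat.card (oddCent g) := by
    rw [Set.ncard_union_eq ?_ (Set.toFinite _) (Set.toFinite _),
      Set.ncard_image_of_injective _ (mul_left_injective v), ← Nat.card_coe_set_eq, two_mul]
    · rfl
    · rw [Set.disjoint_left]
      rintro y hy ⟨o, ho, rfl⟩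
      exact F.toAxial.not_mem H (by simpa using mul_mem (inv_mem ho) hy)
  have heq := Set.eq_of_subset_of_ncard_le hsub (by
    rw [hS, ← hcard, ← Nat.card_coe_set_eq]; rfl) (Set.toFinite _)
  have hxS : x ∈ S := by rw [heq]; exact mem_centralizer_singleton_iff.mpr hx
  rcases hxS with h | ⟨o, ho, rfl⟩
  · exact hc.1 h
  · exact hc.2 (by rw [mul_assoc, hv2, mul_one]; exact ho)

theorem card_inverted_set : {o : G | o ∈ oddCent g ∧ s * o * s⁻¹ = o⁻¹}.ncard =
    orderOf g * Nat.card (axis g (v * s)) := by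
  have hodd := (H.oddCent_facts F.toAxial).1
  have h1 := card_fixed_mul_inverted hodd (conjEnd F.conj_s_mem) F.s_invol
  rw [F.card_fixed H] at h1
  have he : {x : oddCent g | conjEnd F.conj_s_mem x = x⁻¹}.ncard =
      {o : G | o ∈ oddCent g ∧ s * o * s⁻¹ = o⁻¹}.ncard := by
    rw [← Set.ncard_image_of_injective _ (oddCent g).subtype_injective]
    congr 1
    ext o
    constructor
    · rintro ⟨x, hx, rfl⟩; exact ⟨x.2, congrArg Subtype.val hx⟩
    · rintro ⟨ho, h⟩; exact ⟨⟨o, ho⟩, Subtype.ext h, rfl⟩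
  rw [he, F.card_oddCent H] at h1
  refine mul_left_cancel₀ (Nat.card_pos (α := axis g s)).ne' ?_
  rw [h1]; ring

theorem card_inverting : {w : G | orderOf w = 2 ∧ w * g * w⁻¹ = g⁻¹}.ncard =
    orderOf g * Nat.card (axis g (v * s)) + orderOf g * Nat.card (axis g s) := by
  classical
  have h2 : {o : G | o ∈ oddCent g ∧ (v * s) * o * (v * s)⁻¹ = o⁻¹}.ncard =
      orderOf g * Nat.card (axis g s) := by
    have := F.swap.card_inverted_set H
    rwa [F.vs_vs] at this
  rw [← F.card_inverted_set H, ← h2,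
    ← Set.ncard_image_of_injective {o : G | o ∈ oddCent g ∧ s * o * s⁻¹ = o⁻¹} (mul_left_injective s),
    ← Set.ncard_image_of_injective {o : G | o ∈ oddCent g ∧ (v * s) * o * (v * s)⁻¹ = o⁻¹}
      (mul_left_injective (v * s)), ← Set.ncard_union_eq ?_ (Set.toFinite _) (Set.toFinite _)]
  · congr 1
    have key : ∀ r : G, Frame v g r → ∀ o ∈ oddCent g,
        ((orderOf (o * r) = 2 ∧ (o * r) * g * (o * r)⁻¹ = g⁻¹) ↔ r * o * r⁻¹ = o⁻¹) := by
      intro r R o ho
      have hr := Involution.mul_self_eq_one R.s_inv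
      constructor
      · rintro ⟨h, -⟩
        have h' := Involution.mul_self_eq_one h
        rw [inv_eq_of_mul_eq_one_right hr, eq_inv_iff_mul_eq_one]
        calc r * o * r * o = o⁻¹ * (o * r * (o * r)) * o := by group
          _ = 1 := by rw [h']; group
      · intro h
        have hact : (o * r) * g * (o * r)⁻¹ = g⁻¹ := by
          calc (o * r) * g * (o * r)⁻¹ = o * (r * g * r⁻¹) * o⁻¹ := by group
            _ = o * g⁻¹ * o⁻¹ := by rw [R.s_act]
            _ = (o * g * o⁻¹)⁻¹ := by group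
            _ = g⁻¹ := by rw [oddCent_commute ho, mul_inv_cancel_right]
        refine ⟨Involution.orderOf_eq_two ?_ fun e => ?_, hact⟩
        · rw [inv_eq_of_mul_eq_one_right hr, eq_inv_iff_mul_eq_one] at h
          calc o * r * (o * r) = o * (r * o * r * o) * o⁻¹ := by group
            _ = 1 := by rw [h]; group
        · rw [e] at hact; simp only [one_mul, inv_one, mul_one] at hact
          exact R.ne_inv hact.symm
    ext w
    constructor
    · rintro ⟨hw, hwg⟩
      have hx : w * s⁻¹ * g = g * (w * s⁻¹) := by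
        have hsg : s⁻¹ * g * s = g⁻¹ := by
          rw [Involution.inv_eq_self (Involution.mul_self_eq_one F.s_inv)]
          have := F.s_act
          rwa [Involution.inv_eq_self (Involution.mul_self_eq_one F.s_inv)] at this
        have hwg' : w * g⁻¹ * w⁻¹ = g := by
          calc w * g⁻¹ * w⁻¹ = (w * g * w⁻¹)⁻¹ := by group
            _ = g := by rw [hwg, inv_inv]
        calc w * s⁻¹ * g = w * (s⁻¹ * g * s) * w⁻¹ * (w * s⁻¹) := by group
          _ = w * g⁻¹ * w⁻¹ * (w * s⁻¹) := by rw [hsg]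
          _ = g * (w * s⁻¹) := by rw [hwg']
      rcases F.mem_cent_cases H hx with ho | ho
      · left
        refine ⟨w * s⁻¹, ⟨ho, ?_⟩, by simp⟩
        refine (key s F _ ho).mp ?_
        simpa using ⟨hw, hwg⟩
      · right
        refine ⟨w * s⁻¹ * v, ⟨ho, ?_⟩, ?_⟩
        · refine (key _ F.swap _ ho).mp ?_
          have : w * s⁻¹ * v * (v * s) = w := by
            rw [← mul_assoc, mul_assoc (w * s⁻¹), Involution.mul_self_eq_one F.inv]; group
          rw [this]; exact ⟨hw, hwg⟩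
        · show w * s⁻¹ * v * (v * s) = w
          rw [← mul_assoc, mul_assoc (w * s⁻¹), Involution.mul_self_eq_one F.inv]; group
    · rintro (⟨o, ⟨ho, h⟩, rfl⟩ | ⟨o, ⟨ho, h⟩, rfl⟩)
      · exact (key s F o ho).mpr h
      · exact (key _ F.swap o ho).mpr h
  · rw [Set.disjoint_left]
    rintro y ⟨o, ⟨ho, -⟩, rfl⟩ ⟨o', ⟨ho', -⟩, he⟩
    refine F.toAxial.not_mem H ?_
    have he' : o' * (v * s) = o * s := he
    rw [← mul_assoc, mul_left_inj] at he'
    rw [show v = o'⁻¹ * o by rw [← he']; group]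
    exact mul_mem (inv_mem ho') ho

end Frame

end Cfsg.Agent.Lib.JankoOrder
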