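import Cfsg.Agent.Lib.JankoOrder.Model
import Cfsg.Agent.Lib.EightInvolution.Local
import Cfsg.Agent.Lib.Involution.Basic
import Cfsg.Prelude.Def_Sporadic
import Cfsg.Prelude.Def_SporadicB
import Mathlib

/-!
# Simple groups with an involution centraliser `Z₂ × A₅`: two-local facts
-/

set_option autoImplicit false
set_option linter.unusedSectionVars false
set_option linter.style.haveILetI false

namespace Cfsg.Agent.Lib.JankoOrder

open Cfsg Subgroup

universe u

variable {G : Type u} [Group G] [Finite G]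

/-- The working hypothesis: all involutions are conjugate with centraliser `Z₂ × A₅`. -/
structure Hyp (G : Type u) [Group G] : Prop where
  model : ∀ v : G, orderOf v = 2 → ∃ φ : centralizer ({v} : Set G) ≃* Cen2A5,
    ∀ w : centralizer ({v} : Set G), (w : G) = v → φ w = cz
  conj_all : ∀ v w : G, orderOf v = 2 → orderOf w = 2 → IsConj v w
  two_exp : ∀ (g : G) (k : ℕ), g ^ 2 ^ k = 1 → g * g = 1
  sixteen : ¬ 16 ∣ Nat.card G
  seven : 7 ∣ Nat.card G

theorem exists_model_cz {v : G} (hv : orderOf v = 2)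
    (φ : centralizer ({v} : Set G) ≃* Cen2A5) :
    ∀ w : centralizer ({v} : Set G), (w : G) = v → φ w = cz := by
  intro w hw
  have hc : ∀ k : Cen2A5, φ w * k = k * φ w := fun k => by
    obtain ⟨x, rfl⟩ := φ.surjective k
    rw [← map_mul, ← map_mul]
    refine congrArg φ (Subtype.ext ?_)
    rw [coe_mul, coe_mul, hw]
    exact (mem_centralizer_singleton_iff.mp x.2).symm
  refine (cen_center (φ w) (hc c3) (hc c5)).resolve_left fun h => ?_
  rw [map_eq_one_iff φ φ.injective] at h
  rw [h, coe_one] at hw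
  rw [← hw, orderOf_one] at hv
  exact absurd hv (by norm_num)

theorem cen_misc : c3 * c5 ≠ c5 * c3 ∧ ci * ci = 1 ∧ ci ≠ 1 ∧ cz * ci * (cz * ci) = 1 ∧ cz * ci ≠ 1 ∧
    (∀ k : Cen2A5, k * ci * k⁻¹ ≠ cz) ∧ ∀ k : Cen2A5, k * (cz * ci) * k⁻¹ ≠ cz := by
  decide +kernel

theorem cen_parity : ((1 + 15 + 0 : ℕ) : ZMod 2) ≠ 1 ∧ ((1 + 0 + 15 : ℕ) : ZMod 2) ≠ 1 := by decide

theorem cen_fst_ne (g h : Cen2A5) : (g * ci * g⁻¹).1 ≠ (h * (cz * ci) * h⁻¹).1 := by
  revert g h; decide +kernel

set_option maxHeartbeats 1000000 in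
/-- The basic reduction. -/
theorem hyp_of_centralizer [IsSimpleGroup G] (t : G) (ht : Cfsg.IsTwoCentralInvolution t)
    (e : centralizer ({t} : Set G) ≃* Multiplicative (ZMod 2) × alternatingGroup (Fin 5)) :
    Hyp G := by
  classical
  haveI : Fact (Nat.Prime 2) := ⟨Nat.prime_two⟩
  obtain ⟨ht2, P, htP, hPt⟩ := ht
  have hPC : (P : Subgroup G) ≤ centralizer ({t} : Set G) := fun x hx =>
    mem_centralizer_singleton_iff.mpr (hPt x hx)
  let tC : centralizer ({t} : Set G) := ⟨t, mem_centralizer_singleton_iff.mpr rfl⟩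
  let φ : centralizer ({t} : Set G) ≃* Cen2A5 := e
  have htz : φ tC = cz := exists_model_cz ht2 φ tC rfl
  have hC : Nat.card (centralizer ({t} : Set G)) = 120 := by
    rw [Nat.card_congr φ.toEquiv, Nat.card_eq_fintype_card, cen_card]
  have hG : ¬ IsMulCommutative G := by
    intro hG
    have hK : ∀ a b : Cen2A5, a * b = b * a := fun a b => by
      obtain ⟨x, rfl⟩ := φ.surjective a
      obtain ⟨y, rfl⟩ := φ.surjective b
      rw [← map_mul, ← map_mul]
      exact congrArg φ (Subtype.ext (hG.is_comm.comm (x : G) (y : G)))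
    exact cen_misc.1 (hK c3 c5)
  -- the Sylow two-subgroup
  have hexpC : ∀ (x : G), x ∈ centralizer ({t} : Set G) → ∀ k : ℕ, x ^ 2 ^ k = 1 → x * x = 1 := by
    intro x hx k hk
    have hx' : (⟨x, hx⟩ : centralizer ({t} : Set G)) ^ 6 = 1 ∨
        (⟨x, hx⟩ : centralizer ({t} : Set G)) ^ 10 = 1 :=
      (cen_exponent (φ ⟨x, hx⟩)).imp (fun h => φ.injective (by rw [map_pow, h, map_one]))
        (fun h => φ.injective (by rw [map_pow, h, map_one]))
    have hd : orderOf x ∣ 2 := by
      have h2 : orderOf x ∣ 2 ^ k := orderOf_dvd_of_pow_eq_one hk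
      rcases hx' with h | h
      · have h6 : orderOf x ∣ 6 := orderOf_dvd_of_pow_eq_one (congrArg Subtype.val h)
        exact (Nat.Coprime.dvd_of_dvd_mul_right
          (Nat.Coprime.coprime_dvd_left h2 (Nat.Coprime.pow_left k (by norm_num : Nat.Coprime 2 3))) (m := 2)
          h6)
      · have h10 : orderOf x ∣ 10 := orderOf_dvd_of_pow_eq_one (congrArg Subtype.val h)
        exact (Nat.Coprime.dvd_of_dvd_mul_right
          (Nat.Coprime.coprime_dvd_left h2 (Nat.Coprime.pow_left k (by norm_num : Nat.Coprime 2 5))) (m := 2)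
          h10)
    rw [← pow_two]; exact orderOf_dvd_iff_pow_eq_one.mp hd
  have hP8 : Nat.card (P : Subgroup G) ∣ 8 := by
    have h1 : Nat.card (P : Subgroup G) ∣ 8 * 15 := (card_dvd_of_le hPC).trans hC.dvd
    obtain ⟨n, hn⟩ := IsPGroup.iff_card.mp P.2
    rw [hn] at h1 ⊢
    exact (Nat.Coprime.pow_left n (by norm_num : Nat.Coprime 2 15)).dvd_of_dvd_mul_right h1
  have h120 : 120 ∣ Nat.card G := hC ▸ card_subgroup_dvd_card _
  have h8G : (P : Subgroup G).index * Nat.card (P : Subgroup G) = Nat.card G := by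
    rw [mul_comm, card_mul_index]
  have h16 : ¬ 16 ∣ Nat.card G := fun h => by
    have h1 : 2 ^ 4 ∣ Nat.card (P : Subgroup G) := P.pow_dvd_card_of_pow_dvd_card h
    have h2 := Nat.le_of_dvd (by norm_num) (h1.trans hP8)
    norm_num at h2
  have hP : Nat.card (P : Subgroup G) = 8 := Nat.dvd_antisymm hP8
    (P.pow_dvd_card_of_pow_dvd_card (n := 3) ((by norm_num : 2 ^ 3 ∣ 120).trans h120))
  have hsq : ∀ x ∈ (P : Subgroup G), x * x = 1 := fun x hx => by
    obtain ⟨k, hk⟩ := P.2 ⟨x, hx⟩
    exact hexpC x (hPC hx) k (congrArg Subtype.val hk)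
  have hcomm : ∀ a ∈ (P : Subgroup G), ∀ b ∈ (P : Subgroup G), a * b = b * a := fun a ha b hb => by
    have h1 := hsq _ (mul_mem ha hb)
    rw [mul_eq_one_iff_eq_inv, mul_inv_rev, inv_eq_of_mul_eq_one_right (hsq a ha),
      inv_eq_of_mul_eq_one_right (hsq b hb)] at h1
    exact h1
  have hinto : ∀ (x : G) (k : ℕ), x ^ 2 ^ k = 1 → ∃ g : G, g * x * g⁻¹ ∈ (P : Subgroup G) := by
    intro x k hk
    have hp : IsPGroup 2 (zpowers x) := by
      obtain ⟨j, -, hj⟩ := (Nat.dvd_prime_pow Nat.prime_two).mp (orderOf_dvd_of_pow_eq_one hk)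
      exact IsPGroup.of_card (n := j) (by rw [Nat.card_zpowers, hj])
    obtain ⟨Q, hQ⟩ := hp.exists_le_sylow
    obtain ⟨g, hg⟩ := MulAction.exists_smul_eq G Q P
    refine ⟨g, ?_⟩
    rw [← hg, Sylow.coe_subgroup_smul]
    exact ⟨x, hQ (mem_zpowers x), rfl⟩
  have htwo : ∀ (g : G) (k : ℕ), g ^ 2 ^ k = 1 → g * g = 1 := fun x k hk => by
    obtain ⟨g, hg⟩ := hinto x k hk
    have h1 : g * (x * x) * g⁻¹ = 1 := by
      rw [← hsq _ hg]; group
    exact conj_eq_one_iff.mp h1
  -- the class of `t` has odd size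
  haveI := Fintype.ofFinite G
  let T : Finset G := Finset.univ.filter fun x => IsConj t x
  have hTodd : (T.card : ZMod 2) = 1 := by
    have h1 : T.card * 120 = Nat.card G := by
      rw [← Involution.card_isConj_mul_card_centralizer t, hC, Nat.card_eq_fintype_card,
        Fintype.card_subtype]
    have h2 : ¬ 2 ∣ T.card := fun ⟨m, hm⟩ => h16 ⟨15 * m, by rw [← h1, hm]; ring⟩
    rw [← ZMod.natCast_mod T.card 2, show T.card % 2 = 1 by omega]; rfl
  have htt : t * t = 1 := Involution.mul_self_eq_one ht2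
  let Tf : Finset G := T.filter fun x => x * t = t * x
  have hTf : (Tf.card : ZMod 2) = 1 := by
    rw [← hTodd, Finset.card_eq_sum_ones, Finset.card_eq_sum_ones, Nat.cast_sum, Nat.cast_sum]
    rw [← Finset.sum_filter_add_sum_filter_not T (fun x => x * t = t * x)]
    refine (add_eq_left.mpr ?_).symm
    refine Finset.sum_involution (fun x _ => t * x * t⁻¹) (fun x _ => by rw [Nat.cast_one]; exact CharTwo.add_self_eq_zero 1)
      (fun x hx _ h => (Finset.mem_filter.mp hx).2 (mul_inv_eq_iff_eq_mul.mp h).symm)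
      (fun x hx => ?_) (fun x _ => ?_)
    · simp only [T, Finset.mem_filter, Finset.mem_univ, true_and] at hx ⊢
      refine ⟨hx.1.trans (isConj_iff.mpr ⟨t, rfl⟩), fun h => hx.2 ?_⟩
      have h' : t * (x * t) * t⁻¹ = t * (t * x) * t⁻¹ := by
        calc t * (x * t) * t⁻¹ = (t * x * t⁻¹) * t := by group
          _ = t * (t * x * t⁻¹) := h
          _ = t * (t * x) * t⁻¹ := by group
      exact mul_left_cancel (mul_right_cancel h')
    · have : t⁻¹ = t := Involution.inv_eq_self htt
      rw [this]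
      calc t * (t * x * t) * t = (t * t) * x * (t * t) := by group
        _ = x := by rw [htt]; group
  let i0 : G := (φ.symm ci : centralizer ({t} : Set G))
  let i1 : G := (φ.symm (cz * ci) : centralizer ({t} : Set G))
  have hclass : ∀ x : centralizer ({t} : Set G), (x : G) * x = 1 → (x : G) ≠ 1 → (x : G) ≠ t →
      ((∃ g : Cen2A5, g * ci * g⁻¹ = φ x) ∧ IsConj i0 (x : G)) ∨
      ((∃ g : Cen2A5, g * (cz * ci) * g⁻¹ = φ x) ∧ IsConj i1 (x : G)) := by
    intro x hx hx1 hxt
    have h1 : φ x * φ x = 1 := by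
      rw [← map_mul, show x * x = 1 from Subtype.ext hx, map_one]
    have h2 : φ x ≠ 1 := fun h => hx1 (by rw [(map_eq_one_iff φ φ.injective).mp h, coe_one])
    have h3 : φ x ≠ cz := fun h => hxt (by rw [← htz] at h; rw [φ.injective h])
    have key : ∀ c g : Cen2A5, g * c * g⁻¹ = φ x →
        IsConj ((φ.symm c : centralizer ({t} : Set G)) : G) (x : G) := fun c g hg => by
      refine isConj_iff.mpr ⟨(φ.symm g : centralizer ({t} : Set G)), ?_⟩
      rw [← coe_inv, ← coe_mul, ← coe_mul]
      refine congrArg Subtype.val (φ.injective ?_)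
      simp only [map_mul, map_inv, MulEquiv.apply_symm_apply]
      exact hg
    rcases cen_involution_conj (φ x) h1 h2 h3 with ⟨g, hg⟩ | ⟨g, hg⟩
    · exact Or.inl ⟨⟨g, hg⟩, key ci g hg⟩
    · exact Or.inr ⟨⟨g, hg⟩, key (cz * ci) g hg⟩
  have hcount : Tf.card = 1 + (if IsConj t i0 then 15 else 0) + (if IsConj t i1 then 15 else 0) := by
    let A : Finset Cen2A5 := if IsConj t i0 then
      Finset.univ.filter fun k => ∃ g, g * ci * g⁻¹ = k else ∅
    let B : Finset Cen2A5 := if IsConj t i1 then
      Finset.univ.filter fun k => ∃ g, g * (cz * ci) * g⁻¹ = k else ∅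
    have hAB : Disjoint A B := by
      rw [Finset.disjoint_left]
      intro k hkA hkB
      simp only [A, B] at hkA hkB
      split_ifs at hkA hkB with ha hb <;>
        simp only [Finset.notMem_empty, Finset.mem_filter, Finset.mem_univ, true_and] at hkA hkB
      exact cen_fst_ne hkA.choose hkB.choose (by rw [hkA.choose_spec, hkB.choose_spec])
    have hz : cz ∉ A ∪ B := by
      simp only [A, B, Finset.mem_union, not_or]
      constructor <;> split_ifs <;>
        simp only [Finset.notMem_empty, Finset.mem_filter, Finset.mem_univ, true_and, not_false_eq_true]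
      · exact not_exists.mpr cen_misc.2.2.2.2.2.1
      · exact not_exists.mpr cen_misc.2.2.2.2.2.2
    have hi0 : (i0 * i0 = 1 ∧ i0 ≠ 1) ∧ (i1 * i1 = 1 ∧ i1 ≠ 1) := by
      refine ⟨⟨?_, ?_⟩, ?_, ?_⟩
      · simp only [i0, ← coe_mul, ← map_mul]
        rw [cen_misc.2.1, map_one, coe_one]
      · simp only [i0, ne_eq, OneMemClass.coe_eq_one, MulEquiv.map_eq_one_iff]
        exact cen_misc.2.2.1
      · simp only [i1, ← coe_mul, ← map_mul]
        rw [cen_misc.2.2.2.1, map_one, coe_one]
      · simp only [i1, ne_eq, OneMemClass.coe_eq_one, MulEquiv.map_eq_one_iff]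
        exact cen_misc.2.2.2.2.1
    have himg : Tf = (insert cz (A ∪ B)).image fun k => ((φ.symm k : centralizer ({t} : Set G)) : G) := by
      ext x
      simp only [Tf, T, Finset.mem_filter, Finset.mem_univ, true_and, Finset.mem_image,
        Finset.mem_insert, Finset.mem_union]
      constructor
      · rintro ⟨hx, hxt⟩
        let xC : centralizer ({t} : Set G) := ⟨x, mem_centralizer_singleton_iff.mpr hxt⟩
        refine ⟨φ xC, ?_, by simp [xC]⟩
        by_cases hxt' : x = t
        · left; rw [← htz]; exact congrArg φ (Subtype.ext hxt')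
        have hx2 : orderOf x = 2 := by rw [Involution.isConj_orderOf hx]; exact ht2
        rcases hclass xC (Involution.mul_self_eq_one hx2) (Involution.ne_one hx2) hxt' with
          ⟨hg, hc⟩ | ⟨hg, hc⟩
        · right; left; simp only [A, if_pos (hx.trans hc.symm)]; simpa using hg
        · right; right; simp only [B, if_pos (hx.trans hc.symm)]; simpa using hg
      · rintro ⟨k, hk, rfl⟩
        refine ⟨?_, mem_centralizer_singleton_iff.mp (φ.symm k).2⟩
        have key : ∀ c g : Cen2A5, g * c * g⁻¹ = k → IsConj ((φ.symm c : centralizer ({t} : Set G)) : G)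
            ((φ.symm k : centralizer ({t} : Set G)) : G) := fun c g hg =>
          isConj_iff.mpr ⟨(φ.symm g : centralizer ({t} : Set G)),
            by rw [← hg]; simp only [map_mul, map_inv, coe_mul, coe_inv]⟩
        rcases hk with rfl | hk | hk
        · rw [← htz, φ.symm_apply_apply]
        · simp only [A] at hk
          split_ifs at hk with ha
          · simp only [Finset.mem_filter, Finset.mem_univ, true_and] at hk
            obtain ⟨g, hg⟩ := hk
            exact ha.trans (key ci g hg)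
          · simp at hk
        · simp only [B] at hk
          split_ifs at hk with ha
          · simp only [Finset.mem_filter, Finset.mem_univ, true_and] at hk
            obtain ⟨g, hg⟩ := hk
            exact ha.trans (key _ g hg)
          · simp at hk
    rw [himg, Finset.card_image_of_injective _ fun a b h => φ.symm.injective (Subtype.ext h),
      Finset.card_insert_of_notMem hz, Finset.card_union_of_disjoint hAB, add_comm _ 1, add_assoc]
    congr 1
    congr 1
    · simp only [A]; split_ifs <;> [exact cen_card_class.1; rfl]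
    · simp only [B]; split_ifs <;> [exact cen_card_class.2; rfl]
  have hboth : IsConj t i0 ∧ IsConj t i1 := by
    by_cases h0 : IsConj t i0 <;> by_cases h1 : IsConj t i1
    · exact ⟨h0, h1⟩
    · rw [hcount, if_pos h0, if_neg h1] at hTf; exact absurd hTf cen_parity.1
    · rw [hcount, if_neg h0, if_pos h1] at hTf; exact absurd hTf cen_parity.2
    · exfalso
      refine Involution.ne_one ht2 (EightInvolution.eq_one_of_normalizer_fixes hG P hcomm htP
        fun n hn => ?_)
      have hnP : n * t * n⁻¹ ∈ (P : Subgroup G) := (mem_normalizer_iff.mp hn t).mp htP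
      by_contra hne
      have hne1 : n * t * n⁻¹ ≠ 1 := fun h => Involution.ne_one ht2 (conj_eq_one_iff.mp h)
      rcases hclass ⟨_, hPC hnP⟩ (hsq _ hnP) hne1 hne with ⟨-, hc⟩ | ⟨-, hc⟩
      · exact h0 ((isConj_iff.mpr ⟨n, rfl⟩ : IsConj t (n * t * n⁻¹)).trans hc.symm)
      · exact h1 ((isConj_iff.mpr ⟨n, rfl⟩ : IsConj t (n * t * n⁻¹)).trans hc.symm)
  have hPconj : ∀ x ∈ (P : Subgroup G), x ≠ 1 → IsConj t x := fun x hx hx1 => by
    by_cases hxt : x = t
    · rw [hxt]
    rcases hclass ⟨x, hPC hx⟩ (hsq x hx) hx1 hxt with ⟨-, hc⟩ | ⟨-, hc⟩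
    · exact hboth.1.trans hc
    · exact hboth.2.trans hc
  have hall : ∀ v : G, orderOf v = 2 → IsConj t v := fun v hv => by
    obtain ⟨g, hg⟩ := hinto v 1 (by rw [pow_one, ← hv, pow_orderOf_eq_one])
    exact (hPconj _ hg fun h => Involution.ne_one hv (conj_eq_one_iff.mp h)).trans
      (isConj_iff.mpr ⟨g⁻¹, by group⟩)
  refine ⟨fun v hv => ?_, fun v w hv hw => (hall v hv).symm.trans (hall w hw), htwo, h16, ?_⟩
  · obtain ⟨g, hg⟩ := isConj_iff.mp (hall v hv)
    have heq : (centralizer ({t} : Set G)).map (MulAut.conj g).toMonoidHom =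
        centralizer ({v} : Set G) := by
      ext x
      constructor
      · rintro ⟨y, hy, rfl⟩
        rw [SetLike.mem_coe, mem_centralizer_singleton_iff] at hy
        rw [mem_centralizer_singleton_iff, ← hg]
        show g * y * g⁻¹ * (g * t * g⁻¹) = g * t * g⁻¹ * (g * y * g⁻¹)
        calc g * y * g⁻¹ * (g * t * g⁻¹) = g * (y * t) * g⁻¹ := by group
          _ = g * (t * y) * g⁻¹ := by rw [hy]
          _ = g * t * g⁻¹ * (g * y * g⁻¹) := by group
      · intro hx
        rw [mem_centralizer_singleton_iff, ← hg] at hx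
        refine ⟨g⁻¹ * x * g, mem_centralizer_singleton_iff.mpr ?_, ?_⟩
        · calc g⁻¹ * x * g * t = g⁻¹ * (x * (g * t * g⁻¹)) * g := by group
            _ = g⁻¹ * (g * t * g⁻¹ * x) * g := by rw [hx]
            _ = t * (g⁻¹ * x * g) := by group
        · show g * (g⁻¹ * x * g) * g⁻¹ = x
          group
    let ψ : centralizer ({v} : Set G) ≃* Cen2A5 :=
      ((MulEquiv.subgroupCongr heq.symm).trans
        ((centralizer ({t} : Set G)).equivMapOfInjective _ (MulAut.conj g).injective).symm).trans φ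
    exact ⟨ψ, exists_model_cz hv ψ⟩
  · -- seven
    let N := normalizer ((P : Subgroup G) : Set G)
    let K : Subgroup (ConjAct G) := N.map ConjAct.toConjAct.toMonoidHom
    have horb : MulAction.orbit K t = {x | x ∈ (P : Subgroup G) ∧ x ≠ 1} := by
      ext x
      constructor
      · rintro ⟨⟨_, n, hn, rfl⟩, rfl⟩
        refine ⟨?_, fun h => ?_⟩
        · exact (mem_normalizer_iff.mp hn t).mp htP
        · exact Involution.ne_one ht2 (conj_eq_one_iff.mp h)
      · rintro ⟨hx, hx1⟩
        haveI : IsMulCommutative (P : Subgroup G) :=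
          ⟨⟨fun a b => Subtype.ext (hcomm a a.2 b b.2)⟩⟩
        obtain ⟨g, hg⟩ := isConj_iff.mp (hPconj x hx hx1)
        obtain ⟨n, hn, he⟩ := P.conj_eq_normalizer_conj_of_mem t g⁻¹ htP (by rw [inv_inv, hg]; exact hx)
        rw [inv_inv, hg] at he
        refine ⟨⟨ConjAct.toConjAct n⁻¹, ⟨n⁻¹, inv_mem hn, rfl⟩⟩, ?_⟩
        show n⁻¹ * t * n⁻¹⁻¹ = x
        rw [inv_inv, he]
    have hc7 : (MulAction.orbit K t).ncard = 7 := by
      rw [horb, show {x | x ∈ (P : Subgroup G) ∧ x ≠ 1} = ((P : Subgroup G) : Set G) \ {1} by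
        ext x; exact Iff.rfl, Set.ncard_sdiff_singleton_of_mem (one_mem _), ← Nat.card_coe_set_eq]
      exact congrArg (· - 1) hP
    have h1 := MulAction.index_stabilizer K t
    rw [hc7] at h1
    have h2 : 7 ∣ Nat.card K := ⟨_, by rw [← (MulAction.stabilizer K t).card_mul_index, h1, mul_comm]⟩
    exact h2.trans ((N.card_map_dvd _).trans (card_subgroup_dvd_card _))

end Cfsg.Agent.Lib.JankoOrder
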