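import Cfsg.Agent.Lib.JankoOrder.Three
import Mathlib

/-!
# The two possible local types
-/

set_option autoImplicit false
set_option linter.unusedSectionVars false
set_option linter.style.haveILetI false

namespace Cfsg.Agent.Lib.JankoOrder

open Cfsg Subgroup

universe u

variable {G : Type u} [Group G] [Finite G]

theorem cen_orders : orderOf c3 = 3 ∧ orderOf c5 = 5 :=
  haveI : Fact (Nat.Prime 3) := ⟨Nat.prime_three⟩
  haveI : Fact (Nat.Prime 5) := ⟨Nat.prime_five⟩
  ⟨orderOf_eq_prime (by decide +kernel) (by decide +kernel),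
    orderOf_eq_prime (by decide +kernel) (by decide +kernel)⟩

/-- The local type: the orders of the odd parts for the elements of order three and of order five. -/
structure LocalType (G : Type u) [Group G] (n3 n5 : ℕ) : Prop where
  three : ∀ v g : G, Axial v g → orderOf g = 3 → Nat.card (oddCent g) = n3
  five : ∀ v g : G, Axial v g → orderOf g = 5 → Nat.card (oddCent g) = n5

namespace Hyp

variable (H : Hyp G)
include H

theorem exists_axial {v : G} (hv : orderOf v = 2) :
    (∃ g, Axial v g ∧ orderOf g = 3) ∧ ∃ g, Axial v g ∧ orderOf g = 5 := by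
  obtain ⟨φ, -⟩ := H.model v hv
  have key : ∀ c : Cen2A5, (orderOf c = 3 ∨ orderOf c = 5) →
      ∃ g, Axial v g ∧ orderOf g = orderOf c := fun c hc => by
    have ho : orderOf ((φ.symm c : centralizer ({v} : Set G)) : G) = orderOf c := by
      rw [Subgroup.orderOf_coe, MulEquiv.orderOf_eq]
    exact ⟨_, ⟨hv, mem_centralizer_singleton_iff.mp (φ.symm c).2, by rw [ho]; exact hc⟩, ho⟩
  obtain ⟨g, A, hg⟩ := key c3 (Or.inl cen_orders.1)
  obtain ⟨g', A', hg'⟩ := key c5 (Or.inr cen_orders.2)
  exact ⟨⟨g, A, hg.trans cen_orders.1⟩, ⟨g', A', hg'.trans cen_orders.2⟩⟩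

theorem localType {v : G} (hv : orderOf v = 2) : LocalType G 3 5 ∨ LocalType G 15 15 := by
  obtain ⟨⟨x, Ax, hx⟩, ⟨y, Ay, hy⟩⟩ := H.exists_axial hv
  have h3 : ∀ w g, Axial w g → orderOf g = 3 → Nat.card (oddCent g) = Nat.card (oddCent x) :=
    fun w g A hg => H.card_oddCent_eq A Ax (hg.trans hx.symm)
  have h5 : ∀ w g, Axial w g → orderOf g = 5 → Nat.card (oddCent g) = Nat.card (oddCent y) :=
    fun w g A hg => H.card_oddCent_eq A Ay (hg.trans hy.symm)
  -- order three
  have hX : Nat.card (oddCent x) = 3 ∨ ((Nat.card (oddCent x) = 15 ∨ Nat.card (oddCent x) = 75) ∧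
      3 ∣ Nat.card (oddCent y) ∧ Nat.card (oddCent x) ∣ Nat.card (oddCent y)) := by
    rcases H.shape Ax (q := 5) (by omega) with h | ⟨h, w, g, A, hg, hd1, hd2⟩ | ⟨s, F, ha, hb⟩
    · exact Or.inl (h.trans hx)
    · right
      rw [h5 w g A hg, hx] at hd1
      rw [h5 w g A hg] at hd2
      rw [hx] at h
      exact ⟨h, hd1, hd2⟩
    · exact (H.false_of_cube_three F hx (ha.trans hx) (hb.trans hx)).elim
  -- order five
  have hY : Nat.card (oddCent y) = 5 ∨ ((Nat.card (oddCent y) = 15 ∨ Nat.card (oddCent y) = 45) ∧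
      5 ∣ Nat.card (oddCent x) ∧ Nat.card (oddCent y) ∣ Nat.card (oddCent x)) := by
    rcases H.shape Ay (q := 3) (by omega) with h | ⟨h, w, g, A, hg, hd1, hd2⟩ | ⟨s, F, ha, hb⟩
    · exact Or.inl (h.trans hy)
    · right
      rw [h3 w g A hg, hy] at hd1
      rw [h3 w g A hg] at hd2
      rw [hy] at h
      exact ⟨h, hd1, hd2⟩
    · exfalso
      have hc : Nat.card (oddCent y) = 125 := by rw [F.card_oddCent H, ha, hb, hy]
      refine H.false_of_cube_five F hy (ha.trans hy) (hb.trans hy) fun w g A hg hd => ?_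
      rw [h3 w g A hg] at hd
      rcases hX with e | ⟨-, e, -⟩
      · rw [e] at hd; norm_num at hd
      · rw [hc] at e; norm_num at e
  rcases hX with hx3 | ⟨hx', hdy, hxy⟩ <;> rcases hY with hy5 | ⟨hy', hdx, hyx⟩
  · exact Or.inl ⟨fun w g A hg => (h3 w g A hg).trans hx3, fun w g A hg => (h5 w g A hg).trans hy5⟩
  · rw [hx3] at hdx; norm_num at hdx
  · rw [hy5] at hdy; norm_num at hdy
  · right
    have hx15 : Nat.card (oddCent x) = 15 := by
      rcases hx' with e | e
      · exact e
      · rcases hy' with e' | e' <;> rw [e, e'] at hxy <;> norm_num at hxy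
    have hy15 : Nat.card (oddCent y) = 15 := by
      rcases hy' with e | e
      · exact e
      · rw [e, hx15] at hyx; norm_num at hyx
    exact ⟨fun w g A hg => (h3 w g A hg).trans hx15, fun w g A hg => (h5 w g A hg).trans hy15⟩

end Hyp

end Cfsg.Agent.Lib.JankoOrder
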