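import Cfsg.Agent.Lib.JankoOrder.Basic
import Cfsg.Agent.Lib.Involution.ThompsonTransfer
import Mathlib

/-!
# Involution centralisers and centralisers of the elements of order three and five in them
-/

set_option autoImplicit false
set_option linter.unusedSectionVars false
set_option linter.style.haveILetI false

namespace Cfsg.Agent.Lib.JankoOrder

open Cfsg Subgroup

theorem cen_pow_cent : ∀ k : Cen2A5, k ^ 15 = 1 → k ≠ 1 → ∀ g : Cen2A5, g * k = k * g →
    ∃ i : Fin 2, ∃ j : Fin 5, g = cz ^ (i : ℕ) * k ^ (j : ℕ) := by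
  decide +kernel

theorem cen_inverting : ∀ k : Cen2A5, k ^ 15 = 1 → k ≠ 1 →
    ∃ g : Cen2A5, g * g = 1 ∧ g ≠ 1 ∧ g * k * g⁻¹ = k⁻¹ := by
  decide +kernel

theorem cen_five_not_sq : ∀ k : Cen2A5, k ^ 5 = 1 → k ≠ 1 → ∀ g : Cen2A5, g * k * g⁻¹ ≠ k * k := by
  decide +kernel

theorem cen_five_rev : ∃ d : Cen2A5, d * (c5 * c5 * (c5 * c5)) * d⁻¹ = c5 := by decide +kernel

universe u

variable {G : Type u} [Group G] [Finite G]

/-- The involutions. -/
def invol (G : Type u) [Group G] : Set G := {v | orderOf v = 2}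

theorem ncard_commuting {v : G} (φ : centralizer ({v} : Set G) ≃* Cen2A5) (P : G → Prop)
    (Q : Cen2A5 → Prop) [DecidablePred Q] (h : ∀ x : centralizer ({v} : Set G), P (x : G) ↔ Q (φ x)) :
    {g : G | g * v = v * g ∧ P g}.ncard = (Finset.univ.filter Q).card := by
  rw [← Nat.card_coe_set_eq, ← Fintype.card_subtype, ← Nat.card_eq_fintype_card]
  exact Nat.card_congr
    { toFun := fun g => ⟨φ ⟨g.1, mem_centralizer_singleton_iff.mpr g.2.1⟩, (h _).mp g.2.2⟩
      invFun := fun k => ⟨(φ.symm k.1 : G), mem_centralizer_singleton_iff.mp (φ.symm k.1).2,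
        (h _).mpr (by rw [φ.apply_symm_apply]; exact k.2)⟩
      left_inv := fun g => Subtype.ext (by simp)
      right_inv := fun k => Subtype.ext (by simp) }

namespace Hyp

variable (H : Hyp G)
include H

theorem card_cent {v : G} (hv : orderOf v = 2) : Nat.card (centralizer ({v} : Set G)) = 120 := by
  obtain ⟨φ, -⟩ := H.model v hv
  rw [Nat.card_congr φ.toEquiv, Nat.card_eq_fintype_card, cen_card]

theorem card_group {v : G} (hv : orderOf v = 2) : (invol G).ncard * 120 = Nat.card G := by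
  have he : invol G = {y | IsConj v y} :=
    Set.ext fun y => ⟨fun hy => H.conj_all v y hv hy,
      fun hy => (Involution.isConj_orderOf hy).trans hv⟩
  rw [← Involution.card_isConj_mul_card_centralizer v, H.card_cent hv, ← Nat.card_coe_set_eq, he]
  rfl

theorem pow_of_commute {v g : G} (hv : orderOf v = 2) (hg : g * v = v * g) :
    g ^ 6 = 1 ∨ g ^ 10 = 1 := by
  obtain ⟨φ, -⟩ := H.model v hv
  let x : centralizer ({v} : Set G) := ⟨g, mem_centralizer_singleton_iff.mpr hg⟩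
  refine (cen_exponent (φ x)).imp (fun h => ?_) (fun h => ?_) <;>
  · rw [← map_pow, map_eq_one_iff φ φ.injective] at h
    exact congrArg Subtype.val h

theorem odd_cases {v g : G} (hv : orderOf v = 2) (hg : g * v = v * g) (ho : Odd (orderOf g)) :
    g = 1 ∨ orderOf g = 3 ∨ orderOf g = 5 := by
  rw [← orderOf_eq_one_iff]
  rcases H.pow_of_commute hv hg with h | h
  · have hd : orderOf g ∣ 3 := (Nat.coprime_two_right.mpr ho).dvd_of_dvd_mul_right
      (m := 3) (by simpa using orderOf_dvd_of_pow_eq_one h)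
    rcases (Nat.dvd_prime Nat.prime_three).mp hd with h' | h' <;> omega
  · have hd : orderOf g ∣ 5 := (Nat.coprime_two_right.mpr ho).dvd_of_dvd_mul_right
      (m := 5) (by simpa using orderOf_dvd_of_pow_eq_one h)
    rcases (Nat.dvd_prime Nat.prime_five).mp hd with h' | h' <;> omega

theorem model_pow {v g : G} (hv : orderOf v = 2) (hg : g * v = v * g)
    (hp : orderOf g = 3 ∨ orderOf g = 5) : ∃ φ : centralizer ({v} : Set G) ≃* Cen2A5,
      φ ⟨v, mem_centralizer_singleton_iff.mpr rfl⟩ = cz ∧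
      φ ⟨g, mem_centralizer_singleton_iff.mpr hg⟩ ^ 15 = 1 ∧
      φ ⟨g, mem_centralizer_singleton_iff.mpr hg⟩ ≠ 1 := by
  obtain ⟨φ, hφ⟩ := H.model v hv
  refine ⟨φ, hφ _ rfl, ?_, fun h => ?_⟩
  · rw [← map_pow, map_eq_one_iff φ φ.injective]
    refine Subtype.ext ?_
    rw [coe_pow, coe_one]
    exact orderOf_dvd_iff_pow_eq_one.mp (by rcases hp with h | h <;> rw [h] <;> norm_num)
  · rw [map_eq_one_iff φ φ.injective] at h
    have h1 : g = 1 := congrArg Subtype.val h
    rw [h1, orderOf_one] at hp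
    omega

theorem exists_inverting {v g : G} (hv : orderOf v = 2) (hg : g * v = v * g)
    (hp : orderOf g = 3 ∨ orderOf g = 5) :
    ∃ s : G, orderOf s = 2 ∧ s * v = v * s ∧ s * g * s⁻¹ = g⁻¹ ∧ s ≠ v := by
  obtain ⟨φ, hcz, h15, hne⟩ := H.model_pow hv hg hp
  obtain ⟨k, hk, hk1, hki⟩ := cen_inverting _ h15 hne
  obtain ⟨s, rfl⟩ := φ.surjective k
  rw [← map_mul, map_eq_one_iff φ φ.injective] at hk
  rw [ne_eq, map_eq_one_iff φ φ.injective] at hk1
  rw [← map_inv φ, ← map_inv φ, ← map_mul, ← map_mul] at hki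
  have h := congrArg Subtype.val (φ.injective hki)
  simp only [coe_mul, coe_inv] at h
  refine ⟨s, Involution.orderOf_eq_two (congrArg Subtype.val hk) (fun hs => hk1 (Subtype.ext hs)),
    mem_centralizer_singleton_iff.mp s.2, h, fun hs => ?_⟩
  rw [hs, mul_inv_eq_iff_eq_mul] at h
  rw [← hg, mul_right_cancel_iff] at h
  have h2 : g ^ 2 = 1 := by rw [pow_two]; exact eq_inv_iff_mul_eq_one.mp h
  have := Nat.le_of_dvd (by norm_num) (orderOf_dvd_of_pow_eq_one h2)
  omega

theorem cent_form {v g x : G} (hv : orderOf v = 2) (hg : g * v = v * g)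
    (hp : orderOf g = 3 ∨ orderOf g = 5) (hxv : x * v = v * x) (hxg : x * g = g * x) :
    ∃ i j : ℕ, x = v ^ i * g ^ j := by
  obtain ⟨φ, hcz, h15, hne⟩ := H.model_pow hv hg hp
  obtain ⟨i, j, hij⟩ := cen_pow_cent _ h15 hne (φ ⟨x, mem_centralizer_singleton_iff.mpr hxv⟩)
    (by rw [← map_mul, ← map_mul]; exact congrArg φ (Subtype.ext hxg))
  rw [← hcz, ← map_pow, ← map_pow, ← map_mul] at hij
  refine ⟨i, j, ?_⟩
  have h := congrArg Subtype.val (φ.injective hij)
  simpa using h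

theorem conj_model {v g h : G} {φ : centralizer ({v} : Set G) ≃* Cen2A5} (hg : g * v = v * g)
    (hh : h * v = v * h) {k : Cen2A5}
    (hk : k * φ ⟨g, mem_centralizer_singleton_iff.mpr hg⟩ * k⁻¹ =
      φ ⟨h, mem_centralizer_singleton_iff.mpr hh⟩) :
    ∃ c : G, c * v = v * c ∧ c * g * c⁻¹ = h := by
  obtain ⟨c, rfl⟩ := φ.surjective k
  rw [← map_inv φ, ← map_mul, ← map_mul] at hk
  have e := congrArg Subtype.val (φ.injective hk)
  simp only [coe_mul, coe_inv] at e
  exact ⟨c, mem_centralizer_singleton_iff.mp c.2, e⟩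

theorem conj_three {v g h : G} (hv : orderOf v = 2) (hg : g * v = v * g) (hgo : orderOf g = 3)
    (hh : h * v = v * h) (hho : orderOf h = 3) : ∃ c : G, c * v = v * c ∧ c * g * c⁻¹ = h := by
  obtain ⟨φ, -⟩ := H.model v hv
  have key : ∀ x : G, orderOf x = 3 → ∀ hx : x * v = v * x,
      φ ⟨x, mem_centralizer_singleton_iff.mpr hx⟩ ^ 3 = 1 ∧
      φ ⟨x, mem_centralizer_singleton_iff.mpr hx⟩ ≠ 1 := fun x hxo hx => by
    refine ⟨?_, fun e => ?_⟩
    · rw [← map_pow, map_eq_one_iff φ φ.injective]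
      exact Subtype.ext (by rw [coe_pow, coe_one, ← hxo]; exact pow_orderOf_eq_one x)
    · rw [map_eq_one_iff φ φ.injective] at e
      rw [show x = 1 from congrArg Subtype.val e, orderOf_one] at hxo
      omega
  obtain ⟨a, ha⟩ := cen_three_conj _ (key g hgo hg).1 (key g hgo hg).2
  obtain ⟨b, hb⟩ := cen_three_conj _ (key h hho hh).1 (key h hho hh).2
  exact H.conj_model hg hh (k := b * a⁻¹) (by rw [← ha, ← hb]; group)

theorem conj_five {v g h : G} (hv : orderOf v = 2) (hg : g * v = v * g) (hgo : orderOf g = 5)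
    (hh : h * v = v * h) (hho : orderOf h = 5) :
    ∃ c : G, c * v = v * c ∧ (c * g * c⁻¹ = h ∨ c * (g * g) * c⁻¹ = h) := by
  obtain ⟨φ, -⟩ := H.model v hv
  have key : ∀ x : G, orderOf x = 5 → ∀ hx : x * v = v * x,
      φ ⟨x, mem_centralizer_singleton_iff.mpr hx⟩ ^ 5 = 1 ∧
      φ ⟨x, mem_centralizer_singleton_iff.mpr hx⟩ ≠ 1 := fun x hxo hx => by
    refine ⟨?_, fun e => ?_⟩
    · rw [← map_pow, map_eq_one_iff φ φ.injective]
      exact Subtype.ext (by rw [coe_pow, coe_one, ← hxo]; exact pow_orderOf_eq_one x)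
    · rw [map_eq_one_iff φ φ.injective] at e
      rw [show x = 1 from congrArg Subtype.val e, orderOf_one] at hxo
      omega
  have hgg : g * g * v = v * (g * g) := ((show Commute g v from hg).mul_left hg)
  obtain ⟨a, ha⟩ := cen_five_conj _ (key g hgo hg).1 (key g hgo hg).2
  obtain ⟨b, hb⟩ := cen_five_conj _ (key h hho hh).1 (key h hho hh).2
  have hsq : φ ⟨g * g, mem_centralizer_singleton_iff.mpr hgg⟩ =
      φ ⟨g, mem_centralizer_singleton_iff.mpr hg⟩ * φ ⟨g, mem_centralizer_singleton_iff.mpr hg⟩ := by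
    rw [← map_mul]; rfl
  obtain ⟨d, hd⟩ : ∃ d : Cen2A5, d * (c5 * c5 * (c5 * c5)) * d⁻¹ = c5 := cen_five_rev
  rcases ha with ha | ha <;> rcases hb with hb | hb
  · obtain ⟨c, h1, h2⟩ := H.conj_model hg hh (k := b * a⁻¹) (by rw [← ha, ← hb]; group)
    exact ⟨c, h1, Or.inl h2⟩
  · obtain ⟨c, h1, h2⟩ := H.conj_model hgg hh (k := b * a⁻¹) (by rw [hsq, ← ha, ← hb]; group)
    exact ⟨c, h1, Or.inr h2⟩
  · obtain ⟨c, h1, h2⟩ := H.conj_model hgg hh (k := b * d * a⁻¹) (by
      rw [hsq, ← ha, ← hb]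
      calc b * d * a⁻¹ * (a * (c5 * c5) * a⁻¹ * (a * (c5 * c5) * a⁻¹)) * (b * d * a⁻¹)⁻¹
          = b * (d * (c5 * c5 * (c5 * c5)) * d⁻¹) * b⁻¹ := by group
        _ = b * c5 * b⁻¹ := by rw [hd])
    exact ⟨c, h1, Or.inr h2⟩
  · obtain ⟨c, h1, h2⟩ := H.conj_model hg hh (k := b * a⁻¹) (by rw [← ha, ← hb]; group)
    exact ⟨c, h1, Or.inl h2⟩

theorem five_not_sq {v g c : G} (hv : orderOf v = 2) (hg : g * v = v * g) (hgo : orderOf g = 5)
    (hc : c * v = v * c) : c * g * c⁻¹ ≠ g * g := by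
  obtain ⟨φ, hcz, h15, hne⟩ := H.model_pow hv hg (Or.inr hgo)
  intro h
  refine cen_five_not_sq (φ ⟨g, mem_centralizer_singleton_iff.mpr hg⟩) ?_ hne
    (φ ⟨c, mem_centralizer_singleton_iff.mpr hc⟩) ?_
  · rw [← map_pow, map_eq_one_iff φ φ.injective]
    exact Subtype.ext (by rw [coe_pow, coe_one, ← hgo]; exact pow_orderOf_eq_one g)
  · rw [← map_inv, ← map_mul, ← map_mul, ← map_mul]
    exact congrArg φ (Subtype.ext h)

theorem no_four (g : G) : orderOf g ≠ 4 := fun hg => by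
  have h := H.two_exp g 2 (by rw [show (2 : ℕ) ^ 2 = orderOf g by rw [hg]; rfl, pow_orderOf_eq_one])
  have := Nat.le_of_dvd (by norm_num) (orderOf_dvd_of_pow_eq_one (by rw [pow_two]; exact h) : orderOf g ∣ 2)
  omega

theorem commute_of_two {a b : G} (hab : IsPGroup 2 (closure ({a, b} : Set G))) : a * b = b * a := by
  have key : ∀ x ∈ closure ({a, b} : Set G), x * x = 1 := fun x hx => by
    obtain ⟨k, hk⟩ := hab ⟨x, hx⟩
    exact H.two_exp x k (congrArg Subtype.val hk)
  have ha : a ∈ closure ({a, b} : Set G) := subset_closure (by simp)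
  have hb : b ∈ closure ({a, b} : Set G) := subset_closure (by simp)
  have h1 := key _ (mul_mem ha hb)
  rw [mul_eq_one_iff_eq_inv, mul_inv_rev, inv_eq_of_mul_eq_one_right (key a ha),
    inv_eq_of_mul_eq_one_right (key b hb)] at h1
  exact h1

/-- No element induces a transposition on a four group. -/
theorem no_transposition {a b w : G} (ha : orderOf a = 2) (hb : orderOf b = 2) (hab : a * b = b * a)
    (hne : a ≠ b) (h1 : w * a * w⁻¹ = b) (h2 : w * b * w⁻¹ = a) : False := by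
  obtain ⟨k, m, hm, hkm⟩ := Nat.exists_eq_two_pow_mul_odd (n := orderOf w) (orderOf_pos w).ne'
  have hw2 : (w ^ m) * (w ^ m) = 1 :=
    H.two_exp _ k (by rw [← pow_mul, mul_comm, ← hkm, pow_orderOf_eq_one])
  have key : ∀ n : ℕ, (w ^ (2 * n)) * a * (w ^ (2 * n))⁻¹ = a := by
    intro n
    induction n with
    | zero => simp
    | succ n ih =>
      calc w ^ (2 * (n + 1)) * a * (w ^ (2 * (n + 1)))⁻¹
          = w * (w * (w ^ (2 * n) * a * (w ^ (2 * n))⁻¹) * w⁻¹) * w⁻¹ := by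
            rw [show 2 * (n + 1) = 1 + (1 + 2 * n) by ring, pow_add, pow_add, pow_one]; group
        _ = a := by rw [ih, h1, h2]
  obtain ⟨n, hn⟩ := hm
  have h3 : w ^ m * a * (w ^ m)⁻¹ = b := by
    calc w ^ m * a * (w ^ m)⁻¹ = w * (w ^ (2 * n) * a * (w ^ (2 * n))⁻¹) * w⁻¹ := by
          rw [show m = 1 + 2 * n by omega, pow_add, pow_one]; group
      _ = b := by rw [key, h1]
  have hwi : (w ^ m)⁻¹ = w ^ m := inv_eq_of_mul_eq_one_right hw2
  rw [hwi] at h3
  have haa := Involution.mul_self_eq_one ha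
  have hbb := Involution.mul_self_eq_one hb
  have hsq : (a * w ^ m) ^ 2 = a * b := by
    rw [pow_two, show a * w ^ m * (a * w ^ m) = a * (w ^ m * a * w ^ m) by group, h3]
  have hne1 : a * b ≠ 1 := fun h => hne (by
    rw [mul_eq_one_iff_eq_inv, inv_eq_of_mul_eq_one_right hbb] at h; exact h)
  have h4 : (a * w ^ m) ^ 2 ^ 2 = 1 := by
    rw [show (2 : ℕ) ^ 2 = 2 * 2 by norm_num, pow_mul, hsq, pow_two]
    calc a * b * (a * b) = a * (b * a) * b := by group
      _ = (a * a) * (b * b) := by rw [← hab]; group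
      _ = 1 := by rw [haa, hbb, one_mul]
  exact hne1 (by rw [← hsq, pow_two]; exact H.two_exp _ 2 h4)

end Hyp

end Cfsg.Agent.Lib.JankoOrder
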