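import Cfsg.Agent.Lib.JankoOrder.Global
import Mathlib

/-!
# The classes of elements of order three, five and fifteen
-/

set_option autoImplicit false
set_option linter.unusedSectionVars false
set_option linter.style.haveILetI false

namespace Cfsg.Agent.Lib.JankoOrder

open Cfsg Subgroup

universe u

variable {G : Type u} [Group G] [Finite G]

/-- The two admissible types. -/
structure TypeData (G : Type u) [Group G] (n3 n5 : ℕ) : Prop extends LocalType G n3 n5 where
  admissible : (n3 = 3 ∧ n5 = 5) ∨ (n3 = 15 ∧ n5 = 15)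

theorem card_inverters_of_inverted {h s : G} (hs : orderOf s = 2) (hsh : s * h * s⁻¹ = h⁻¹)
    (hodd : Odd (Nat.card (centralizer ({h} : Set G))))
    (hinv : ∀ a ∈ centralizer ({h} : Set G), s * a * s⁻¹ = a⁻¹) :
    (inverters h).ncard = Nat.card (centralizer ({h} : Set G)) := by
  have hss := Involution.mul_self_eq_one hs
  have hsi : s⁻¹ = s := Involution.inv_eq_self hss
  have hhs : s * h⁻¹ * s⁻¹ = h := by
    calc s * h⁻¹ * s⁻¹ = (s * h * s⁻¹)⁻¹ := by group
      _ = h := by rw [hsh, inv_inv]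
  rw [← SetLike.coe_sort_coe, Nat.card_coe_set_eq,
    ← Set.ncard_image_of_injective (centralizer ({h} : Set G) : Set G) (mul_left_injective s)]
  congr 1
  ext w
  constructor
  · rintro ⟨-, hwh⟩
    refine ⟨w * s⁻¹, mem_centralizer_singleton_iff.mpr ?_, by simp⟩
    refine mul_inv_eq_iff_eq_mul.mp ?_
    calc w * s⁻¹ * h * (w * s⁻¹)⁻¹ = w * (s⁻¹ * h * s) * w⁻¹ := by group
      _ = w * (s * h * s⁻¹) * w⁻¹ := by rw [hsi]
      _ = (w * h * w⁻¹)⁻¹ := by rw [hsh]; group
      _ = h := by rw [hwh, inv_inv]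
  · rintro ⟨a, ha, rfl⟩
    have hsa : s * a * s = a⁻¹ := by
      have := hinv a ha
      rwa [hsi] at this
    have ha' : a * h⁻¹ = h⁻¹ * a := (Commute.inv_right (mem_centralizer_singleton_iff.mp ha)).eq
    have hact : a * s * h * (a * s)⁻¹ = h⁻¹ := by
      calc a * s * h * (a * s)⁻¹ = a * (s * h * s⁻¹) * a⁻¹ := by group
        _ = h⁻¹ := by rw [hsh, ha', mul_inv_cancel_right]
    refine ⟨Involution.orderOf_eq_two ?_ fun e => ?_, hact⟩
    · calc a * s * (a * s) = a * (s * a * s) := by group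
        _ = 1 := by rw [hsa, mul_inv_cancel]
    · have h1 : a = s := by
        rw [mul_eq_one_iff_eq_inv, hsi] at e; exact e
      have h2 := hodd.of_dvd_nat ((centralizer ({h} : Set G)).orderOf_dvd_natCard ha)
      rw [h1, hs] at h2
      exact absurd h2 (by decide)

theorem card_inverters_conj (c g : G) : (inverters (c * g * c⁻¹)).ncard = (inverters g).ncard := by
  rw [← Set.ncard_image_of_injective (inverters g) (MulAut.conj c).injective]
  congr 1
  ext w
  constructor
  · rintro ⟨hw, hwg⟩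
    refine ⟨c⁻¹ * w * c, ⟨?_, ?_⟩, by show c * (c⁻¹ * w * c) * c⁻¹ = w; group⟩
    · have := Involution.orderOf_conj_eq c⁻¹ w
      rw [inv_inv] at this
      rw [this, hw]
    · calc c⁻¹ * w * c * g * (c⁻¹ * w * c)⁻¹ = c⁻¹ * (w * (c * g * c⁻¹) * w⁻¹) * c := by group
        _ = g⁻¹ := by rw [hwg]; group
  · rintro ⟨w', ⟨hw, hwg⟩, rfl⟩
    refine ⟨?_, ?_⟩
    · show orderOf (c * w' * c⁻¹) = 2
      rw [Involution.orderOf_conj_eq, hw]
    · show c * w' * c⁻¹ * (c * g * c⁻¹) * (c * w' * c⁻¹)⁻¹ = (c * g * c⁻¹)⁻¹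
      calc c * w' * c⁻¹ * (c * g * c⁻¹) * (c * w' * c⁻¹)⁻¹ = c * (w' * g * w'⁻¹) * c⁻¹ := by group
        _ = _ := by rw [hwg]; group

namespace Hyp

variable (H : Hyp G)
include H

theorem not_sq_dvd {p n : ℕ} [Fact p.Prime] {v g : G} (A : Axial v g) (hg : orderOf g = p)
    (hn : Nat.card (oddCent g) = n) (hpn : ¬ p ^ 2 ∣ n) : ¬ p ^ 2 ∣ Nat.card G := by
  intro hd
  have hgp : IsPGroup p (zpowers g) := IsPGroup.of_card (n := 1) (by rw [Nat.card_zpowers, hg, pow_one])
  obtain ⟨P, hP⟩ := hgp.exists_le_sylow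
  have hPd : p ^ 2 ∣ Nat.card (P : Subgroup G) := P.pow_dvd_card_of_pow_dvd_card hd
  have hgP : g ∈ (P : Subgroup G) := hP (mem_zpowers g)
  have hodd : ∀ x ∈ (P : Subgroup G), Odd (orderOf x) := by
    intro x hx
    obtain ⟨k, hk⟩ := P.2 ⟨x, hx⟩
    refine Odd.of_dvd_nat ?_ (orderOf_dvd_of_pow_eq_one (congrArg Subtype.val hk))
    exact Odd.pow (hg ▸ A.odd)
  -- a central element of the Sylow subgroup
  haveI : Nontrivial (P : Subgroup G) :=
    nontrivial_iff_exists_ne_one _ |>.mpr ⟨g, hgP, A.ne_one⟩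
  haveI := P.2.center_nontrivial
  obtain ⟨⟨⟨z, hzP⟩, hzc⟩, hz1⟩ := exists_ne (1 : center (P : Subgroup G))
  have hzcomm : ∀ x ∈ (P : Subgroup G), x * z = z * x := fun x hx =>
    congrArg Subtype.val (mem_center_iff.mp hzc ⟨x, hx⟩)
  have hzO : z ∈ oddCent g := mem_oddCent_of (hzcomm g hgP).symm (hodd z hzP)
  -- the part of `P` in the odd part is generated by `g`
  have hsub : (P : Subgroup G) ⊓ oddCent g = zpowers g := by
    refine (Subgroup.eq_of_le_of_card_ge (le_inf hP (zpowers_le.mpr (mem_oddCent_of rfl A.odd))) ?_).symm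
    obtain ⟨k, hk⟩ := IsPGroup.iff_card.mp (P.2.to_le (inf_le_left : (P : Subgroup G) ⊓ oddCent g ≤ P))
    have h1 : p ^ k ∣ n := hn ▸ hk ▸ card_dvd_of_le inf_le_right
    rw [hk, Nat.card_zpowers, hg]
    have : k ≤ 1 := by
      by_contra hlt
      exact hpn ((pow_dvd_pow p (by omega : 2 ≤ k)).trans h1)
    calc p ^ k ≤ p ^ 1 := Nat.pow_le_pow_right (Fact.out : p.Prime).pos this
      _ = p := pow_one p
  have hzg : z ∈ zpowers g := hsub ▸ mem_inf.mpr ⟨hzP, hzO⟩
  have hgz : g ∈ zpowers z := by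
    have hz1' : z ≠ 1 := fun e => hz1 (Subtype.ext (Subtype.ext e))
    have ho : orderOf z = orderOf g := by
      have h1 := (zpowers g).orderOf_dvd_natCard hzg
      rw [Nat.card_zpowers, hg] at h1
      rw [hg]
      exact ((Nat.dvd_prime Fact.out).mp h1).resolve_left fun e => hz1' (orderOf_eq_one_iff.mp e)
    exact zpowers_eq_of_mem hzg ho ▸ mem_zpowers g
  have hle : (P : Subgroup G) ≤ oddCent g := fun x hx => by
    obtain ⟨i, hi⟩ := mem_zpowers_iff.mp hgz
    refine mem_oddCent_of ?_ (hodd x hx)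
    rw [← hi]
    exact ((show Commute x z from hzcomm x hx).zpow_right i).eq
  exact hpn (hPd.trans (hn ▸ card_dvd_of_le hle))

theorem axial_of_order {p n : ℕ} [Fact p.Prime] {v g : G} (A : Axial v g) (hg : orderOf g = p)
    (hn : Nat.card (oddCent g) = n) (hpn : ¬ p ^ 2 ∣ n) {h : G} (hh : orderOf h = p) :
    ∃ c : G, c * g * c⁻¹ ∈ zpowers h ∧ Axial (c * v * c⁻¹) h := by
  have hns := H.not_sq_dvd A hg hn hpn
  have key : ∀ x : G, orderOf x = p → ∃ P : Sylow p G, (P : Subgroup G) = zpowers x := by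
    intro x hx
    obtain ⟨P, hP⟩ := (IsPGroup.of_card (p := p) (n := 1)
      (by rw [Nat.card_zpowers, hx, pow_one]) : IsPGroup p (zpowers x)).exists_le_sylow
    refine ⟨P, (Subgroup.eq_of_le_of_card_ge hP ?_).symm⟩
    obtain ⟨k, hk⟩ := IsPGroup.iff_card.mp P.2
    rw [hk, Nat.card_zpowers, hx]
    have : k ≤ 1 := by
      by_contra hlt
      exact hns ((pow_dvd_pow p (by omega : 2 ≤ k)).trans (hk ▸ (P : Subgroup G).card_subgroup_dvd_card))
    calc p ^ k ≤ p ^ 1 := Nat.pow_le_pow_right (Fact.out : p.Prime).pos this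
      _ = p := pow_one p
  obtain ⟨P, hP⟩ := key g hg
  obtain ⟨Q, hQ⟩ := key h hh
  obtain ⟨c, hc⟩ := MulAction.exists_smul_eq G P Q
  have hmem : c * g * c⁻¹ ∈ zpowers h := by
    rw [← hQ, ← hc, Sylow.coe_subgroup_smul]
    exact ⟨g, hP.symm ▸ mem_zpowers g, rfl⟩
  refine ⟨c, hmem, (A.conj c).inv, ?_, ?_⟩
  · obtain ⟨i, hi⟩ := mem_zpowers_iff.mp
      (zpowers_eq_of_mem hmem (by rw [Involution.orderOf_conj_eq, hg, hh]) ▸ mem_zpowers h :
        h ∈ zpowers (c * g * c⁻¹))
    rw [← hi]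
    exact ((show Commute (c * g * c⁻¹) (c * v * c⁻¹) from (A.conj c).comm).zpow_left i).eq
  · rw [hh, ← hg]; exact A.ord

variable {n3 n5 : ℕ} (T : TypeData G n3 n5)
include T

theorem exists_axial_of_three {t : G} (ht : orderOf t = 2) {h : G} (hh : orderOf h = 3) :
    ∃ w, Axial w h := by
  haveI : Fact (Nat.Prime 3) := ⟨Nat.prime_three⟩
  obtain ⟨⟨g, A, hg⟩, -⟩ := H.exists_axial ht
  obtain ⟨c, -, A'⟩ := H.axial_of_order A hg (T.three t g A hg)
    (by rcases T.admissible with h | h <;> rw [h.1] <;> norm_num) hh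
  exact ⟨_, A'⟩

theorem exists_axial_of_five {t : G} (ht : orderOf t = 2) {h : G} (hh : orderOf h = 5) :
    ∃ w, Axial w h := by
  haveI : Fact (Nat.Prime 5) := ⟨Nat.prime_five⟩
  obtain ⟨-, g, A, hg⟩ := H.exists_axial ht
  obtain ⟨c, -, A'⟩ := H.axial_of_order A hg (T.five t g A hg)
    (by rcases T.admissible with h | h <;> rw [h.2] <;> norm_num) hh
  exact ⟨_, A'⟩

theorem oddCent_cases {v g x : G} (A : Axial v g) (hx : x ∈ oddCent g) :
    x = 1 ∨ orderOf x = 3 ∨ orderOf x = 5 ∨ orderOf x = 15 := by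
  have h15 : Nat.card (oddCent g) ∣ 15 := by
    rcases A.ord with h | h
    · rw [T.three v g A h]; rcases T.admissible with h' | h' <;> rw [h'.1]; norm_num
    · rw [T.five v g A h]; rcases T.admissible with h' | h' <;> rw [h'.2]; norm_num
  have hd := ((oddCent g).orderOf_dvd_natCard hx).trans h15
  rw [← orderOf_eq_one_iff]
  have hle := Nat.le_of_dvd (by norm_num) hd
  have hpos := orderOf_pos x
  interval_cases hk : orderOf x <;> norm_num at hd <;> simp

theorem card_three {t : G} (ht : orderOf t = 2) :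
    {g : G | orderOf g = 3}.ncard * (2 * n3) = 120 * (invol G).ncard := by
  obtain ⟨⟨x, A, hx⟩, -⟩ := H.exists_axial ht
  have he : {g : G | orderOf g = 3} = {y | IsConj x y} := by
    ext y
    refine ⟨fun hy => ?_, fun hy => (Involution.isConj_orderOf hy).trans hx⟩
    obtain ⟨w, A'⟩ := H.exists_axial_of_three T ht hy
    obtain ⟨d, hd⟩ := isConj_iff.mp (H.conj_all t w ht A'.inv)
    have hA := A.conj d
    rw [hd] at hA
    obtain ⟨e, -, he⟩ := H.conj_three A'.inv hA.comm (by rw [Involution.orderOf_conj_eq, hx]) A'.comm hy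
    exact isConj_iff.mpr ⟨e * d, by rw [← he]; group⟩
  rw [he, mul_comm 120, H.card_group ht, ← Involution.card_isConj_mul_card_centralizer x,
    (H.oddCent_facts A).2, T.three t x A hx, ← Nat.card_coe_set_eq]
  rfl

theorem card_five {t : G} (ht : orderOf t = 2) :
    {g : G | orderOf g = 5}.ncard * n5 = 120 * (invol G).ncard := by
  obtain ⟨-, y, A, hy⟩ := H.exists_axial ht
  have hyy : orderOf (y * y) = 5 := by
    rw [← pow_two, Nat.Coprime.orderOf_pow (by rw [hy]; norm_num), hy]
  have A2 : Axial t (y * y) := ⟨ht, ((show Commute y t from A.comm).mul_left A.comm).eq, Or.inr hyy⟩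
  have he : {g : G | orderOf g = 5} = {z | IsConj y z} ∪ {z | IsConj (y * y) z} := by
    ext z
    refine ⟨fun hz => ?_, fun hz => ?_⟩
    · obtain ⟨w, A'⟩ := H.exists_axial_of_five T ht hz
      obtain ⟨d, hd⟩ := isConj_iff.mp (H.conj_all t w ht A'.inv)
      have hA := A.conj d
      rw [hd] at hA
      obtain ⟨e, -, he⟩ := H.conj_five A'.inv hA.comm (by rw [Involution.orderOf_conj_eq, hy]) A'.comm hz
      rcases he with he | he
      · exact Or.inl (isConj_iff.mpr ⟨e * d, by rw [← he]; group⟩)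
      · exact Or.inr (isConj_iff.mpr ⟨e * d, by rw [← he]; group⟩)
    · rcases hz with hz | hz
      · exact (Involution.isConj_orderOf hz).trans hy
      · exact (Involution.isConj_orderOf hz).trans hyy
  have hdisj : Disjoint {z | IsConj y z} {z | IsConj (y * y) z} := by
    rw [Set.disjoint_left]
    intro z hz hz'
    obtain ⟨c, hc⟩ := isConj_iff.mp ((hz : IsConj y z).trans (hz' : IsConj (y * y) z).symm)
    -- adjust the conjugating element into the centraliser of `t`
    have hw : c * t * c⁻¹ * (y * y) = y * y * (c * t * c⁻¹) := by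
      rw [← hc]
      exact (A.conj c).comm.symm
    obtain ⟨d, hd, hdt⟩ := H.exists_conj_in_cent A2 (w := c * t * c⁻¹)
      (by rw [Involution.orderOf_conj_eq]; exact ht) hw
    refine H.five_not_sq ht A.comm hy (c := d * c) ?_ ?_
    · refine mul_inv_eq_iff_eq_mul.mp ?_
      calc d * c * t * (d * c)⁻¹ = d * (c * t * c⁻¹) * d⁻¹ := by group
        _ = t := hdt
    · calc d * c * y * (d * c)⁻¹ = d * (c * y * c⁻¹) * d⁻¹ := by group
        _ = d * (y * y) * d⁻¹ := by rw [hc]
        _ = y * y := by rw [hd, mul_inv_cancel_right]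
  have h1 := Involution.card_isConj_mul_card_centralizer y
  have h2 := Involution.card_isConj_mul_card_centralizer (y * y)
  rw [(H.oddCent_facts A).2, T.five t y A hy] at h1
  rw [(H.oddCent_facts A2).2, T.five t _ A2 hyy] at h2
  rw [he, Set.ncard_union_eq hdisj (Set.toFinite _) (Set.toFinite _), mul_comm 120,
    H.card_group ht, ← Nat.card_coe_set_eq, ← Nat.card_coe_set_eq]
  refine Nat.eq_of_mul_eq_mul_left (show 0 < 2 by norm_num) ?_
  calc 2 * ((Nat.card {z | IsConj y z} + Nat.card {z | IsConj (y * y) z}) * n5)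
      = Nat.card {z | IsConj y z} * (2 * n5) + Nat.card {z | IsConj (y * y) z} * (2 * n5) := by ring
    _ = 2 * Nat.card G := by rw [show Nat.card {z | IsConj y z} * (2 * n5) = Nat.card G from h1,
        show Nat.card {z | IsConj (y * y) z} * (2 * n5) = Nat.card G from h2, two_mul]

theorem card_inverters_axial {v g : G} (A : Axial v g) :
    (inverters g).ncard = (if orderOf g = 3 then (if n3 = 3 then 6 else 18) else
      (if n5 = 5 then 10 else 20)) := by
  obtain ⟨s, F⟩ := H.exists_frame A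
  have hc := F.card_oddCent H
  rw [show inverters g = {w : G | orderOf w = 2 ∧ w * g * w⁻¹ = g⁻¹} from rfl, F.card_inverting H]
  rcases A.ord with hg | hg
  · rw [T.three v g A hg, hg] at hc
    rw [if_pos hg, hg]
    rcases T.admissible with ⟨h, -⟩ | ⟨h, -⟩ <;> rw [h] at hc ⊢ <;>
      rcases F.card_axis_cases H with e | e | e <;>
      rcases F.swap.card_axis_cases H with e' | e' | e' <;>
      (revert hc; rw [e, e']; norm_num)
  · rw [T.five v g A hg, hg] at hc
    rw [if_neg (by omega), hg]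
    rcases T.admissible with ⟨-, h⟩ | ⟨-, h⟩ <;> rw [h] at hc ⊢ <;>
      rcases F.card_axis_cases H with e | e | e <;>
      rcases F.swap.card_axis_cases H with e' | e' | e' <;>
      (revert hc; rw [e, e']; norm_num)

theorem fifteen_facts {t : G} (ht : orderOf t = 2) {h : G} (hh : orderOf h = 15) :
    n3 = 15 ∧ Nat.card (centralizer ({h} : Set G)) = 15 ∧ (inverters h).ncard = 15 := by
  have hx : orderOf (h ^ 5) = 3 := by rw [orderOf_pow' _ (by norm_num), hh]; norm_num
  obtain ⟨v, A⟩ := H.exists_axial_of_three T ht hx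
  have hmem : h ∈ oddCent (h ^ 5) :=
    mem_oddCent_of ((Commute.refl h).pow_right 5).eq (by rw [hh]; decide)
  have hcard := T.three v _ A hx
  have h15 : n3 = 15 := by
    rcases T.admissible with ⟨e, -⟩ | ⟨e, -⟩
    · have := (oddCent (h ^ 5)).orderOf_dvd_natCard hmem
      rw [hh, hcard, e] at this; norm_num at this
    · exact e
  rw [h15] at hcard
  have hOz : oddCent (h ^ 5) = zpowers h := (Subgroup.eq_of_le_of_card_ge (zpowers_le.mpr hmem)
    (by rw [Nat.card_zpowers, hh, hcard])).symm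
  obtain ⟨s, F⟩ := H.exists_frame A
  -- the involution of the frame does not centralise `h`
  have hCle : centralizer ({h} : Set G) = zpowers h := by
    refine le_antisymm (fun x hx' => ?_) (zpowers_le.mpr (mem_centralizer_singleton_iff.mpr rfl))
    have hxh : x * h = h * x := mem_centralizer_singleton_iff.mp hx'
    rcases F.mem_cent_cases H ((show Commute x h from hxh).pow_right 5).eq with hxO | hxO
    · rwa [hOz] at hxO
    exfalso
    rw [hOz] at hxO
    obtain ⟨i, hi⟩ := mem_zpowers_iff.mp hxO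
    have hvh : Commute v h := by
      have h1 : Commute (x⁻¹ * h ^ i) h :=
        ((show Commute x h from hxh).inv_left).mul_left ((Commute.refl h).zpow_left i)
      rwa [hi, inv_mul_cancel_left] at h1
    have hax : h ∈ axis (h ^ 5) v := mem_axis.mpr ⟨hmem, hvh.eq.symm⟩
    have h3 := (axis (h ^ 5) v).orderOf_dvd_natCard hax
    rw [F.card_axis_self H, hh, hx] at h3
    norm_num at h3
  have hC15 : Nat.card (centralizer ({h} : Set G)) = 15 := by rw [hCle, Nat.card_zpowers, hh]
  refine ⟨h15, hC15, ?_⟩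
  have key : ∀ r, Frame v (h ^ 5) r → Nat.card (axis (h ^ 5) r) = 1 → (inverters h).ncard = 15 := by
    intro r R h1
    have hfix : InvertedBound.fixedSub (conjEnd R.conj_s_mem) = ⊥ := by
      refine Subgroup.eq_bot_of_card_eq _ ?_
      rw [R.card_fixed H, h1]
    have hinv : ∀ a ∈ oddCent (h ^ 5), r * a * r⁻¹ = a⁻¹ := fun a ha => congrArg Subtype.val
      (InvertedBound.inv_of_fixedSub_eq_bot R.s_invol hfix ⟨a, ha⟩)
    rw [card_inverters_of_inverted R.s_inv (hinv h hmem) (by rw [hC15]; decide) (fun a ha =>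
      hinv a (by rw [hOz, ← hCle]; exact ha)), hC15]
  have hc := F.card_oddCent H
  rw [hcard, hx] at hc
  rcases F.card_axis_cases H with e | e | e
  · exact key s F e
  · rcases F.swap.card_axis_cases H with e' | e' | e' <;> rw [e, e'] at hc <;> norm_num at hc
  · refine key _ F.swap ?_
    rw [e] at hc
    omega

theorem card_fifteen {t : G} (ht : orderOf t = 2) :
    {g : G | orderOf g = 15}.ncard = if n3 = 15 then {g : G | orderOf g = 3}.ncard * 4 else 0 := by
  classical
  split_ifs with h15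
  swap
  · rw [Set.ncard_eq_zero (Set.toFinite _), Set.eq_empty_iff_forall_notMem]
    exact fun g hg => h15 (H.fifteen_facts T ht hg).1
  refine ncard_biUnion_of_const (fun x : G => {h : G | orderOf h = 15 ∧ h ^ 5 = x}) ?_ ?_ ?_
  · intro h
    refine ⟨fun hh => ⟨h ^ 5, ?_, hh, rfl⟩, fun ⟨_, _, hh, _⟩ => hh⟩
    show orderOf (h ^ 5) = 3
    rw [orderOf_pow' _ (by norm_num), show orderOf h = 15 from hh]; norm_num
  · rintro a _ a' _ b ⟨_, rfl⟩ ⟨_, rfl⟩; rfl
  intro x hx
  obtain ⟨v, A⟩ := H.exists_axial_of_three T ht hx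
  have hc : Nat.card (oddCent x) = 15 := (T.three v x A hx).trans h15
  haveI := isCyclic_of_card_fifteen hc
  haveI := Fintype.ofFinite (oddCent x)
  let S : G → Set G := fun y => {h : G | orderOf h = 15 ∧ h ^ 5 = y}
  have hx3 : x ^ 3 = 1 := by rw [← show orderOf x = 3 from hx]; exact pow_orderOf_eq_one x
  have hunion : S x ∪ S x⁻¹ = {h : G | h ∈ oddCent x ∧ orderOf h = 15} := by
    ext h
    constructor
    · rintro (⟨ho, e⟩ | ⟨ho, e⟩)
      · exact ⟨mem_oddCent_of (by rw [← e]; exact ((Commute.refl h).pow_right 5).eq)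
          (by rw [ho]; decide), ho⟩
      · refine ⟨mem_oddCent_of ?_ (by rw [ho]; decide), ho⟩
        rw [← inv_inv x, ← e]
        exact (((Commute.refl h).pow_right 5).inv_right).eq
    · rintro ⟨hh, ho⟩
      have hz : oddCent x = zpowers h := (Subgroup.eq_of_le_of_card_ge (zpowers_le.mpr hh)
        (by rw [Nat.card_zpowers, ho, hc])).symm
      obtain ⟨k, hk⟩ := mem_zpowers_iff.mp (hz ▸ mem_oddCent_of rfl A.odd : x ∈ zpowers h)
      have h3k : (15 : ℤ) ∣ 3 * k := by
        have e : h ^ (3 * k) = 1 := by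
          rw [mul_comm, zpow_mul, hk, show (3 : ℤ) = ((3 : ℕ) : ℤ) from rfl, zpow_natCast, hx3]
        rw [← orderOf_dvd_iff_zpow_eq_one, ho] at e
        exact_mod_cast e
      obtain ⟨j, rfl⟩ : (5 : ℤ) ∣ k := by omega
      have hj : ¬ (3 : ℤ) ∣ j := fun ⟨i, hi⟩ => by
        refine A.ne_one ?_
        rw [← hk, hi, ← mul_assoc, show (5 : ℤ) * 3 = ((15 : ℕ) : ℤ) from rfl, zpow_mul, zpow_natCast,
          ← ho, pow_orderOf_eq_one, one_zpow]
      rcases (show j % 3 = 1 ∨ j % 3 = 2 by omega) with e | e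
      · left
        refine ⟨ho, ?_⟩
        rw [← hk, ← zpow_natCast, ← orderOf_dvd_sub_iff_zpow_eq_zpow, ho]
        push_cast; omega
      · right
        refine ⟨ho, ?_⟩
        rw [← hk, ← zpow_natCast, ← zpow_neg, ← orderOf_dvd_sub_iff_zpow_eq_zpow, ho]
        push_cast; omega
  have hinv : (S x⁻¹).ncard = (S x).ncard := by
    rw [← Set.ncard_image_of_injective (S x) (inv_injective (G := G))]
    congr 1
    ext h
    constructor
    · rintro ⟨ho, e⟩
      exact ⟨h⁻¹, ⟨by rw [orderOf_inv]; exact ho, by rw [inv_pow, e, inv_inv]⟩, inv_inv h⟩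
    · rintro ⟨h', ⟨ho, e⟩, rfl⟩
      exact ⟨by rw [orderOf_inv]; exact ho, by rw [inv_pow, e]⟩
  have hdisj : Disjoint (S x) (S x⁻¹) := by
    rw [Set.disjoint_left]
    rintro h ⟨-, e⟩ ⟨-, e'⟩
    obtain ⟨s, F⟩ := H.exists_frame A
    exact F.ne_inv (e'.symm.trans e)
  have h8 : {h : G | h ∈ oddCent x ∧ orderOf h = 15}.ncard = 8 := by
    have : {h : G | h ∈ oddCent x ∧ orderOf h = 15} =
        Subtype.val '' {h : oddCent x | orderOf h = 15} := by
      ext h
      constructor
      · rintro ⟨hh, ho⟩; exact ⟨⟨h, hh⟩, by show orderOf _ = 15; rw [← Subgroup.orderOf_coe]; exact ho, rfl⟩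
      · rintro ⟨y, hy, rfl⟩; exact ⟨y.2, by rw [Subgroup.orderOf_coe]; exact hy⟩
    rw [this, Set.ncard_image_of_injective _ Subtype.val_injective, Set.ncard_eq_toFinset_card',
      show {h : oddCent x | orderOf h = 15}.toFinset =
        Finset.univ.filter (fun h : oddCent x => orderOf h = 15) by ext; simp,
      IsCyclic.card_orderOf_eq_totient (by rw [← Nat.card_eq_fintype_card, hc])]
    decide
  rw [← hunion, Set.ncard_union_eq hdisj (Set.toFinite _) (Set.toFinite _), hinv] at h8
  show (S x).ncard = 4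
  omega

end Hyp

end Cfsg.Agent.Lib.JankoOrder
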