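import Cfsg.Agent.Lib.JankoOrder.Table
import Mathlib

/-!
# Odd parts of order `p³`
-/

set_option autoImplicit false
set_option linter.unusedSectionVars false
set_option linter.style.haveILetI false

namespace Cfsg.Agent.Lib.JankoOrder

open Cfsg Subgroup

universe u

theorem commutator_mem_of_quot_sq {Q : Type u} [Group Q] [Finite Q] {g : Q}
    (hg : ∀ x : Q, g * x = x * g) {p : ℕ} [Fact p.Prime]
    (hcard : Nat.card Q = orderOf g * p ^ 2) (x y : Q) : x * y * x⁻¹ * y⁻¹ ∈ zpowers g := by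
  haveI hn : (zpowers g).Normal := ⟨fun a ha c => by
    obtain ⟨i, rfl⟩ := mem_zpowers_iff.mp ha
    have hc : g ^ i * c = c * g ^ i := (Commute.zpow_left (hg c) i).eq
    rw [← hc, mul_inv_cancel_right]
    exact zpow_mem (mem_zpowers g) i⟩
  have hq : Nat.card (Q ⧸ zpowers g) = p ^ 2 := by
    have h1 := (zpowers g).card_mul_index
    rw [Nat.card_zpowers, hcard] at h1
    rw [← Subgroup.index_eq_card]
    exact Nat.eq_of_mul_eq_mul_left (orderOf_pos g) h1
  have hc := (IsPGroup.commGroupOfCardEqPrimeSq hq).mul_comm (x : Q ⧸ zpowers g) (y : Q ⧸ zpowers g)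
  rw [← QuotientGroup.eq_one_iff, QuotientGroup.mk_mul, QuotientGroup.mk_mul, QuotientGroup.mk_mul,
    QuotientGroup.mk_inv, QuotientGroup.mk_inv]
  calc (x : Q ⧸ zpowers g) * y * (x : Q ⧸ zpowers g)⁻¹ * (y : Q ⧸ zpowers g)⁻¹
      = ((x : Q ⧸ zpowers g) * y) * ((y : Q ⧸ zpowers g) * x)⁻¹ := by group
    _ = 1 := by rw [hc]; exact mul_inv_cancel _

theorem commute_of_center_big {Q : Type u} [Group Q] [Finite Q] {p : ℕ} [Fact p.Prime]
    (hcard : Nat.card Q = p ^ 3) {g h : Q} (hg : ∀ x : Q, g * x = x * g) (hgo : orderOf g = p)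
    (hh : ∀ x : Q, h * x = x * h) (hne : h ∉ zpowers g) (x y : Q) : x * y = y * x := by
  have hgc : g ∈ center Q := mem_center_iff.mpr fun a => (hg a).symm
  have hhc : h ∈ center Q := mem_center_iff.mpr fun a => (hh a).symm
  obtain ⟨k, hk, hkc⟩ := (Nat.dvd_prime_pow Fact.out).mp (hcard ▸ (center Q).card_subgroup_dvd_card)
  have hlt : p ^ 1 < p ^ k := by
    rw [pow_one, ← hkc, ← hgo, ← Nat.card_zpowers]
    refine lt_of_le_of_ne (card_le_of_le (zpowers_le.mpr hgc)) fun e => hne ?_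
    rw [Subgroup.eq_of_le_of_card_ge (zpowers_le.mpr hgc) e.ge]
    exact hhc
  have hk2 : 2 ≤ k := (Nat.pow_lt_pow_iff_right (Fact.out : p.Prime).one_lt).mp hlt
  have hq : Nat.card (Q ⧸ center Q) = p ^ (3 - k) := by
    have h1 := (center Q).card_mul_index
    rw [hkc, hcard, show p ^ 3 = p ^ k * p ^ (3 - k) by rw [← pow_add]; congr 1; omega] at h1
    rw [← Subgroup.index_eq_card]
    exact Nat.eq_of_mul_eq_mul_left (pow_pos (Fact.out : p.Prime).pos k) h1
  haveI : IsCyclic (Q ⧸ center Q) := by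
    rcases (show k = 2 ∨ k = 3 by omega) with rfl | rfl
    · exact isCyclic_of_prime_card (p := p) (by rw [hq]; norm_num)
    · haveI : Subsingleton (Q ⧸ center Q) :=
        (Nat.card_eq_one_iff_unique.mp (by rw [hq]; simp)).1
      exact inferInstance
  exact (MonoidHom.isMulCommutative_of_isCyclic_of_ker_le_center (QuotientGroup.mk' (center Q))
    (by rw [QuotientGroup.ker_mk'])).is_comm.comm x y

variable {G : Type u} [Group G] [Finite G]

theorem exists_fixed_of_card {X : Subgroup G} {r : G} (hr : r ^ 3 = 1)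
    (hX : ∀ x ∈ X, r * x * r⁻¹ ∈ X) (hcard : ¬ Nat.card X % 3 = 1) :
    ∃ x ∈ X, x ≠ 1 ∧ r * x = x * r := by
  classical
  haveI : Fact (Nat.Prime 3) := ⟨Nat.prime_three⟩
  haveI := Fintype.ofFinite X
  let f : Function.End X := fun x => ⟨r * x * r⁻¹, hX x x.2⟩
  have hf : f ^ 3 ^ 1 = 1 := by
    funext x
    apply Subtype.ext
    show r * (r * (r * (x : G) * r⁻¹) * r⁻¹) * r⁻¹ = x
    calc r * (r * (r * (x : G) * r⁻¹) * r⁻¹) * r⁻¹ = r ^ 3 * x * (r ^ 3)⁻¹ := by
          rw [pow_succ, pow_two]; group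
      _ = x := by rw [hr, one_mul, inv_one, mul_one]
  have h := Equiv.Perm.card_fixedPoints_modEq (f := f) (p := 3) hf
  by_contra hc
  push Not at hc
  apply hcard
  have h1 : Fintype.card (Function.fixedPoints f) = 1 := by
    refine Fintype.card_eq_one_iff.mpr
      ⟨⟨1, Subtype.ext (by show r * ((1 : X) : G) * r⁻¹ = _; simp)⟩, ?_⟩
    rintro ⟨x, hx⟩
    refine Subtype.ext (Subtype.ext ?_)
    by_contra hx1
    exact hc x x.2 hx1 (mul_inv_eq_iff_eq_mul.mp (congrArg Subtype.val hx))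
  rw [h1] at h
  rw [Nat.card_eq_fintype_card]
  exact h

theorem conj_pow_fix {o g h : G} {i : ℤ} (hog : o * g = g * o) (h1 : o * h * o⁻¹ = g ^ i * h) :
    ∀ n : ℕ, o ^ n * h * (o ^ n)⁻¹ = g ^ (i * n) * h := by
  intro n
  induction n with
  | zero => simp
  | succ n ih =>
    calc o ^ (n + 1) * h * (o ^ (n + 1))⁻¹ = o * (o ^ n * h * (o ^ n)⁻¹) * o⁻¹ := by
          rw [pow_succ']; group
      _ = (o * g ^ (i * n) * o⁻¹) * (o * h * o⁻¹) := by rw [ih]; group
      _ = g ^ (i * n) * (g ^ i * h) := by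
          rw [h1, ((show Commute o g from hog).zpow_right _).eq, mul_inv_cancel_right]
      _ = g ^ (i * (n + 1 : ℕ)) * h := by
          rw [← mul_assoc, ← zpow_add]; push_cast; ring_nf

theorem exists_transvection {p : ℕ} [hp : Fact p.Prime] {o g h : G} (hgo : orderOf g = p) {i : ℤ}
    (hog : o * g = g * o) (h1 : o * h * o⁻¹ = g ^ i * h) (hne : o * h ≠ h * o) :
    ∃ a : G, a * g * a⁻¹ = g ∧ a * h * a⁻¹ = g * h := by
  have hi : ¬ (p : ℤ) ∣ i := fun hd => hne (by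
    rw [← hgo, orderOf_dvd_iff_zpow_eq_one] at hd
    rw [hd, one_mul] at h1
    exact mul_inv_eq_iff_eq_mul.mp h1)
  have hi' : ((i : ℤ) : ZMod p) ≠ 0 := fun e => hi ((ZMod.intCast_zmod_eq_zero_iff_dvd i p).mp e)
  refine ⟨o ^ ((i : ZMod p)⁻¹).val, ?_, ?_⟩
  · rw [((show Commute o g from hog).pow_left _).eq, mul_inv_cancel_right]
  · rw [conj_pow_fix hog h1]
    congr 1
    conv_rhs => rw [← zpow_one g]
    rw [← orderOf_dvd_sub_iff_zpow_eq_zpow, hgo, ← ZMod.intCast_zmod_eq_zero_iff_dvd]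
    push_cast
    rw [ZMod.natCast_val, ZMod.cast_id, mul_inv_cancel₀ hi', sub_self]

namespace Frame

variable {v g s : G} (F : Frame v g s) (H : Hyp G)
include F H

theorem exists_axis_gen (ha : Nat.card (axis g s) = orderOf g) :
    ∃ h ∈ axis g s, Axial s h ∧ g ∈ oddCent h ∧ orderOf h = orderOf g ∧ axis g s = zpowers h := by
  rcases F.card_axis H with h | ⟨h, hh, A, hg, he, hc⟩
  · rw [h] at ha; have := F.ord; omega
  · exact ⟨h, hh, A, hg, hc.symm.trans ha, he⟩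

theorem commute_cube (ha : Nat.card (axis g s) = orderOf g)
    (hb : Nat.card (axis g (v * s)) = orderOf g) :
    ∀ x ∈ oddCent g, ∀ y ∈ oddCent g, x * y = y * x := by
  haveI hp : Fact (orderOf g).Prime := ⟨by rcases F.ord with h | h <;> rw [h] <;> norm_num⟩
  obtain ⟨h, hh, A, hgh, hho, -⟩ := F.exists_axis_gen H ha
  haveI hp' : Fact (orderOf h).Prime := ⟨hho ▸ hp.out⟩
  obtain ⟨hhO, hhs⟩ := mem_axis.mp hh
  have hcO : Nat.card (oddCent g) = orderOf g ^ 3 := by rw [F.card_oddCent H, ha, hb]; ring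
  have hcH : Nat.card (oddCent h) = orderOf h ^ 3 := by
    rw [← H.card_oddCent_eq F.toAxial A hho.symm, hcO, hho]
  have hng : h ∉ zpowers g := fun hm => by
    obtain ⟨i, rfl⟩ := mem_zpowers_iff.mp hm
    have e : v * g ^ i * v⁻¹ = g ^ i := by rw [← conj_zpow, F.toAxial.commute_conj]
    rw [F.axis_inverted H hh] at e
    exact A.ne_one (by
      have h2 : (g ^ i) ^ 2 = 1 := by rw [pow_two]; exact eq_inv_iff_mul_eq_one.mp e.symm
      exact orderOf_eq_one_iff.mp ((Nat.coprime_two_right.mpr A.odd).eq_one_of_dvd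
        (orderOf_dvd_of_pow_eq_one h2)))
  have hgh' : g * h = h * g := (oddCent_commute hhO).symm
  let gO : oddCent g := ⟨g, mem_oddCent_of rfl F.toAxial.odd⟩
  let hO : oddCent g := ⟨h, hhO⟩
  have hg : ∀ z : oddCent g, gO * z = z * gO := fun z => Subtype.ext (oddCent_commute z.2).symm
  let hH : oddCent h := ⟨h, mem_oddCent_of rfl A.odd⟩
  let gH : oddCent h := ⟨g, hgh⟩
  have hh' : ∀ z : oddCent h, hH * z = z * hH := fun z => Subtype.ext (oddCent_commute z.2).symm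
  have hngH : gH ∉ zpowers hH := fun hm => by
    obtain ⟨i, hi⟩ := mem_zpowers_iff.mp hm
    have hi' : h ^ i = g := by
      have := congrArg Subtype.val hi
      simpa [hH, gH] using this
    exact hng (zpowers_eq_of_mem (hi' ▸ zpow_mem (mem_zpowers h) i) hho.symm ▸ mem_zpowers h)
  intro x hx y hy
  by_contra hxy
  -- some element of each odd part moves the other axis
  have hmove : ∃ o ∈ oddCent g, o * h ≠ h * o := by
    by_contra hc
    push Not at hc
    exact hxy (congrArg Subtype.val (commute_of_center_big (p := orderOf g) hcO hg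
      (Subgroup.orderOf_coe gO).symm (h := hO) (fun z => Subtype.ext (hc z z.2).symm)
      (fun hm => by
        obtain ⟨i, hi⟩ := mem_zpowers_iff.mp hm
        exact hng (mem_zpowers_iff.mpr ⟨i, by simpa [gO, hO] using congrArg Subtype.val hi⟩))
      ⟨x, hx⟩ ⟨y, hy⟩))
  have hmove' : ∃ o ∈ oddCent h, o * g ≠ g * o := by
    by_contra hc
    push Not at hc
    have hle : oddCent h ≤ oddCent g := fun o ho =>
      mem_oddCent_of (hc o ho) ((H.mem_oddCent_iff A).mp ho).2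
    have he := Subgroup.eq_of_le_of_card_ge hle (by rw [hcH, hcO, hho])
    obtain ⟨o, ho, hne⟩ := hmove
    exact hne (oddCent_commute (he ▸ ho))
  obtain ⟨o, ho, hne⟩ := hmove
  obtain ⟨o', ho', hne'⟩ := hmove'
  obtain ⟨i, hi⟩ := mem_zpowers_iff.mp (commutator_mem_of_quot_sq hg (p := orderOf g)
    (by rw [show orderOf gO = orderOf g from (Subgroup.orderOf_coe gO).symm, hcO]; ring)
    (⟨o, ho⟩ : oddCent g) hO)
  obtain ⟨j, hj⟩ := mem_zpowers_iff.mp (commutator_mem_of_quot_sq hh' (p := orderOf h)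
    (by rw [show orderOf hH = orderOf h from (Subgroup.orderOf_coe hH).symm, hcH]; ring)
    (⟨o', ho'⟩ : oddCent h) gH)
  have hi' : g ^ i = o * h * o⁻¹ * h⁻¹ := by simpa [gO, hO] using congrArg Subtype.val hi
  have hj' : h ^ j = o' * g * o'⁻¹ * g⁻¹ := by simpa [gH, hH] using congrArg Subtype.val hj
  obtain ⟨a, hag, hah⟩ := exists_transvection (p := orderOf g) rfl (oddCent_commute ho)
    (i := i) (by rw [hi']; group) hne
  obtain ⟨b, hbh, hbg⟩ := exists_transvection (p := orderOf h) rfl (oddCent_commute ho')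
    (i := j) (by rw [hj']; group) hne'
  -- the product has order divisible by four
  have hw1 : (a * b⁻¹ * a) * g * (a * b⁻¹ * a)⁻¹ = h⁻¹ := by
    have e1 : b⁻¹ * g * b = h⁻¹ * g := by
      have e0 : b⁻¹ * h * b = h := by
        calc b⁻¹ * h * b = b⁻¹ * (b * h * b⁻¹) * b := by rw [hbh]
          _ = h := by group
      calc b⁻¹ * g * b = (b⁻¹ * h * b)⁻¹ * (b⁻¹ * (h * g) * b) := by group
        _ = h⁻¹ * (b⁻¹ * (b * g * b⁻¹) * b) := by rw [e0, hbg]
        _ = h⁻¹ * g := by group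
    calc (a * b⁻¹ * a) * g * (a * b⁻¹ * a)⁻¹ = a * (b⁻¹ * (a * g * a⁻¹) * b) * a⁻¹ := by group
      _ = a * (h⁻¹ * g) * a⁻¹ := by rw [hag, e1]
      _ = (a * h * a⁻¹)⁻¹ * (a * g * a⁻¹) := by group
      _ = (g * h)⁻¹ * g := by rw [hah, hag]
      _ = h⁻¹ := by group
  have hw2 : (a * b⁻¹ * a) * h * (a * b⁻¹ * a)⁻¹ = g := by
    have e1 : b⁻¹ * g * b = h⁻¹ * g := by
      have e0 : b⁻¹ * h * b = h := by
        calc b⁻¹ * h * b = b⁻¹ * (b * h * b⁻¹) * b := by rw [hbh]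
          _ = h := by group
      calc b⁻¹ * g * b = (b⁻¹ * h * b)⁻¹ * (b⁻¹ * (h * g) * b) := by group
        _ = h⁻¹ * (b⁻¹ * (b * g * b⁻¹) * b) := by rw [e0, hbg]
        _ = h⁻¹ * g := by group
    calc (a * b⁻¹ * a) * h * (a * b⁻¹ * a)⁻¹ = a * (b⁻¹ * (a * h * a⁻¹) * b) * a⁻¹ := by group
      _ = a * (b⁻¹ * (h * g) * b) * a⁻¹ := by rw [hah, hgh']
      _ = a * ((b⁻¹ * h * b) * (b⁻¹ * g * b)) * a⁻¹ := by group
      _ = a * ((b⁻¹ * (b * h * b⁻¹) * b) * (h⁻¹ * g)) * a⁻¹ := by rw [e1, hbh]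
      _ = a * g * a⁻¹ := by group
      _ = g := hag
  set w := a * b⁻¹ * a with hw
  have hsq : ∀ n : ℕ, w ^ (2 * n) * g * (w ^ (2 * n))⁻¹ = g ^ ((-1 : ℤ) ^ n) := by
    intro n
    induction n with
    | zero => simp
    | succ n ih =>
      calc w ^ (2 * (n + 1)) * g * (w ^ (2 * (n + 1)))⁻¹
          = w * (w * (w ^ (2 * n) * g * (w ^ (2 * n))⁻¹) * w⁻¹) * w⁻¹ := by
            rw [show 2 * (n + 1) = 1 + (1 + 2 * n) by ring, pow_add, pow_add, pow_one]; group
        _ = (w * (w * g * w⁻¹) * w⁻¹) ^ ((-1 : ℤ) ^ n) := by rw [ih, ← conj_zpow, ← conj_zpow]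
        _ = g ^ ((-1 : ℤ) ^ (n + 1)) := by
          rw [hw1, show w * h⁻¹ * w⁻¹ = (w * h * w⁻¹)⁻¹ by group, hw2, pow_succ, mul_neg, mul_one,
            zpow_neg, inv_zpow]
  obtain ⟨k, m, hm, hkm⟩ := Nat.exists_eq_two_pow_mul_odd (n := orderOf w) (orderOf_pos w).ne'
  have hwm : w ^ (2 * m) = 1 := by
    rw [mul_comm, pow_mul, pow_two]
    exact H.two_exp _ k (by rw [← pow_mul, mul_comm, ← hkm, pow_orderOf_eq_one])
  have h3 := hsq m
  rw [hwm, one_mul, inv_one, mul_one, hm.neg_one_pow, zpow_neg_one] at h3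
  exact F.ne_inv h3.symm

/-- A rotation of order three normalising the odd part. -/
theorem exists_rotation (ha : Nat.card (axis g s) = orderOf g)
    (hb : Nat.card (axis g (v * s)) = orderOf g) :
    ∃ r w : G, orderOf r = 3 ∧ Axial w r ∧ r * v * r⁻¹ = s ∧ r * s * r⁻¹ = v * s ∧
      r * (v * s) * r⁻¹ = v ∧ ∀ x ∈ oddCent g, r * x * r⁻¹ ∈ oddCent g := by
  haveI : Fact (Nat.Prime 2) := ⟨Nat.prime_two⟩
  haveI : Fact (Nat.Prime 3) := ⟨Nat.prime_three⟩
  have hcomm := F.commute_cube H ha hb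
  obtain ⟨h, hh, A, -, hho, -⟩ := F.exists_axis_gen H ha
  obtain ⟨c, hcv, hcs, hcvs, hcg⟩ := F.exists_cycle H hh hho
  have hO : (oddCent g).map (MulAut.conj c).toMonoidHom = oddCent g := by
    rw [map_oddCent,
      oddCent_eq_of_zpowers_eq (zpowers_eq_of_mem hcg (by rw [Involution.orderOf_conj_eq, hho])),
      F.oddCent_axis_eq H hh hho hcomm]
  have hcO : ∀ n : ℕ, ∀ x ∈ oddCent g, c ^ n * x * (c ^ n)⁻¹ ∈ oddCent g := by
    intro n
    induction n with
    | zero => intro x hx; simpa using hx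
    | succ n ih =>
      intro x hx
      rw [show c ^ (n + 1) * x * (c ^ (n + 1))⁻¹ = c * (c ^ n * x * (c ^ n)⁻¹) * c⁻¹ by
        rw [pow_succ']; group]
      have := mem_map_of_mem (MulAut.conj c).toMonoidHom (ih x hx)
      rwa [hO] at this
  have h3 : ∀ n : ℕ, c ^ (3 * n) * v * (c ^ (3 * n))⁻¹ = v ∧ c ^ (3 * n) * s * (c ^ (3 * n))⁻¹ = s := by
    intro n
    induction n with
    | zero => simp
    | succ n ih =>
      have e : ∀ x : G, c ^ (3 * (n + 1)) * x * (c ^ (3 * (n + 1)))⁻¹ =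
          c * (c * (c * (c ^ (3 * n) * x * (c ^ (3 * n))⁻¹) * c⁻¹) * c⁻¹) * c⁻¹ := fun x => by
        rw [show 3 * (n + 1) = 1 + (1 + (1 + 3 * n)) by ring, pow_add, pow_add, pow_add, pow_one]
        group
      exact ⟨by rw [e, ih.1, hcv, hcs, hcvs], by rw [e, ih.2, hcs, hcvs, hcv]⟩
  obtain ⟨i, m, hm, hcm⟩ := Nat.exists_eq_pow_mul_and_not_dvd (orderOf_pos c).ne' 3 (by norm_num)
  have hmm : m * m % 3 = 1 := by
    rw [Nat.mul_mod]
    rcases (show m % 3 = 1 ∨ m % 3 = 2 by omega) with h | h <;> rw [h]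
  obtain ⟨l, hl⟩ : ∃ l, m * m = 1 + 3 * l := ⟨m * m / 3, by omega⟩
  set r := c ^ (m * m) with hr
  have hrv : r * v * r⁻¹ = s := by
    rw [hr, hl, pow_add, pow_one]
    calc c * c ^ (3 * l) * v * (c * c ^ (3 * l))⁻¹ = c * (c ^ (3 * l) * v * (c ^ (3 * l))⁻¹) * c⁻¹ := by
          group
      _ = s := by rw [(h3 l).1, hcv]
  have hrs : r * s * r⁻¹ = v * s := by
    rw [hr, hl, pow_add, pow_one]
    calc c * c ^ (3 * l) * s * (c * c ^ (3 * l))⁻¹ = c * (c ^ (3 * l) * s * (c ^ (3 * l))⁻¹) * c⁻¹ := by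
          group
      _ = v * s := by rw [(h3 l).2, hcs]
  have hrvs : r * (v * s) * r⁻¹ = v := by
    calc r * (v * s) * r⁻¹ = (r * v * r⁻¹) * (r * s * r⁻¹) := by group
      _ = v := by
        rw [hrv, hrs, ← F.s_comm, ← mul_assoc, Involution.mul_self_eq_one F.s_inv, one_mul]
  let S : Subgroup G := centralizer ({v} : Set G) ⊓ centralizer ({s} : Set G)
  have hS : Nat.card S = 8 := H.card_cent_pair F.inv F.s_inv F.s_comm F.ne
  have hr3 : r ^ 3 = 1 := by
    have hmem : r ^ 3 ∈ S := by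
      rw [hr, ← pow_mul, mul_comm]
      refine mem_inf.mpr ⟨mem_centralizer_singleton_iff.mpr (mul_inv_eq_iff_eq_mul.mp (h3 _).1),
        mem_centralizer_singleton_iff.mpr (mul_inv_eq_iff_eq_mul.mp (h3 _).2)⟩
    have h8 : orderOf (r ^ 3) ∣ 2 ^ 3 := by
      have := S.orderOf_dvd_natCard hmem
      rwa [hS] at this
    have h9 : orderOf (r ^ 3) ∣ 3 ^ i := by
      refine orderOf_dvd_of_pow_eq_one ?_
      rw [hr, ← pow_mul, ← pow_mul, show m * m * (3 * 3 ^ i) = 3 ^ i * m * (m * 3) by ring, pow_mul,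
        ← hcm, pow_orderOf_eq_one, one_pow]
    exact orderOf_eq_one_iff.mp (Nat.eq_one_of_dvd_coprimes
      (Nat.Coprime.pow 3 i (by norm_num : Nat.Coprime 2 3)) h8 h9)
  have hr1 : r ≠ 1 := fun e => by
    rw [e, one_mul, inv_one, mul_one] at hrv
    exact F.ne hrv.symm
  have hro : orderOf r = 3 := orderOf_eq_prime hr3 hr1
  have hmemS : ∀ {x : G}, x ∈ S ↔ x * v = v * x ∧ x * s = s * x := fun {x} => by
    rw [mem_inf, mem_centralizer_singleton_iff, mem_centralizer_singleton_iff]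
  have hrS : ∀ x ∈ S, r * x * r⁻¹ ∈ S := fun x hx => by
    obtain ⟨h1, h2⟩ := hmemS.mp hx
    have h12 : x * (v * s) = (v * s) * x := ((show Commute x v from h1).mul_right h2).eq
    have key : ∀ a : G, x * a = a * x → r * x * r⁻¹ * (r * a * r⁻¹) = r * a * r⁻¹ * (r * x * r⁻¹) :=
      fun a ha => by
        calc r * x * r⁻¹ * (r * a * r⁻¹) = r * (x * a) * r⁻¹ := by group
          _ = r * (a * x) * r⁻¹ := by rw [ha]
          _ = _ := by group
    refine hmemS.mpr ⟨?_, ?_⟩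
    · have := key _ h12; rwa [hrvs] at this
    · have := key _ h1; rwa [hrv] at this
  obtain ⟨w, hwS, hw1, hwr⟩ := exists_fixed_of_card hr3 hrS (by rw [hS]; norm_num)
  have hw2 : orderOf w = 2 := by
    refine Involution.orderOf_eq_two (H.two_exp w 3 ?_) hw1
    rw [← orderOf_dvd_iff_pow_eq_one]
    have := S.orderOf_dvd_natCard hwS
    rwa [hS] at this
  exact ⟨r, w, hro, ⟨hw2, hwr, Or.inl hro⟩, hrv, hrs, hrvs, fun x hx => hcO _ x hx⟩

end Frame

theorem Hyp.false_of_cube_five (H : Hyp G) {v g s : G} (F : Frame v g s) (hg : orderOf g = 5)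
    (ha : Nat.card (axis g s) = 5) (hb : Nat.card (axis g (v * s)) = 5)
    (h3 : ∀ w h : G, Axial w h → orderOf h = 3 → ¬ 5 ∣ Nat.card (oddCent h)) : False := by
  obtain ⟨r, w, hro, A, -, -, -, hrO⟩ :=
    F.exists_rotation H (ha.trans hg.symm) (hb.trans hg.symm)
  have hc : Nat.card (oddCent g) = 5 ^ 3 := by rw [F.card_oddCent H, ha, hb, hg]; norm_num
  obtain ⟨x, hx, hx1, hxr⟩ := exists_fixed_of_card (by rw [← hro, pow_orderOf_eq_one]) hrO
    (by rw [hc]; norm_num)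
  have hxo := (oddCent g).orderOf_dvd_natCard hx
  rw [hc] at hxo
  obtain ⟨k, -, hk⟩ := (Nat.dvd_prime_pow Nat.prime_five).mp hxo
  have hk0 : k ≠ 0 := fun e => hx1 (orderOf_eq_one_iff.mp (by rw [hk, e, pow_zero]))
  refine h3 w r A hro (dvd_trans ?_ ((oddCent r).orderOf_dvd_natCard
    (mem_oddCent_of hxr.symm ((H.mem_oddCent_iff F.toAxial).mp hx).2)))
  rw [hk]
  exact dvd_pow_self 5 hk0

end Cfsg.Agent.Lib.JankoOrder
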