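import Cfsg.Agent.Lib.JankoOrder.Classes
import Mathlib

/-!
# The tori: real elements of order prime to thirty
-/

set_option autoImplicit false
set_option linter.unusedSectionVars false
set_option linter.style.haveILetI false

namespace Cfsg.Agent.Lib.JankoOrder

open Cfsg Subgroup

universe u

variable {G : Type u} [Group G] [Finite G]

/-- Real elements of odd order other than those of order one, three, five and fifteen. -/
def genSet (G : Type u) [Group G] : Set G :=
  {g | Odd (orderOf g) ∧ g ≠ 1 ∧ orderOf g ≠ 3 ∧ orderOf g ≠ 5 ∧ orderOf g ≠ 15 ∧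
    (inverters g).Nonempty}

/-- The conjugates of a subgroup. -/
def subOrbit (A : Subgroup G) : Set (Subgroup G) :=
  Set.range fun c : G => A.map (MulAut.conj c).toMonoidHom

theorem map_conj_map (A : Subgroup G) (c d : G) :
    (A.map (MulAut.conj c).toMonoidHom).map (MulAut.conj d).toMonoidHom =
      A.map (MulAut.conj (d * c)).toMonoidHom := by
  rw [map_map]
  congr 1
  ext x
  show d * (c * x * c⁻¹) * d⁻¹ = d * c * x * (d * c)⁻¹
  group

theorem map_conj_one (A : Subgroup G) : A.map (MulAut.conj (1 : G)).toMonoidHom = A := by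
  ext x
  refine ⟨fun ⟨y, hy, e⟩ => ?_, fun hx => ⟨x, hx, by show (1 : G) * x * 1⁻¹ = x; group⟩⟩
  have e' : (1 : G) * y * 1⁻¹ = x := e
  rw [one_mul, inv_one, mul_one] at e'
  exact e' ▸ hy

theorem mem_subOrbit_self (A : Subgroup G) : A ∈ subOrbit A := ⟨1, map_conj_one A⟩

theorem subOrbit_map (A : Subgroup G) (c : G) :
    subOrbit (A.map (MulAut.conj c).toMonoidHom) = subOrbit A := by
  ext B
  constructor
  · rintro ⟨d, rfl⟩; exact ⟨d * c, (map_conj_map A c d).symm⟩
  · rintro ⟨d, rfl⟩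
    refine ⟨d * c⁻¹, ?_⟩
    show (A.map _).map _ = _
    rw [map_conj_map, inv_mul_cancel_right]

theorem map_centralizer (h c : G) :
    (centralizer ({h} : Set G)).map (MulAut.conj c).toMonoidHom =
      centralizer ({c * h * c⁻¹} : Set G) := by
  ext x
  rw [mem_centralizer_singleton_iff]
  constructor
  · rintro ⟨y, hy, rfl⟩
    have hy' : y * h = h * y := mem_centralizer_singleton_iff.mp hy
    show c * y * c⁻¹ * (c * h * c⁻¹) = c * h * c⁻¹ * (c * y * c⁻¹)
    calc c * y * c⁻¹ * (c * h * c⁻¹) = c * (y * h) * c⁻¹ := by group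
      _ = c * (h * y) * c⁻¹ := by rw [hy']
      _ = _ := by group
  · intro hx
    refine ⟨c⁻¹ * x * c, mem_centralizer_singleton_iff.mpr ?_, by
      show c * (c⁻¹ * x * c) * c⁻¹ = x; group⟩
    calc c⁻¹ * x * c * h = c⁻¹ * (x * (c * h * c⁻¹)) * c := by group
      _ = c⁻¹ * (c * h * c⁻¹ * x) * c := by rw [hx]
      _ = _ := by group

theorem card_subOrbit (A : Subgroup G) :
    (subOrbit A).ncard * Nat.card (normalizer (A : Set G)) = Nat.card G := by
  classical
  have key : ∀ a b : G, A.map (MulAut.conj a).toMonoidHom = A.map (MulAut.conj b).toMonoidHom ↔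
      a⁻¹ * b ∈ normalizer (A : Set G) := by
    intro a b
    rw [mem_normalizer_iff]
    constructor
    · intro e x
      constructor
      · intro hx
        have : b * x * b⁻¹ ∈ A.map (MulAut.conj a).toMonoidHom := e ▸ ⟨x, hx, rfl⟩
        obtain ⟨y, hy, he⟩ := this
        have he' : a * y * a⁻¹ = b * x * b⁻¹ := he
        have : a⁻¹ * b * x * (a⁻¹ * b)⁻¹ = y := by
          calc a⁻¹ * b * x * (a⁻¹ * b)⁻¹ = a⁻¹ * (b * x * b⁻¹) * a := by group
            _ = a⁻¹ * (a * y * a⁻¹) * a := by rw [he']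
            _ = y := by group
        rwa [this]
      · intro hx
        have : a * (a⁻¹ * b * x * (a⁻¹ * b)⁻¹) * a⁻¹ ∈ A.map (MulAut.conj b).toMonoidHom :=
          e ▸ ⟨_, hx, rfl⟩
        obtain ⟨y, hy, he⟩ := this
        have he' : b * y * b⁻¹ = a * (a⁻¹ * b * x * (a⁻¹ * b)⁻¹) * a⁻¹ := he
        have he'' : b * y * b⁻¹ = b * x * b⁻¹ := he'.trans (by group)
        rw [mul_left_inj, mul_right_inj] at he''
        exact he'' ▸ hy
    · intro hn
      ext x
      constructor
      · rintro ⟨y, hy, rfl⟩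
        refine ⟨(a⁻¹ * b)⁻¹ * y * (a⁻¹ * b), (hn _).mpr ?_, ?_⟩
        · rw [show a⁻¹ * b * ((a⁻¹ * b)⁻¹ * y * (a⁻¹ * b)) * (a⁻¹ * b)⁻¹ = y by group]
          exact hy
        · show b * ((a⁻¹ * b)⁻¹ * y * (a⁻¹ * b)) * b⁻¹ = a * y * a⁻¹
          group
      · rintro ⟨y, hy, rfl⟩
        refine ⟨a⁻¹ * b * y * (a⁻¹ * b)⁻¹, (hn y).mp hy, ?_⟩
        show a * (a⁻¹ * b * y * (a⁻¹ * b)⁻¹) * a⁻¹ = b * y * b⁻¹
        group
  let f : G ⧸ normalizer (A : Set G) → subOrbit A :=
    Quotient.lift (fun c => ⟨_, c, rfl⟩) fun a b h =>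
      Subtype.ext ((key a b).mpr (QuotientGroup.leftRel_apply.mp h))
  have hf : Function.Bijective f := by
    refine ⟨fun p q h => ?_, fun ⟨_, c, e⟩ => ⟨QuotientGroup.mk c, Subtype.ext e⟩⟩
    induction p using QuotientGroup.induction_on with
    | _ a =>
      induction q using QuotientGroup.induction_on with
      | _ b => exact QuotientGroup.eq.mpr ((key a b).mp (congrArg Subtype.val h))
  rw [← Nat.card_coe_set_eq, ← Nat.card_eq_of_bijective f hf, ← card_eq_card_quotient_mul_card_subgroup]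

namespace Hyp

variable (H : Hyp G) {n3 n5 : ℕ} (T : TypeData G n3 n5)
include H T

theorem gen_facts {t : G} (ht : orderOf t = 2) {g : G} (hg : g ∈ genSet G) :
    Nat.Coprime (Nat.card (centralizer ({g} : Set G))) 30 ∧
      ∃ u, orderOf u = 2 ∧ u * g * u⁻¹ = g⁻¹ ∧
        ∀ a ∈ centralizer ({g} : Set G), u * a * u⁻¹ = a⁻¹ := by
  obtain ⟨hodd, h1, h3, h5, h15, u, hu, hug⟩ := hg
  set C := centralizer ({g} : Set G) with hC
  have hax : ∀ {w k : G}, Axial w k → k * g = g * k → False := by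
    intro w k A hk
    rcases H.oddCent_cases T A (mem_oddCent_of hk.symm hodd) with e | e | e | e
    · exact h1 e
    · exact h3 e
    · exact h5 e
    · exact h15 e
  have hinvol : ∀ w : G, orderOf w = 2 → w * g ≠ g * w := fun w hw e => by
    rcases H.odd_cases hw e.symm hodd with e' | e' | e'
    · exact h1 e'
    · exact h3 e'
    · exact h5 e'
  have hcop : ∀ p : ℕ, p = 2 ∨ p = 3 ∨ p = 5 → ¬ p ∣ Nat.card C := by
    intro p hp hd
    haveI : Fact p.Prime := ⟨by rcases hp with rfl | rfl | rfl <;> norm_num⟩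
    obtain ⟨⟨y, hyC⟩, hy⟩ := exists_prime_orderOf_dvd_card' (G := C) p hd
    rw [Subgroup.orderOf_mk] at hy
    have hyg := mem_centralizer_singleton_iff.mp hyC
    rcases hp with rfl | rfl | rfl
    · exact hinvol y hy hyg
    · obtain ⟨w, A⟩ := H.exists_axial_of_three T ht hy
      exact hax A hyg
    · obtain ⟨w, A⟩ := H.exists_axial_of_five T ht hy
      exact hax A hyg
  refine ⟨?_, u, hu, hug, ?_⟩
  · show Nat.Coprime (Nat.card C) (2 * (3 * 5))
    refine Nat.Coprime.mul_right ?_ (Nat.Coprime.mul_right ?_ ?_)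
    · exact Nat.coprime_comm.mp (Nat.prime_two.coprime_iff_not_dvd.mpr (hcop 2 (by norm_num)))
    · exact Nat.coprime_comm.mp (Nat.prime_three.coprime_iff_not_dvd.mpr (hcop 3 (by norm_num)))
    · exact Nat.coprime_comm.mp (Nat.prime_five.coprime_iff_not_dvd.mpr (hcop 5 (by norm_num)))
  have hCmem : ∀ a ∈ C, u * a * u⁻¹ ∈ C := by
    intro a ha
    have hag : a * g = g * a := mem_centralizer_singleton_iff.mp ha
    refine mem_centralizer_singleton_iff.mpr ?_
    have hg' : g = (u * g * u⁻¹)⁻¹ := by rw [hug, inv_inv]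
    rw [hg']
    calc u * a * u⁻¹ * (u * g * u⁻¹)⁻¹ = u * (a * g⁻¹) * u⁻¹ := by group
      _ = u * (g⁻¹ * a) * u⁻¹ := by rw [(Commute.inv_right (hag : Commute a g)).eq]
      _ = _ := by group
  intro a ha
  have hfix : InvertedBound.fixedSub (conjEnd hCmem) = ⊥ := by
    rw [eq_bot_iff]
    rintro ⟨b, hb⟩ hb'
    have hbu : u * b * u⁻¹ = b := congrArg Subtype.val (InvertedBound.mem_fixedSub.mp hb')
    have hbodd : Odd (orderOf b) := by
      refine Odd.of_dvd_nat ?_ (C.orderOf_dvd_natCard hb)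
      rw [← Nat.not_even_iff_odd, even_iff_two_dvd]
      exact hcop 2 (by norm_num)
    rcases H.odd_cases hu (mul_inv_eq_iff_eq_mul.mp hbu).symm hbodd with e | e | e
    · exact Subgroup.mem_bot.mpr (Subtype.ext e)
    all_goals
      exfalso
      exact hax (⟨hu, (mul_inv_eq_iff_eq_mul.mp hbu).symm, by omega⟩ : Axial u b)
        (mem_centralizer_singleton_iff.mp hb)
  have hinvol' : ∀ x, conjEnd hCmem (conjEnd hCmem x) = x := fun x => Subtype.ext (by
    simp only [coe_conjEnd]
    have hu2 := Involution.mul_self_eq_one hu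
    rw [inv_eq_of_mul_eq_one_right hu2]
    calc u * (u * (x : G) * u) * u = (u * u) * x * (u * u) := by group
      _ = x := by rw [hu2, one_mul, mul_one])
  exact congrArg Subtype.val (InvertedBound.inv_of_fixedSub_eq_bot hinvol' hfix ⟨a, ha⟩)

theorem gen_ti {t : G} (ht : orderOf t = 2) {g h : G} (hg : g ∈ genSet G)
    (hh : h ∈ centralizer ({g} : Set G)) (h1 : h ≠ 1) :
    h ∈ genSet G ∧ centralizer ({h} : Set G) = centralizer ({g} : Set G) := by
  obtain ⟨hcop, u, hu, -, hinv⟩ := H.gen_facts T ht hg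
  have hd : Nat.Coprime (orderOf h) 30 :=
    hcop.coprime_dvd_left ((centralizer ({g} : Set G)).orderOf_dvd_natCard hh)
  have hgen : h ∈ genSet G := by
    refine ⟨?_, h1, ?_, ?_, ?_, u, hu, hinv h hh⟩
    · rw [← Nat.not_even_iff_odd, even_iff_two_dvd]
      intro h2
      have := hd.coprime_dvd_left h2
      norm_num at this
    all_goals
      intro e
      rw [e] at hd
      norm_num at hd
  have hcomm : ∀ {k : G}, k ∈ genSet G → ∀ a ∈ centralizer ({k} : Set G),
      ∀ b ∈ centralizer ({k} : Set G), a * b = b * a := by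
    intro k hk a ha b hb
    obtain ⟨-, w, -, -, hw⟩ := H.gen_facts T ht hk
    have e := hw _ (mul_mem ha hb)
    rw [show w * (a * b) * w⁻¹ = (w * a * w⁻¹) * (w * b * w⁻¹) by group, hw a ha, hw b hb,
      ← mul_inv_rev] at e
    exact (inv_injective e).symm
  refine ⟨hgen, le_antisymm (fun x hx => ?_) fun x hx => ?_⟩
  · refine mem_centralizer_singleton_iff.mpr (hcomm hgen x hx g ?_)
    exact mem_centralizer_singleton_iff.mpr (mem_centralizer_singleton_iff.mp hh).symm
  · exact mem_centralizer_singleton_iff.mpr (hcomm hg x hx h hh)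

theorem torus_normalizer {t : G} (ht : orderOf t = 2) {g : G} (hg : g ∈ genSet G) :
    ∃ e, Nat.card (normalizer (centralizer ({g} : Set G) : Set G)) =
        e * Nat.card (centralizer ({g} : Set G)) ∧
      (e = 2 ∨ e = 6 ∨ e = 10) ∧ e ∣ Nat.card (centralizer ({g} : Set G)) - 1 := by
  classical
  obtain ⟨hcop, u, hu, hug, hinv⟩ := H.gen_facts T ht hg
  set A := centralizer ({g} : Set G) with hA
  have huu := Involution.mul_self_eq_one hu
  have hgA : g ∈ A := mem_centralizer_singleton_iff.mpr rfl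
  have hAodd : Odd (Nat.card A) := Nat.coprime_two_right.mp (hcop.coprime_dvd_right (by norm_num))
  have huN : u ∈ normalizer (A : Set G) := by
    rw [mem_normalizer_iff]
    intro x
    refine ⟨fun hx => by rw [hinv x hx]; exact inv_mem hx, fun hx => ?_⟩
    have h2 := hinv _ hx
    have : u * (u * x * u⁻¹) * u⁻¹ = x := by
      rw [Involution.inv_eq_self huu]
      calc u * (u * x * u) * u = (u * u) * x * (u * u) := by group
        _ = x := by rw [huu, one_mul, mul_one]
    rw [this] at h2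
    rw [h2]
    exact inv_mem hx
  set L := normalizer (A : Set G) ⊓ centralizer ({u} : Set G) with hL
  have huL : u ∈ L := mem_inf.mpr ⟨huN, mem_centralizer_singleton_iff.mpr rfl⟩
  have hLu : ∀ {x : G}, x ∈ L → x * u = u * x := fun hx =>
    mem_centralizer_singleton_iff.mp (mem_inf.mp hx).2
  have hinter : ∀ x ∈ A, x * u = u * x → x = 1 := by
    intro x hx hxu
    have h1 := hinv x hx
    rw [← hxu, mul_inv_cancel_right] at h1
    have h2 : x ^ 2 = 1 := by rw [pow_two]; exact eq_inv_iff_mul_eq_one.mp h1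
    exact orderOf_eq_one_iff.mp ((Nat.coprime_two_right.mpr
      (hAodd.of_dvd_nat (A.orderOf_dvd_natCard hx))).eq_one_of_dvd (orderOf_dvd_of_pow_eq_one h2))
  have hfree : ∀ x ∈ L, ∀ a ∈ A, a ≠ 1 → x * a = a * x → x = 1 := by
    intro x hx a ha ha1 hxa
    refine hinter x ?_ (hLu hx)
    rw [hA, ← (H.gen_ti T ht hg ha ha1).2]
    exact mem_centralizer_singleton_iff.mpr hxa
  -- the only involution of `L`
  have huniq : ∀ w ∈ L, orderOf w = 2 → w = u := by
    intro w hw hw2
    by_contra hne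
    have hwA : ∀ a ∈ A, w * a * w⁻¹ ∈ A := fun a ha =>
      (mem_normalizer_iff.mp (mem_inf.mp hw).1 a).mp ha
    have hww := Involution.mul_self_eq_one hw2
    have hwinv : ∀ a ∈ A, w * a * w⁻¹ = a⁻¹ := by
      intro a ha
      have hfix : InvertedBound.fixedSub (conjEnd hwA) = ⊥ := by
        rw [eq_bot_iff]
        rintro ⟨b, hb⟩ hb'
        refine Subgroup.mem_bot.mpr (Subtype.ext ?_)
        by_contra hb1
        have := hfree w hw b hb hb1
          (mul_inv_eq_iff_eq_mul.mp (congrArg Subtype.val (InvertedBound.mem_fixedSub.mp hb')))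
        exact Involution.ne_one hw2 this
      have hinvol : ∀ x, conjEnd hwA (conjEnd hwA x) = x := fun x => Subtype.ext (by
        simp only [coe_conjEnd]
        rw [inv_eq_of_mul_eq_one_right hww]
        calc w * (w * (x : G) * w) * w = (w * w) * x * (w * w) := by group
          _ = x := by rw [hww, one_mul, mul_one])
      exact congrArg Subtype.val (InvertedBound.inv_of_fixedSub_eq_bot hinvol hfix ⟨a, ha⟩)
    have hcomm : (u * w) * g = g * (u * w) := by
      refine mul_inv_eq_iff_eq_mul.mp ?_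
      calc u * w * g * (u * w)⁻¹ = u * (w * g * w⁻¹) * u⁻¹ := by group
        _ = (u * g * u⁻¹)⁻¹ := by rw [hwinv g hgA]; group
        _ = g := by rw [hug, inv_inv]
    have h1 := hfree _ (mul_mem huL hw) g hgA hg.2.1 hcomm
    rw [mul_eq_one_iff_eq_inv, Involution.inv_eq_self hww] at h1
    exact hne h1.symm
  -- the order of `L`
  have hL120 : Nat.card L ∣ 120 := H.card_cent hu ▸ card_dvd_of_le inf_le_right
  haveI : Fact (Nat.Prime 2) := ⟨Nat.prime_two⟩
  let uL : L := ⟨u, huL⟩
  have huLo : orderOf uL = 2 := by rw [← Subgroup.orderOf_coe]; exact hu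
  obtain ⟨S⟩ : Nonempty (Sylow 2 L) := inferInstance
  have hSsub : ∀ x ∈ (S : Subgroup L), x = 1 ∨ x = uL := by
    intro x hx
    obtain ⟨k, hk⟩ := S.2 ⟨x, hx⟩
    have hk' : (x : G) ^ 2 ^ k = 1 := congrArg (fun z => ((z : L) : G)) (congrArg Subtype.val hk)
    by_cases h1 : x = 1
    · exact Or.inl h1
    · exact Or.inr (Subtype.ext (huniq x x.2
        (Involution.orderOf_eq_two (H.two_exp x k hk') fun e => h1 (Subtype.ext e))))
  have h4 : ¬ 4 ∣ Nat.card L := by
    intro h
    have h1 : 4 ∣ Nat.card (S : Subgroup L) := S.pow_dvd_card_of_pow_dvd_card (n := 2) h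
    have h2 : ((S : Subgroup L) : Set L).ncard ≤ 2 :=
      (Set.ncard_le_ncard (t := ({1, uL} : Set L)) (fun x hx => hSsub x hx) (Set.toFinite _)).trans
        ((Set.ncard_insert_le _ _).trans (by rw [Set.ncard_singleton]))
    rw [← Nat.card_coe_set_eq] at h2
    have h3 := Nat.le_of_dvd Nat.card_pos h1
    have h2' : Nat.card (S : Subgroup L) ≤ 2 := h2
    omega
  have h30 : Nat.card L ≠ 30 := by
    intro h
    have heven : Even (Nat.card L) := by rw [h]; decide
    have hcyc : IsCyclic (S : Subgroup L) := by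
      have : (S : Subgroup L) ≤ zpowers uL := fun x hx => by
        rcases hSsub x hx with rfl | rfl
        · exact one_mem _
        · exact mem_zpowers _
      exact Subgroup.isCyclic_of_le this
    obtain ⟨K, -, hK⟩ := Involution.exists_index_two_of_isCyclic_sylow heven S hcyc
    have hK15 : Nat.card K = 15 := by
      have := K.card_mul_index; rw [hK, h] at this; omega
    haveI := isCyclic_of_card_fifteen hK15
    obtain ⟨z, hz⟩ := IsCyclic.exists_ofOrder_eq_natCard (α := K)
    rw [hK15, ← Subgroup.orderOf_coe, ← Subgroup.orderOf_coe] at hz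
    rcases H.odd_cases hu (hLu (z : L).2) (by rw [hz]; decide) with e | e | e
    · rw [e, orderOf_one] at hz; omega
    · omega
    · omega
  have he : Nat.card L = 2 ∨ Nat.card L = 6 ∨ Nat.card L = 10 := by
    have h2 : 2 ∣ Nat.card L := huLo ▸ orderOf_dvd_natCard uL
    have hle := Nat.le_of_dvd (by norm_num) hL120
    obtain ⟨j, hj⟩ := h2
    rw [hj] at h4 h30 hL120 ⊢
    have h15 : j ∣ 15 := by
      have h60 : j ∣ 2 ^ 2 * 15 := Nat.dvd_of_mul_dvd_mul_left (show 0 < 2 by norm_num)
        (show 2 * j ∣ 2 * (2 ^ 2 * 15) from hL120)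
      refine (Nat.Coprime.pow_right 2 ?_ : Nat.Coprime j (2 ^ 2)).dvd_of_dvd_mul_left h60
      exact Nat.coprime_comm.mp (Nat.prime_two.coprime_iff_not_dvd.mpr fun hd =>
        h4 (Nat.mul_dvd_mul_left 2 hd))
    have hjle := Nat.le_of_dvd (by norm_num) h15
    interval_cases j <;> first | (norm_num at h15; done) | (norm_num at h30; done) | norm_num
  refine ⟨Nat.card L, ?_, he, ?_⟩
  · -- the normaliser is the product
    let f : L × A → normalizer (A : Set G) := fun q =>
      ⟨(q.2 : G) * q.1, mul_mem (le_normalizer q.2.2) (mem_inf.mp q.1.2).1⟩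
    have hf : Function.Bijective f := by
      constructor
      · rintro ⟨⟨l, hl⟩, a, ha⟩ ⟨⟨l', hl'⟩, a', ha'⟩ h
        have h' : a * l = a' * l' := congrArg Subtype.val h
        have e : a'⁻¹ * a = l' * l⁻¹ := by
          calc a'⁻¹ * a = a'⁻¹ * (a * l) * l⁻¹ := by group
            _ = l' * l⁻¹ := by rw [h']; group
        have h1 := hinter _ (mul_mem (inv_mem ha') ha) (by rw [e]; exact hLu (mul_mem hl' (inv_mem hl)))
        rw [inv_mul_eq_one] at h1
        subst h1
        rw [mul_right_inj] at h'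
        subst h'
        rfl
      · rintro ⟨n, hn⟩
        -- correct `n` to centralise `u`
        have hb : ∀ a ∈ A, n * u * n⁻¹ * u * a = a * (n * u * n⁻¹ * u) := by
          intro a ha
          have h1 : n⁻¹ * a * n ∈ A := by
            have := (mem_normalizer_iff.mp (inv_mem hn) a).mp ha
            rwa [inv_inv] at this
          refine mul_inv_eq_iff_eq_mul.mp ?_
          calc n * u * n⁻¹ * u * a * (n * u * n⁻¹ * u)⁻¹ =
                n * (u * (n⁻¹ * (u * a * u⁻¹) * n) * u⁻¹) * n⁻¹ := by group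
            _ = n * (u * (n⁻¹ * a * n) * u⁻¹)⁻¹ * n⁻¹ := by rw [hinv a ha]; group
            _ = a := by rw [hinv _ h1]; group
        have hbA : n * u * n⁻¹ * u ∈ A := mem_centralizer_singleton_iff.mpr (hb g hgA)
        obtain ⟨⟨r, hrA⟩, hr⟩ := exists_sqrt_of_odd hAodd (⟨_, hbA⟩ : A)
        have hr' : r * r = n * u * n⁻¹ * u := congrArg Subtype.val hr
        have hrn : r⁻¹ * n ∈ L := by
          refine mem_inf.mpr ⟨mul_mem (inv_mem (le_normalizer hrA)) hn,
            mem_centralizer_singleton_iff.mpr (mul_inv_eq_iff_eq_mul.mp ?_)⟩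
          have hur : u * r * u⁻¹ = r⁻¹ := hinv r hrA
          calc r⁻¹ * n * u * (r⁻¹ * n)⁻¹ = r⁻¹ * (n * u * n⁻¹ * u) * u⁻¹ * r := by group
            _ = r⁻¹ * (r * r) * u⁻¹ * r := by rw [hr']
            _ = r * (u⁻¹ * r * u) * u⁻¹ := by group
            _ = r * (u * r * u⁻¹) * u⁻¹ := by rw [Involution.inv_eq_self huu]
            _ = u := by rw [hur, Involution.inv_eq_self huu, mul_inv_cancel, one_mul]
        exact ⟨(⟨_, hrn⟩, ⟨r, hrA⟩), Subtype.ext (by show r * (r⁻¹ * n) = n; group)⟩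
    rw [← Nat.card_eq_of_bijective f hf, Nat.card_prod]
  · -- semiregularity
    haveI := Fintype.ofFinite G
    have hAs : ((A : Set G) \ {1}).ncard = Nat.card A - 1 := by
      rw [Set.ncard_sdiff_singleton_of_mem (one_mem _), ← Nat.card_coe_set_eq]; rfl
    rw [← hAs]
    let orb : G → Set G := conjOrbit L
    have horb : ∀ a ∈ (A : Set G) \ {1}, (orb a).ncard = Nat.card L ∧ orb a ⊆ (A : Set G) \ {1} := by
      rintro a ⟨ha, ha1⟩
      refine ⟨?_, ?_⟩
      · have h := card_conjOrbit L a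
        have hbot : L ⊓ centralizer ({a} : Set G) = ⊥ := by
          rw [eq_bot_iff]
          intro x hx
          exact Subgroup.mem_bot.mpr (hfree x (mem_inf.mp hx).1 a ha ha1
            (mem_centralizer_singleton_iff.mp (mem_inf.mp hx).2))
        rwa [hbot, card_bot, mul_one] at h
      · rintro _ ⟨l, hl, rfl⟩
        exact ⟨(mem_normalizer_iff.mp (mem_inf.mp hl).1 a).mp ha, fun e => ha1 (conj_eq_one_iff.mp e)⟩
    have horbeq : ∀ a b : G, b ∈ orb a → orb b = orb a := by
      rintro a _ ⟨l, hl, rfl⟩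
      ext y
      constructor
      · rintro ⟨m, hm, rfl⟩
        exact ⟨m * l, mul_mem hm hl, by show m * l * a * (m * l)⁻¹ = m * (l * a * l⁻¹) * m⁻¹; group⟩
      · rintro ⟨m, hm, rfl⟩
        exact ⟨m * l⁻¹, mul_mem hm (inv_mem hl),
          by show m * l⁻¹ * (l * a * l⁻¹) * (m * l⁻¹)⁻¹ = m * a * m⁻¹; group⟩
    have hself : ∀ a : G, a ∈ orb a := fun a =>
      ⟨1, one_mem L, by show (1 : G) * a * 1⁻¹ = a; group⟩
    rw [ncard_biUnion_of_const (fun O : Set G => O) (S := orb '' ((A : Set G) \ {1})) (T := (A : Set G) \ {1})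
      (n := Nat.card L) ?_ ?_ ?_]
    · exact dvd_mul_left _ _
    · intro b
      refine ⟨fun hb => ⟨orb b, ⟨b, hb, rfl⟩, hself b⟩, ?_⟩
      rintro ⟨_, ⟨a, ha, rfl⟩, hb⟩
      exact (horb a ha).2 hb
    · rintro _ ⟨a, -, rfl⟩ _ ⟨a', -, rfl⟩ b hb hb'
      rw [← horbeq a b hb, horbeq a' b hb']
    · rintro _ ⟨a, ha, rfl⟩
      exact (horb a ha).1

theorem torus_hall {t : G} (ht : orderOf t = 2) {g : G} (hg : g ∈ genSet G) {q : ℕ} [Fact q.Prime]
    (hq : q ∣ Nat.card (centralizer ({g} : Set G))) :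
    ∃ Q : Sylow q G, (Q : Subgroup G) ≤ centralizer ({g} : Set G) := by
  set A := centralizer ({g} : Set G) with hA
  obtain ⟨⟨h, hhA⟩, hh⟩ := exists_prime_orderOf_dvd_card' (G := A) q hq
  rw [Subgroup.orderOf_mk] at hh
  have h1 : h ≠ 1 := fun e => by
    rw [e, orderOf_one] at hh; exact (Fact.out : q.Prime).one_lt.ne hh
  obtain ⟨Q, hQ⟩ := (IsPGroup.of_card (p := q) (n := 1)
    (by rw [Nat.card_zpowers, hh, pow_one]) : IsPGroup q (zpowers h)).exists_le_sylow
  refine ⟨Q, ?_⟩
  haveI : Nontrivial (Q : Subgroup G) :=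
    nontrivial_iff_exists_ne_one _ |>.mpr ⟨h, hQ (mem_zpowers h), h1⟩
  haveI := Q.2.center_nontrivial
  obtain ⟨⟨⟨z, hzQ⟩, hzc⟩, hz1⟩ := exists_ne (1 : center (Q : Subgroup G))
  have hzcomm : ∀ x ∈ (Q : Subgroup G), x * z = z * x := fun x hx =>
    congrArg Subtype.val (mem_center_iff.mp hzc ⟨x, hx⟩)
  have hzA : z ∈ A := by
    rw [hA, ← (H.gen_ti T ht hg hhA h1).2]
    exact mem_centralizer_singleton_iff.mpr (hzcomm h (hQ (mem_zpowers h))).symm
  intro x hx
  rw [hA, ← (H.gen_ti T ht hg hzA fun e => hz1 (Subtype.ext (Subtype.ext e))).2]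
  exact mem_centralizer_singleton_iff.mpr (hzcomm x hx)

end Hyp

end Cfsg.Agent.Lib.JankoOrder
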