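import Cfsg.Agent.Lib.JankoOrder.Cases
import Mathlib

/-!
# Counting involutions and the elements inverted by them
-/

set_option autoImplicit false
set_option linter.unusedSectionVars false
set_option linter.style.haveILetI false

namespace Cfsg.Agent.Lib.JankoOrder

open Cfsg Subgroup

universe u

variable {G : Type u} [Group G] [Finite G]

theorem ncard_biUnion_of_const {α β : Type*} [Finite α] [Finite β] {S : Set α} {T : Set β}
    (F : α → Set β) (hT : ∀ b, b ∈ T ↔ ∃ a ∈ S, b ∈ F a)
    (hdisj : ∀ a ∈ S, ∀ a' ∈ S, ∀ b, b ∈ F a → b ∈ F a' → a = a') {n : ℕ}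
    (hn : ∀ a ∈ S, (F a).ncard = n) : T.ncard = S.ncard * n := by
  classical
  haveI := Fintype.ofFinite α
  haveI := Fintype.ofFinite β
  have hTeq : T.toFinset = S.toFinset.biUnion fun a => (F a).toFinset := by
    ext b; simp [hT]
  rw [Set.ncard_eq_toFinset_card', hTeq, Finset.card_biUnion, Set.ncard_eq_toFinset_card']
  · rw [Finset.sum_const_nat (m := n)]
    intro a ha
    rw [← Set.ncard_eq_toFinset_card']
    exact hn a (by simpa using ha)
  · intro a ha a' ha' hne
    rw [Function.onFun, Finset.disjoint_left]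
    intro b hb hb'
    simp only [Set.coe_toFinset] at ha ha'
    exact hne (hdisj a ha a' ha' b (by simpa using hb) (by simpa using hb'))

/-- The elements of odd order inverted by an involution, other than one. -/
def oddInv (v : G) : Set G := {g | Odd (orderOf g) ∧ g ≠ 1 ∧ v * g * v = g⁻¹}

/-- The involutions inverting an element. -/
def inverters (g : G) : Set G := {w | orderOf w = 2 ∧ w * g * w⁻¹ = g⁻¹}

theorem pow_orderOf_of_commute {v h : G} (hv : orderOf v = 2) (hh : h * v = v * h)
    (ho : Odd (orderOf h)) : (v * h) ^ orderOf h = v := by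
  obtain ⟨k, hk⟩ := ho
  rw [((show Commute h v from hh).symm).mul_pow, pow_orderOf_eq_one, mul_one, hk, pow_add, pow_mul,
    pow_two, Involution.mul_self_eq_one hv, one_pow, one_mul, pow_one]

theorem component_unique {v h v' h' : G} (hv : orderOf v = 2) (hh : h * v = v * h)
    (ho : Odd (orderOf h)) (hv' : orderOf v' = 2) (hh' : h' * v' = v' * h') (ho' : Odd (orderOf h'))
    (he : v * h = v' * h') : v = v' ∧ h = h' := by
  have key : ∀ {a b : G}, orderOf a = 2 → b * a = a * b → Odd (orderOf b) →
      ∀ n, Odd n → orderOf b ∣ n → (a * b) ^ n = a := by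
    intro a b ha hb hbo n hn hd
    obtain ⟨k, hk⟩ := hn
    rw [((show Commute b a from hb).symm).mul_pow, orderOf_dvd_iff_pow_eq_one.mp hd, mul_one, hk,
      pow_add, pow_mul, pow_two, Involution.mul_self_eq_one ha, one_pow, one_mul, pow_one]
  have h1 := key hv hh ho _ (ho.mul ho') (dvd_mul_right _ _)
  have h2 := key hv' hh' ho' _ (ho.mul ho') (dvd_mul_left _ _)
  rw [he, h2] at h1
  subst h1
  exact ⟨rfl, mul_left_cancel he⟩

namespace Hyp

variable (H : Hyp G)
include H

theorem exists_component {g : G} (hg : ¬ Odd (orderOf g)) :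
    ∃ v h : G, orderOf v = 2 ∧ h * v = v * h ∧ Odd (orderOf h) ∧ g = v * h := by
  obtain ⟨k, m, hm, hkm⟩ := Nat.exists_eq_two_pow_mul_odd (n := orderOf g) (orderOf_pos g).ne'
  have hv2 : g ^ m * g ^ m = 1 :=
    H.two_exp _ k (by rw [← pow_mul, mul_comm, ← hkm, pow_orderOf_eq_one])
  have hv1 : g ^ m ≠ 1 := fun e => hg (hm.of_dvd_nat (orderOf_dvd_of_pow_eq_one e))
  refine ⟨g ^ m, g ^ (m + 1), Involution.orderOf_eq_two hv2 hv1,
    ((Commute.refl g).pow_pow _ _).eq, hm.of_dvd_nat (orderOf_dvd_of_pow_eq_one ?_), ?_⟩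
  · rw [← pow_mul]
    obtain ⟨j, hj⟩ := hm
    rw [show (m + 1) * m = m * 2 * (j + 1) by rw [hj]; ring, pow_mul, pow_mul, pow_two, hv2, one_pow]
  · rw [← pow_add, show m + (m + 1) = m + m + 1 by ring, pow_succ, pow_add, hv2, one_mul]

theorem card_even :
    {g : G | ¬ Odd (orderOf g)}.ncard = (invol G).ncard * 45 := by
  refine ncard_biUnion_of_const
    (fun v : G => (fun h => v * h) '' {h : G | h * v = v * h ∧ Odd (orderOf h)}) ?_ ?_ ?_
  · intro g
    constructor
    · intro hg
      obtain ⟨v, h, hv, hh, ho, rfl⟩ := H.exists_component hg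
      exact ⟨v, hv, h, ⟨hh, ho⟩, rfl⟩
    · rintro ⟨v, hv, h, ⟨hh, ho⟩, rfl⟩ hodd
      have h1 := orderOf_pow_dvd (x := v * h) (orderOf h)
      rw [pow_orderOf_of_commute hv hh ho, hv] at h1
      exact Nat.not_even_iff_odd.mpr hodd (even_iff_two_dvd.mpr h1)
  · rintro v hv v' hv' g ⟨h, ⟨hh, ho⟩, rfl⟩ ⟨h', ⟨hh', ho'⟩, he⟩
    exact ((component_unique hv' hh' ho' hv hh ho he).1).symm
  · intro v hv
    rw [Set.ncard_image_of_injective _ (mul_right_injective v), H.card_odd_cent hv]

theorem card_oddInv_eq {t : G} (ht : orderOf t = 2) : (invol G).ncard = 391 + (oddInv t).ncard := by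
  classical
  have htt := Involution.mul_self_eq_one ht
  let T : Set G := {g | t * g * t = g⁻¹}
  have hT : T.ncard = (invol G).ncard + 1 := by
    have hWT : (fun w => t * w) '' (invol G ∪ {1}) = T := by
      ext g
      constructor
      · rintro ⟨w, hw, rfl⟩
        have hw2 : w * w = 1 := by
          rcases hw with hw | hw
          · exact Involution.mul_self_eq_one hw
          · rw [Set.mem_singleton_iff.mp hw, one_mul]
        show t * (t * w) * t = (t * w)⁻¹
        rw [← mul_assoc, htt, one_mul, mul_inv_rev, Involution.inv_eq_self hw2,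
          Involution.inv_eq_self htt]
      · intro hg
        refine ⟨t * g, ?_, by show t * (t * g) = g; rw [← mul_assoc, htt, one_mul]⟩
        have h2 : t * g * (t * g) = 1 := by rw [← mul_assoc, hg, inv_mul_cancel]
        by_cases h1 : t * g = 1
        · exact Or.inr h1
        · exact Or.inl (Involution.orderOf_eq_two h2 h1)
    rw [← hWT, Set.ncard_image_of_injective _ (mul_right_injective t),
      Set.ncard_union_eq (show Disjoint (invol G) {1} from Set.disjoint_singleton_right.mpr fun h => by
        have h' : orderOf (1 : G) = 2 := h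
        rw [orderOf_one] at h'; omega) (Set.toFinite _) (Set.toFinite _), Set.ncard_singleton]
  have hsplit : T = (oddInv t ∪ {1}) ∪ {g | t * g * t = g⁻¹ ∧ ¬ Odd (orderOf g)} := by
    ext g
    simp only [T, oddInv, Set.mem_union, Set.mem_ofPred_eq, Set.mem_singleton_iff]
    constructor
    · intro h
      by_cases ho : Odd (orderOf g)
      · by_cases h1 : g = 1
        · exact Or.inl (Or.inr h1)
        · exact Or.inl (Or.inl ⟨ho, h1, h⟩)
      · exact Or.inr ⟨h, ho⟩
    · rintro ((⟨-, -, h⟩ | rfl) | ⟨h, -⟩)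
      · exact h
      · rw [mul_one, htt, inv_one]
      · exact h
  have heven : {g : G | t * g * t = g⁻¹ ∧ ¬ Odd (orderOf g)}.ncard = 391 := by
    let S : Set G := {v | v * t = t * v ∧ orderOf v = 2}
    let S' : Set G := {v | v ∈ S ∧ v ≠ t}
    have key : ∀ v h : G, orderOf v = 2 → h * v = v * h → Odd (orderOf h) →
        (t * (v * h) * t = (v * h)⁻¹ ↔ v * t = t * v ∧ t * h * t = h⁻¹) := by
      intro v h hv hh ho
      constructor
      · intro e
        have hti : t⁻¹ = t := Involution.inv_eq_self htt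
        have e' : (t * v * t) * (t * h * t) = v * h⁻¹ := by
          calc t * v * t * (t * h * t) = t * v * (t * t) * h * t := by group
            _ = t * (v * h) * t := by rw [htt]; group
            _ = h⁻¹ * v⁻¹ := by rw [e, mul_inv_rev]
            _ = v * h⁻¹ := by
              rw [Involution.inv_eq_self (Involution.mul_self_eq_one hv)]
              exact ((show Commute h v from hh).inv_left).eq
        obtain ⟨e1, e2⟩ := component_unique (v := t * v * t) (h := t * h * t) (v' := v) (h' := h⁻¹)
          (by have := Involution.orderOf_conj_eq t v; rw [hti] at this; rw [this, hv])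
          (by
            calc t * h * t * (t * v * t) = t * h * (t * t) * v * t := by group
              _ = t * (h * v) * t := by rw [htt]; group
              _ = t * (v * h) * t := by rw [hh]
              _ = t * v * (t * t) * h * t := by rw [htt]; group
              _ = _ := by group)
          (by have := Involution.orderOf_conj_eq t h; rw [hti] at this; rw [this]; exact ho)
          hv ((show Commute h v from hh).inv_left).eq (by rw [orderOf_inv]; exact ho) e'
        refine ⟨?_, e2⟩
        calc v * t = (t * v * t) * t := by rw [e1]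
          _ = t * v * (t * t) := by group
          _ = t * v := by rw [htt, mul_one]
      · rintro ⟨hvt, hth⟩
        calc t * (v * h) * t = (t * v) * (t * t) * h * t := by rw [htt]; group
          _ = (v * t * t) * (t * h * t) := by rw [← hvt]; group
          _ = v * h⁻¹ := by rw [mul_assoc v, htt, mul_one, hth]
          _ = (v * h)⁻¹ := by
            rw [mul_inv_rev, Involution.inv_eq_self (Involution.mul_self_eq_one hv)]
            exact ((show Commute h v from hh).inv_left).eq.symm
    have htS : t ∈ S := ⟨rfl, ht⟩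
    have hS' : S'.ncard = 30 := by
      have : S' = S \ {t} := rfl
      rw [this, Set.ncard_sdiff_singleton_of_mem htS, H.card_invol_cent ht]
    have hmain : {g : G | t * g * t = g⁻¹ ∧ ¬ Odd (orderOf g) ∧ g ≠ t}.ncard = S'.ncard * 13 := by
      refine ncard_biUnion_of_const (fun v : G => (fun h => v * h) ''
        {h : G | h * v = v * h ∧ Odd (orderOf h) ∧ t * h * t = h⁻¹}) ?_ ?_ ?_
      · intro g
        constructor
        · rintro ⟨hg, ho, hgt⟩
          obtain ⟨v, h, hv, hh, hho, rfl⟩ := H.exists_component ho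
          obtain ⟨hvt, hth⟩ := (key v h hv hh hho).mp hg
          refine ⟨v, ⟨⟨hvt, hv⟩, fun e => ?_⟩, h, ⟨hh, hho, hth⟩, rfl⟩
          subst e
          have h2 : h * h = 1 := by
            rw [← hh, mul_assoc, htt, mul_one] at hth
            exact eq_inv_iff_mul_eq_one.mp hth
          have h1 : h = 1 := orderOf_eq_one_iff.mp ((Nat.coprime_two_right.mpr hho).eq_one_of_dvd
            (orderOf_dvd_of_pow_eq_one (by rw [pow_two]; exact h2)))
          exact hgt (by rw [h1, mul_one])
        · rintro ⟨v, ⟨⟨hvt, hv⟩, hne⟩, h, ⟨hh, hho, hth⟩, rfl⟩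
          refine ⟨(key v h hv hh hho).mpr ⟨hvt, hth⟩, fun hodd => ?_, fun e => hne ?_⟩
          · have h1 := orderOf_pow_dvd (x := v * h) (orderOf h)
            rw [pow_orderOf_of_commute hv hh hho, hv] at h1
            exact Nat.not_even_iff_odd.mpr hodd (even_iff_two_dvd.mpr h1)
          · exact (component_unique hv hh hho ht (h' := 1) (by rw [mul_one, one_mul])
              (by rw [orderOf_one]; exact odd_one) (e.trans (mul_one t).symm)).1
      · rintro v ⟨⟨-, hv⟩, -⟩ v' ⟨⟨-, hv'⟩, -⟩ g ⟨h, ⟨hh, ho, -⟩, rfl⟩ ⟨h', ⟨hh', ho', -⟩, he⟩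
        exact ((component_unique hv' hh' ho' hv hh ho he).1).symm
      · rintro v ⟨⟨hvt, hv⟩, hne⟩
        rw [Set.ncard_image_of_injective _ (mul_right_injective v),
          show {h : G | h * v = v * h ∧ Odd (orderOf h) ∧ t * h * t = h⁻¹} =
            {g : G | g * v = v * g ∧ (Odd (orderOf g) ∧ g ≠ 1 ∧ t * g * t = g⁻¹)} ∪ {1} from ?_,
          Set.ncard_union_eq (Set.disjoint_singleton_right.mpr (fun h => h.2.2.1 rfl))
            (Set.toFinite _) (Set.toFinite _),
          H.card_inverted_cent hv ht hvt.symm (Ne.symm hne), Set.ncard_singleton]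
        ext h
        simp only [Set.mem_union, Set.mem_ofPred_eq, Set.mem_singleton_iff]
        constructor
        · rintro ⟨h1, h2, h3⟩
          by_cases e : h = 1
          · exact Or.inr e
          · exact Or.inl ⟨h1, h2, e, h3⟩
        · rintro (⟨h1, h2, -, h3⟩ | rfl)
          · exact ⟨h1, h2, h3⟩
          · exact ⟨by rw [mul_one, one_mul], by rw [orderOf_one]; exact odd_one, by rw [mul_one, htt, inv_one]⟩
    have he : {g : G | t * g * t = g⁻¹ ∧ ¬ Odd (orderOf g)} =
        {g : G | t * g * t = g⁻¹ ∧ ¬ Odd (orderOf g) ∧ g ≠ t} ∪ {t} := by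
      ext g
      simp only [Set.mem_union, Set.mem_ofPred_eq, Set.mem_singleton_iff]
      constructor
      · rintro ⟨h1, h2⟩
        by_cases e : g = t
        · exact Or.inr e
        · exact Or.inl ⟨h1, h2, e⟩
      · rintro (⟨h1, h2, -⟩ | rfl)
        · exact ⟨h1, h2⟩
        · exact ⟨by rw [htt, one_mul, Involution.inv_eq_self htt], by rw [ht]; decide⟩
    rw [he, Set.ncard_union_eq (Set.disjoint_singleton_right.mpr fun h => h.2.2 rfl)
      (Set.toFinite _) (Set.toFinite _), hmain, hS', Set.ncard_singleton]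
  rw [hsplit, Set.ncard_union_eq ?_ (Set.toFinite _) (Set.toFinite _), heven,
    Set.ncard_union_eq (Set.disjoint_singleton_right.mpr fun h => h.2.1 rfl)
      (Set.toFinite _) (Set.toFinite _), Set.ncard_singleton] at hT
  · omega
  · rw [Set.disjoint_left]
    rintro g (⟨ho, -, -⟩ | e) ⟨-, hne⟩
    · exact hne ho
    · rw [Set.mem_singleton_iff.mp e, orderOf_one] at hne
      exact hne odd_one

theorem card_oddInv_const {t v : G} (ht : orderOf t = 2) (hv : orderOf v = 2) :
    (oddInv v).ncard = (oddInv t).ncard := by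
  obtain ⟨c, hc⟩ := isConj_iff.mp (H.conj_all t v ht hv)
  rw [← Set.ncard_image_of_injective (oddInv t) (MulAut.conj c).injective]
  congr 1
  ext g
  constructor
  · rintro ⟨h1, h2, h3⟩
    refine ⟨c⁻¹ * g * c, ⟨?_, ?_, ?_⟩, by show c * (c⁻¹ * g * c) * c⁻¹ = g; group⟩
    · have := Involution.orderOf_conj_eq c⁻¹ g
      rw [inv_inv] at this
      rwa [this]
    · intro e
      apply h2
      calc g = c * (c⁻¹ * g * c) * c⁻¹ := by group
        _ = 1 := by rw [e]; group
    · calc t * (c⁻¹ * g * c) * t = c⁻¹ * ((c * t * c⁻¹) * g * (c * t * c⁻¹)) * c := by group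
        _ = (c⁻¹ * g * c)⁻¹ := by rw [hc, h3]; group
  · rintro ⟨h, ⟨h1, h2, h3⟩, rfl⟩
    refine ⟨?_, fun e => h2 (conj_eq_one_iff.mp e), ?_⟩
    · show Odd (orderOf (c * h * c⁻¹))
      rwa [Involution.orderOf_conj_eq]
    · show v * (c * h * c⁻¹) * v = (c * h * c⁻¹)⁻¹
      rw [← hc]
      calc c * t * c⁻¹ * (c * h * c⁻¹) * (c * t * c⁻¹) = c * (t * h * t) * c⁻¹ := by group
        _ = _ := by rw [h3]; group

open Classical in
theorem sum_inverters [Fintype G] {t : G} (ht : orderOf t = 2) :
    ∑ g ∈ Finset.univ.filter (fun g : G => Odd (orderOf g) ∧ g ≠ 1), (inverters g).ncard =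
      (invol G).ncard * (oddInv t).ncard := by
  rw [Set.ncard_eq_toFinset_card' (invol G)]
  have h1 : ∀ g ∈ Finset.univ.filter (fun g : G => Odd (orderOf g) ∧ g ≠ 1), (inverters g).ncard =
      ∑ v ∈ (invol G).toFinset, if v * g * v⁻¹ = g⁻¹ then 1 else 0 := fun g _ => by
    rw [Finset.sum_boole, Set.ncard_eq_toFinset_card', Nat.cast_id]
    congr 1
    ext v
    rw [Finset.mem_filter, Set.mem_toFinset, Set.mem_toFinset]
    rfl
  rw [Finset.sum_congr rfl h1, Finset.sum_comm]
  rw [Finset.sum_const_nat (m := (oddInv t).ncard)]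
  intro v hv
  have hv2 : orderOf v = 2 := (Set.mem_toFinset.mp hv : v ∈ invol G)
  rw [← H.card_oddInv_const ht hv2, Finset.sum_boole, Set.ncard_eq_toFinset_card', Nat.cast_id]
  congr 1
  ext g
  rw [Finset.mem_filter, Finset.mem_filter, Set.mem_toFinset, Involution.inv_eq_self (Involution.mul_self_eq_one hv2)]
  simp only [Finset.mem_univ, true_and, and_assoc]
  rfl

end Hyp

end Cfsg.Agent.Lib.JankoOrder
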