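import Cfsg.Agent.Lib.ZJ.NPC
import Cfsg.Agent.Lib.Transfer.PResidual
import Mathlib

/-!
# A configuration excluded by the normal complement theorem of Glauberman and Thompson
-/

set_option autoImplicit false
set_option linter.unusedSectionVars false
set_option linter.style.haveILetI false

namespace Cfsg.Agent.Lib.JankoOrder

open Subgroup Cfsg
open Cfsg.Agent.Lib

universe u

variable {M : Type u} [Group M] [Finite M]

theorem false_of_local (O : Subgroup M) (r : M) (hO : ∀ x ∈ O, ∀ y ∈ O, x * y = y * x)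
    (hO27 : Nat.card O = 27) (hr : r ^ 3 = 1) (hrO : r ∉ O) (hnorm : ∀ x ∈ O, r * x * r⁻¹ ∈ O)
    (hfix : ∀ K : Subgroup M, K ≤ O → (∀ x ∈ K, r * x = x * r) → Nat.card K ≤ 3)
    (hN : ∀ n : M, (∀ x ∈ O, n * x * n⁻¹ ∈ O) → n ∈ O ⊔ zpowers r)
    (B : Subgroup M) (hB : ∀ x ∈ B, ∀ y ∈ B, x * y = y * x) (hB27 : Nat.card B = 27)
    (hrB : r ∈ B) : False := by
  classical
  haveI h3 : Fact (Nat.Prime 3) := ⟨Nat.prime_three⟩
  set P := O ⊔ zpowers r with hP
  have hOP : O ≤ P := le_sup_left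
  have hrP : r ∈ P := mem_sup_right (mem_zpowers r)
  have hrn : r ∈ normalizer (O : Set M) := by
    rw [mem_normalizer_iff]
    refine fun x => ⟨hnorm x, fun hx => ?_⟩
    have h1 := hnorm _ (hnorm _ hx)
    rwa [show r * (r * (r * x * r⁻¹) * r⁻¹) * r⁻¹ = r ^ 3 * x * (r ^ 3)⁻¹ by
      rw [pow_succ, pow_two]; group, hr, one_mul, inv_one, mul_one] at h1
  have hPset : ∀ x : M, x ∈ P ↔ ∃ o ∈ O, ∃ i : ℕ, i < 3 ∧ x = o * r ^ i := by
    intro x
    rw [← SetLike.mem_coe, hP,
      coe_mul_of_right_le_normalizer_left O (zpowers r) (zpowers_le.mpr hrn)]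
    constructor
    · rintro ⟨o, ho, z, hz, rfl⟩
      obtain ⟨k, rfl⟩ := mem_zpowers_iff.mp hz
      refine ⟨o, ho, (k % 3).toNat, by omega, ?_⟩
      show o * r ^ k = _
      congr 1
      rw [← zpow_natCast, Int.toNat_of_nonneg (Int.emod_nonneg _ (by norm_num))]
      conv_lhs => rw [← Int.emod_add_mul_ediv k 3]
      rw [zpow_add, zpow_mul, show (3 : ℤ) = ((3 : ℕ) : ℤ) from rfl, zpow_natCast r 3, hr, one_zpow,
        mul_one]
    · rintro ⟨o, ho, i, -, rfl⟩
      exact ⟨o, ho, r ^ i, pow_mem (mem_zpowers r) i, rfl⟩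
  have hrO2 : ∀ i : ℕ, i < 3 → r ^ i ∈ O → i = 0 := by
    intro i hi hm
    by_contra hne
    refine hrO ?_
    rcases (show i = 1 ∨ i = 2 by omega) with rfl | rfl
    · simpa using hm
    · have := pow_mem hm 2
      rwa [← pow_mul, show 2 * 2 = 3 + 1 by norm_num, pow_add, hr, one_mul, pow_one] at this
  have hP81 : Nat.card P = 81 := by
    let f : O × Fin 3 → P := fun q => ⟨(q.1 : M) * r ^ (q.2 : ℕ),
      mul_mem (hOP q.1.2) (pow_mem hrP _)⟩
    have hf : Function.Bijective f := by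
      refine ⟨fun q q' h => ?_, fun x => ?_⟩
      · have h' : (q.1 : M) * r ^ (q.2 : ℕ) = (q'.1 : M) * r ^ (q'.2 : ℕ) := congrArg Subtype.val h
        have hij : (q.2 : ℕ) = q'.2 := by
          by_contra hne
          wlog hlt : (q.2 : ℕ) < q'.2 generalizing q q'
          · exact this q' q h.symm h'.symm (Ne.symm hne) (by omega)
          have e : r ^ ((q'.2 : ℕ) - q.2) = (q'.1 : M)⁻¹ * q.1 := by
            have h'' : (q'.1 : M)⁻¹ * q.1 * r ^ (q.2 : ℕ) =
                r ^ ((q'.2 : ℕ) - q.2) * r ^ (q.2 : ℕ) := by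
              rw [mul_assoc, h', ← pow_add, Nat.sub_add_cancel hlt.le]; group
            exact (mul_right_cancel h'').symm
          have := hrO2 _ (by have := q'.2.isLt; omega) (e ▸ mul_mem (inv_mem q'.1.2) q.1.2)
          omega
        rw [hij, mul_left_inj] at h'
        exact Prod.ext (Subtype.ext h') (Fin.ext hij)
      · obtain ⟨o, ho, i, hi, e⟩ := (hPset x).mp x.2
        exact ⟨(⟨o, ho⟩, ⟨i, hi⟩), Subtype.ext e.symm⟩
    rw [← Nat.card_eq_of_bijective f hf, Nat.card_prod, hO27, Nat.card_fin]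
  -- abelian subgroups of order at least 27
  have huniq : ∀ A : Subgroup M, A ≤ P → (∀ x ∈ A, ∀ y ∈ A, x * y = y * x) → 27 ≤ Nat.card A →
      A = O := by
    intro A hAP hA hcard
    by_cases hAO : A ≤ O
    · exact Subgroup.eq_of_le_of_card_ge hAO (hO27.trans_le hcard)
    exfalso
    obtain ⟨a, haA, haO⟩ := SetLike.not_le_iff_exists.mp hAO
    obtain ⟨o, ho, i, hi, rfl⟩ := (hPset a).mp (hAP haA)
    have hi0 : i ≠ 0 := by rintro rfl; simp at haO; exact haO ho
    have hK : Nat.card (A ⊓ O : Subgroup M) ≤ 3 := by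
      refine hfix _ inf_le_right fun x hx => ?_
      obtain ⟨hxA, hxO⟩ := mem_inf.mp hx
      have h1 := hA _ haA x hxA
      have h2 : Commute (r ^ i) x := by
        have h3 : o * (r ^ i * x) = o * (x * r ^ i) := by
          calc o * (r ^ i * x) = o * r ^ i * x := by group
            _ = x * (o * r ^ i) := h1
            _ = x * o * r ^ i := by group
            _ = o * x * r ^ i := by rw [hO x hxO o ho]
            _ = o * (x * r ^ i) := by group
        exact mul_left_cancel h3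
      rcases (show i = 1 ∨ i = 2 by omega) with rfl | rfl
      · simpa using h2.eq
      · have h4 := h2.pow_left 2
        rw [← pow_mul, show 2 * 2 = 3 + 1 by norm_num, pow_add, hr, one_mul, pow_one] at h4
        exact h4.eq
    have hrel : O.relIndex A ≤ 3 := by
      have h1 : O.relIndex P = 3 := by
        have := relIndex_mul_relIndex ⊥ O P bot_le hOP
        rw [relIndex_bot_left, relIndex_bot_left, hO27, hP81] at this
        omega
      calc O.relIndex A ≤ O.relIndex P := relIndex_le_of_le_right hAP (by omega)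
        _ = 3 := h1
    have hcardA : Nat.card (A ⊓ O : Subgroup M) * O.relIndex A = Nat.card A := by
      have := relIndex_mul_relIndex ⊥ (A ⊓ O) A bot_le inf_le_left
      rwa [relIndex_bot_left, relIndex_bot_left, inf_comm, inf_relIndex_right, inf_comm] at this
    have := Nat.mul_le_mul hK hrel
    omega
  -- `P` is a Sylow subgroup
  have hPp : IsPGroup 3 P := IsPGroup.of_card (n := 4) (by rw [hP81]; norm_num)
  obtain ⟨Q, hQ⟩ := hPp.exists_le_sylow
  have hQP : (Q : Subgroup M) = P := by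
    refine (le_antisymm hQ ?_).symm
    by_contra hne
    have hlt : P.subgroupOf Q < ⊤ := lt_top_iff_ne_top.mpr fun e => hne (by
      intro x hx
      have h : (⟨x, hx⟩ : (Q : Subgroup M)) ∈ P.subgroupOf Q := by rw [e]; trivial
      exact h)
    haveI := Q.2.isNilpotent
    have hgt := Group.normalizerCondition_of_isNilpotent (P.subgroupOf Q) hlt
    obtain ⟨y, hy, hy'⟩ := SetLike.exists_of_lt hgt
    refine hy' (mem_subgroupOf.mpr (hN y fun x hx => ?_))
    have hyn := mem_normalizer_iff.mp hy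
    have key : ∀ z ∈ P, (y : M) * z * (y : M)⁻¹ ∈ P := fun z hz =>
      mem_subgroupOf.mp ((hyn ⟨z, hQ hz⟩).mp (mem_subgroupOf.mpr hz))
    have he := huniq (O.map (MulAut.conj (y : M)).toMonoidHom) (map_le_iff_le_comap.mpr fun z hz =>
      key z (hOP hz)) (fun a ha b hb => by
        obtain ⟨a', ha', rfl⟩ := ha
        obtain ⟨b', hb', rfl⟩ := hb
        rw [← map_mul, ← map_mul, hO a' ha' b' hb'])
      (by rw [card_map_of_injective (MulAut.conj (y : M)).injective, hO27])
    rw [← he]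
    exact mem_map_of_mem (MulAut.conj (y : M)).toMonoidHom hx
  -- `Z(J(P)) = O`
  have hfam : O ∈ ZJ.fam 0 (Q : Subgroup M) := by
    refine ⟨hQP ▸ hOP, ⟨hO, fun x _ => pow_zero x⟩, fun A hA hAe => ?_⟩
    by_contra hlt
    rw [huniq A (hQP ▸ hA) hAe.1 (by omega)] at hlt
    exact hlt le_rfl
  have hzj : ZJ.zj 0 (Q : Subgroup M) = O := by
    refine le_antisymm (ZJ.zj_le_of_mem hfam) fun x hx => ZJ.mem_zj.mpr fun A hA => ?_
    rw [huniq A (hQP ▸ hA.1) hA.2.1.1 (hO27 ▸ hA.2.2 O hfam.1 hfam.2.1)]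
    exact hx
  have hNle : normalizer (ZJ.zj 0 (Q : Subgroup M) : Set M) ≤ P := by
    rw [hzj]
    exact fun n hn => hN n fun x hx => (mem_normalizer_iff.mp hn x).mp hx
  obtain ⟨R, K, hKn, hKR⟩ := ZJ.hasNormalPComplement_of_zj (by norm_num : (3 : ℕ) ≠ 2) Q
    (Transfer.hasNormalPComplement_of_isPGroup (hPp.to_le hNle))
  have hR81 : Nat.card (R : Subgroup M) = 81 := by rw [R.card_eq_multiplicity, ← Q.card_eq_multiplicity, hQP, hP81]
  have hKidx : K.index = 81 := by
    rw [hKR.symm.index_eq_card, hR81]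
  have hK3 : ¬ 3 ∣ Nat.card K := by
    intro hd
    have h1 := K.card_mul_index
    rw [hKidx] at h1
    have h5 : 3 ^ 5 ∣ Nat.card M := by
      rw [← h1, show (3 : ℕ) ^ 5 = 3 * 81 by norm_num]; exact Nat.mul_dvd_mul hd dvd_rfl
    have h6 := Q.pow_dvd_card_of_pow_dvd_card h5
    rw [hQP, hP81] at h6
    norm_num at h6
  have hdisj : ∀ x : M, x ∈ K → ∀ n : ℕ, x ^ 3 ^ n = 1 → x = 1 := by
    intro x hx n hn
    refine orderOf_eq_one_iff.mp (Nat.eq_one_of_dvd_coprimes
      (Nat.Coprime.pow_left n ((Nat.prime_three.coprime_iff_not_dvd).mpr hK3))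
      (orderOf_dvd_of_pow_eq_one hn) (K.orderOf_dvd_natCard hx))
  let π : P →* M ⧸ K := (QuotientGroup.mk' K).comp P.subtype
  have hπ : Function.Bijective π := by
    refine (Nat.bijective_iff_injective_and_card _).mpr ⟨?_, by rw [hP81, ← index_eq_card, hKidx]⟩
    rw [← MonoidHom.ker_eq_bot_iff, eq_bot_iff]
    rintro ⟨x, hx⟩ hxK
    rw [MonoidHom.mem_ker] at hxK
    have hxK' : x ∈ K := (QuotientGroup.eq_one_iff x).mp hxK
    obtain ⟨n, hn⟩ := hPp ⟨x, hx⟩
    exact Subgroup.mem_bot.mpr (Subtype.ext (hdisj x hxK' n (congrArg Subtype.val hn)))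
  let e : P ≃* M ⧸ K := MulEquiv.ofBijective π hπ
  let ψ : B →* M := P.subtype.comp (e.symm.toMonoidHom.comp ((QuotientGroup.mk' K).comp B.subtype))
  have hψinj : Function.Injective ψ := by
    rw [← MonoidHom.ker_eq_bot_iff, eq_bot_iff]
    rintro ⟨x, hx⟩ hxK
    rw [MonoidHom.mem_ker] at hxK
    have h1 : e.symm (x : M ⧸ K) = 1 := Subtype.ext hxK
    rw [MulEquiv.map_eq_one_iff] at h1
    have hBp : IsPGroup 3 B := IsPGroup.of_card (n := 3) (by rw [hB27]; norm_num)
    obtain ⟨n, hn⟩ := hBp ⟨x, hx⟩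
    exact Subgroup.mem_bot.mpr (Subtype.ext
      (hdisj x ((QuotientGroup.eq_one_iff x).mp h1) n (congrArg Subtype.val hn)))
  have hψr : ψ ⟨r, hrB⟩ = r := by
    show ((e.symm (r : M ⧸ K) : P) : M) = r
    rw [show (r : M ⧸ K) = e ⟨r, hrP⟩ from rfl, e.symm_apply_apply]
  refine hrO ?_
  rw [← huniq ψ.range (by rintro _ ⟨y, rfl⟩; exact SetLike.coe_mem _)
    (by
      rintro _ ⟨a, rfl⟩ _ ⟨b, rfl⟩
      rw [← map_mul, ← map_mul]
      exact congrArg ψ (Subtype.ext (hB a a.2 b b.2)))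
    (by rw [← Nat.card_congr (MonoidHom.ofInjective hψinj).toEquiv, hB27])]
  exact ⟨⟨r, hrB⟩, hψr⟩

end Cfsg.Agent.Lib.JankoOrder
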