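import Cfsg.Agent.Lib.JankoOrder.Generic
import Cfsg.Agent.Lib.JankoOrder.Arith
import Mathlib

/-!
# The order of a simple group with an involution centraliser `Z₂ × A₅`
-/

set_option autoImplicit false
set_option linter.unusedSectionVars false
set_option linter.style.haveILetI false

namespace Cfsg.Agent.Lib.JankoOrder

open Cfsg Subgroup

universe u

variable {G : Type u} [Group G] [Finite G]

theorem genSet_conj {g : G} (hg : g ∈ genSet G) (c : G) : c * g * c⁻¹ ∈ genSet G := by
  obtain ⟨h1, h2, h3, h4, h5, hne⟩ := hg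
  have ho := Involution.orderOf_conj_eq c g
  refine ⟨by rw [ho]; exact h1, fun e => h2 (conj_eq_one_iff.mp e), by rw [ho]; exact h3,
    by rw [ho]; exact h4, by rw [ho]; exact h5, ?_⟩
  rw [← Set.ncard_pos (Set.toFinite _), card_inverters_conj, Set.ncard_pos (Set.toFinite _)]
  exact hne

theorem prod_dvd_of_coprime {ι : Type*} (s : Finset ι) (a : ι → ℕ) {f : ℕ}
    (hd : ∀ i ∈ s, a i ∣ f) (hco : ∀ i ∈ s, ∀ j ∈ s, i ≠ j → Nat.Coprime (a i) (a j)) :
    (∏ i ∈ s, a i) ∣ f := by
  classical
  induction s using Finset.induction_on with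
  | empty => simp
  | @insert x s hx ih =>
    rw [Finset.prod_insert hx]
    refine Nat.Coprime.mul_dvd_of_dvd_of_dvd (Nat.Coprime.prod_right fun j hj => ?_)
      (hd x (Finset.mem_insert_self x s))
      (ih (fun i hi => hd i (Finset.mem_insert_of_mem hi))
        fun i hi j hj => hco i (Finset.mem_insert_of_mem hi) j (Finset.mem_insert_of_mem hj))
    exact hco x (Finset.mem_insert_self x s) j (Finset.mem_insert_of_mem hj) fun e => hx (e ▸ hj)

namespace Hyp

variable (H : Hyp G) {n3 n5 : ℕ} (T : TypeData G n3 n5)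
include H T

/-- The tori up to conjugacy. -/
theorem exists_tori {t : G} (ht : orderOf t = 2) :
    ∃ (S : Finset (Set (Subgroup G))) (e a : Set (Subgroup G) → ℕ),
      (∀ i ∈ S, goodPair (e i) (a i) = true) ∧
      (∀ i ∈ S, ∀ j ∈ S, i ≠ j → Nat.Coprime (a i) (a j)) ∧
      (∏ i ∈ S, a i) ∣ (invol G).ncard ∧
      (∀ [Fintype G] [DecidablePred (· ∈ genSet G)],
        (∑ g ∈ Finset.univ.filter (· ∈ genSet G), (inverters g).ncard) =
          120 * (invol G).ncard * ∑ i ∈ S, (a i - 1) / e i) ∧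
      ((genSet G).ncard : ℚ) =
        (invol G).ncard * ∑ i ∈ S, (120 * (((a i - 1) / e i : ℕ) : ℚ)) / (a i : ℚ) := by
  classical
  haveI := Fintype.ofFinite G
  haveI := Fintype.ofFinite (Subgroup G)
  let orbit : G → Set (Subgroup G) := fun g => subOrbit (centralizer ({g} : Set G))
  let gen : Finset G := Finset.univ.filter (· ∈ genSet G)
  let rep : Set (Subgroup G) → G := fun Ω =>
    if h : ∃ g ∈ genSet G, orbit g = Ω then h.choose else 1
  have hgen : ∀ {g}, g ∈ gen ↔ g ∈ genSet G := fun {g} => by simp [gen]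
  have hrep : ∀ Ω ∈ gen.image orbit, rep Ω ∈ genSet G ∧ orbit (rep Ω) = Ω := by
    intro Ω hΩ
    obtain ⟨g, hg, rfl⟩ := Finset.mem_image.mp hΩ
    have h : ∃ g' ∈ genSet G, orbit g' = orbit g := ⟨g, hgen.mp hg, rfl⟩
    simp only [rep, dif_pos h]
    exact h.choose_spec
  let a : Set (Subgroup G) → ℕ := fun Ω => Nat.card (centralizer ({rep Ω} : Set G))
  let e : Set (Subgroup G) → ℕ := fun Ω =>
    Nat.card (normalizer (centralizer ({rep Ω} : Set G) : Set G)) / a Ω
  have hfacts : ∀ Ω ∈ gen.image orbit,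
      goodPair (e Ω) (a Ω) = true ∧ Ω.ncard * (e Ω * a Ω) = 120 * (invol G).ncard := by
    intro Ω hΩ
    obtain ⟨hg, hor⟩ := hrep Ω hΩ
    obtain ⟨e', hN, he', hdiv⟩ := H.torus_normalizer T ht hg
    obtain ⟨hcop, -⟩ := H.gen_facts T ht hg
    have hapos : 0 < a Ω := Nat.card_pos
    have hee : e Ω = e' := by
      show Nat.card _ / a Ω = e'
      rw [hN]
      exact Nat.mul_div_cancel _ hapos
    refine ⟨?_, ?_⟩
    · simp only [goodPair, decide_eq_true_eq, hee]
      refine ⟨he', ?_, hdiv, hcop⟩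
      have h2 : 2 ≤ a Ω := by
        have := (centralizer ({rep Ω} : Set G)).one_lt_card_iff_ne_bot.mpr fun hbot =>
          hg.2.1 (Subgroup.mem_bot.mp (hbot ▸ mem_centralizer_singleton_iff.mpr rfl))
        exact this
      by_contra hlt
      push Not at hlt
      have hc : Nat.Coprime (a Ω) 30 := hcop
      interval_cases hk : a Ω <;> norm_num at hc
    · rw [hee, show e' * a Ω = Nat.card (normalizer (centralizer ({rep Ω} : Set G) : Set G)) from
        hN.symm]
      have h1 := card_subOrbit (centralizer ({rep Ω} : Set G))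
      rw [show subOrbit (centralizer ({rep Ω} : Set G)) = Ω from hor] at h1
      rw [h1, mul_comm, H.card_group ht]
  have hmemA : ∀ Ω ∈ gen.image orbit, ∀ A ∈ Ω, ∃ h ∈ genSet G, A = centralizer ({h} : Set G) ∧
      orbit h = Ω ∧ Nat.card A = a Ω := by
    intro Ω hΩ A hA
    obtain ⟨hg, hor⟩ := hrep Ω hΩ
    rw [← hor] at hA
    obtain ⟨c, rfl⟩ := hA
    refine ⟨c * rep Ω * c⁻¹, genSet_conj hg c, map_centralizer _ _, ?_, ?_⟩
    · show subOrbit _ = Ω
      rw [← map_centralizer, subOrbit_map]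
      exact hor
    · exact card_map_of_injective (MulAut.conj c).injective
  have hfib : ∀ Ω ∈ gen.image orbit,
      (gen.filter fun g => orbit g = Ω).card = Ω.ncard * (a Ω - 1) := by
    intro Ω hΩ
    rw [← Set.ncard_coe_finset]
    refine ncard_biUnion_of_const (fun A : Subgroup G => (A : Set G) \ {1}) ?_ ?_ ?_
    · intro g
      simp only [Finset.coe_filter, Set.mem_ofPred_eq]
      constructor
      · rintro ⟨hg, rfl⟩
        exact ⟨_, mem_subOrbit_self _, mem_centralizer_singleton_iff.mpr rfl, (hgen.mp hg).2.1⟩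
      · rintro ⟨A, hA, hgA, hg1⟩
        obtain ⟨h, hh, rfl, hor, -⟩ := hmemA Ω hΩ A hA
        obtain ⟨hg', heq⟩ := H.gen_ti T ht hh hgA hg1
        exact ⟨hgen.mpr hg', by show subOrbit _ = Ω; rw [heq]; exact hor⟩
    · rintro A hA A' hA' g ⟨hg, hg1⟩ ⟨hg', -⟩
      obtain ⟨h, hh, rfl, -, -⟩ := hmemA Ω hΩ A hA
      obtain ⟨h', hh', rfl, -, -⟩ := hmemA Ω hΩ A' hA'
      rw [← (H.gen_ti T ht hh hg hg1).2, ← (H.gen_ti T ht hh' hg' hg1).2]
    · intro A hA
      obtain ⟨h, hh, -, -, hc⟩ := hmemA Ω hΩ A hA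
      rw [Set.ncard_sdiff_singleton_of_mem (one_mem _), ← Nat.card_coe_set_eq, ← hc]
      rfl
  have hcardC : ∀ Ω ∈ gen.image orbit, ∀ g ∈ gen.filter (fun g => orbit g = Ω),
      (inverters g).ncard = a Ω := by
    intro Ω hΩ g hg
    obtain ⟨hgg, rfl⟩ := Finset.mem_filter.mp hg
    obtain ⟨hcop, u, hu, hug, hinv⟩ := H.gen_facts T ht (hgen.mp hgg)
    rw [card_inverters_of_inverted hu hug
      (Nat.coprime_two_right.mp (hcop.coprime_dvd_right (by norm_num))) hinv]
    obtain ⟨h, -, heq, -, hc⟩ := hmemA _ hΩ _ (mem_subOrbit_self (centralizer ({g} : Set G)))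
    exact hc
  have hpair : ∀ i ∈ gen.image orbit, ∀ j ∈ gen.image orbit, i ≠ j → Nat.Coprime (a i) (a j) := by
    intro i hi j hj hij
    by_contra hnc
    obtain ⟨q, hq, hqi, hqj⟩ := Nat.Prime.not_coprime_iff_dvd.mp hnc
    haveI := Fact.mk hq
    obtain ⟨Q, hQ⟩ := H.torus_hall T ht (hrep i hi).1 hqi
    obtain ⟨Q', hQ'⟩ := H.torus_hall T ht (hrep j hj).1 hqj
    obtain ⟨c, hc⟩ := MulAction.exists_smul_eq G Q Q'
    have hQne : (Q : Subgroup G) ≠ ⊥ := Q.ne_bot_of_dvd_card
      (hqi.trans (card_subgroup_dvd_card _))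
    obtain ⟨x, hx, hx1⟩ : ∃ x ∈ (Q : Subgroup G), x ≠ 1 := by
      by_contra hno
      push Not at hno
      exact hQne (eq_bot_iff.mpr fun x hx => Subgroup.mem_bot.mpr (hno x hx))
    have hxQ' : c * x * c⁻¹ ∈ (Q' : Subgroup G) := by
      rw [← hc, Sylow.coe_subgroup_smul]
      exact ⟨x, hx, rfl⟩
    have hx1' : c * x * c⁻¹ ≠ 1 := fun e => hx1 (conj_eq_one_iff.mp e)
    have h1 : c * x * c⁻¹ ∈ centralizer ({c * rep i * c⁻¹} : Set G) := by
      rw [← map_centralizer]
      exact mem_map_of_mem (MulAut.conj c).toMonoidHom (hQ hx)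
    have e1 := (H.gen_ti T ht (genSet_conj (hrep i hi).1 c) h1 hx1').2
    have e2 := (H.gen_ti T ht (hrep j hj).1 (hQ' hxQ') hx1').2
    refine hij ?_
    rw [← (hrep i hi).2, ← (hrep j hj).2]
    show subOrbit _ = subOrbit _
    rw [← subOrbit_map (centralizer ({rep i} : Set G)) c, map_centralizer, ← e1, e2]
  refine ⟨gen.image orbit, e, a, fun i hi => (hfacts i hi).1, hpair, ?_, ?_, ?_⟩
  · refine prod_dvd_of_coprime _ _ (fun i hi => ?_) ?_
    · obtain ⟨hcop, -⟩ := H.gen_facts T ht (hrep i hi).1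
      have hd : a i ∣ (invol G).ncard * 120 := H.card_group ht ▸ card_subgroup_dvd_card _
      refine Nat.Coprime.dvd_of_dvd_mul_right ?_ hd
      show Nat.Coprime (a i) (2 ^ 2 * 30)
      exact Nat.Coprime.mul_right (Nat.Coprime.pow_right 2 (hcop.coprime_dvd_right (by norm_num))) hcop
    · exact hpair
  · intro inst1 inst2
    rw [show (@Finset.filter G (· ∈ genSet G) inst2 (@Finset.univ G inst1)) = gen by
      ext g; simp [gen]]
    rw [← Finset.sum_fiberwise_of_maps_to (g := orbit) (t := gen.image orbit)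
      (fun g hg => Finset.mem_image_of_mem _ hg), Finset.mul_sum]
    refine Finset.sum_congr rfl fun Ω hΩ => ?_
    rw [Finset.sum_congr rfl (hcardC Ω hΩ), Finset.sum_const, hfib Ω hΩ, smul_eq_mul]
    obtain ⟨hgood, hcard⟩ := hfacts Ω hΩ
    simp only [goodPair, decide_eq_true_eq] at hgood
    obtain ⟨m, hm⟩ := hgood.2.2.1
    have hepos : 0 < e Ω := by rcases hgood.1 with h | h | h <;> omega
    rw [← hcard, hm, Nat.mul_div_cancel_left _ hepos]
    ring
  · have hG : (genSet G).ncard = ∑ Ω ∈ gen.image orbit, Ω.ncard * (a Ω - 1) := by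
      rw [show genSet G = (gen : Set G) by ext; simp [gen], Set.ncard_coe_finset,
        Finset.card_eq_sum_card_image orbit gen]
      exact Finset.sum_congr rfl hfib
    rw [hG, Finset.mul_sum]
    push_cast
    refine Finset.sum_congr rfl fun Ω hΩ => ?_
    obtain ⟨hgood, hcard⟩ := hfacts Ω hΩ
    simp only [goodPair, decide_eq_true_eq] at hgood
    obtain ⟨m, hm⟩ := hgood.2.2.1
    have hepos : 0 < e Ω := by rcases hgood.1 with h | h | h <;> omega
    have ha0 : (a Ω : ℚ) ≠ 0 := by exact_mod_cast (by omega : a Ω ≠ 0)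
    have hcard' : (Ω.ncard : ℚ) * ((e Ω : ℚ) * a Ω) = 120 * ((invol G).ncard : ℚ) := by
      exact_mod_cast hcard
    rw [hm, Nat.mul_div_cancel_left _ hepos]
    push_cast
    field_simp
    linear_combination (m : ℚ) * hcard'

set_option maxHeartbeats 1600000 in
theorem card_count {t : G} (ht : orderOf t = 2) :
    (invol G).ncard = (if n3 = 3 then 1463 * 0 else 1463) := by
  classical
  haveI := Fintype.ofFinite G
  obtain ⟨S, e, a, hgood, hco, hdvd, hsum, hweight⟩ := H.exists_tori T ht
  set f := (invol G).ncard with hf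
  have hG : f * 120 = Nat.card G := H.card_group ht
  have hfpos : 0 < f := by
    have := Nat.card_pos (α := G); omega
  have hfR := H.card_oddInv_eq ht
  rw [← hf] at hfR
  have hX := H.card_three T ht
  have hY := H.card_five T ht
  have hZ := H.card_fifteen T ht
  rw [← hf] at hX hY
  set X := {g : G | orderOf g = 3}.ncard with hXdef
  set Y := {g : G | orderOf g = 5}.ncard with hYdef
  set Z := {g : G | orderOf g = 15}.ncard with hZdef
  set i3 := (if n3 = 3 then 6 else 18) with hi3
  set i5 := (if n5 = 5 then 10 else 20) with hi5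
  -- the sum over the classes
  have hpt : ∀ g ∈ Finset.univ.filter (fun g : G => Odd (orderOf g) ∧ g ≠ 1),
      (inverters g).ncard = (if orderOf g = 3 then i3 else 0) + (if orderOf g = 5 then i5 else 0) +
        (if orderOf g = 15 then 15 else 0) + (if g ∈ genSet G then (inverters g).ncard else 0) := by
    intro g hg
    obtain ⟨ho, h1⟩ := (Finset.mem_filter.mp hg).2
    by_cases h3 : orderOf g = 3
    · obtain ⟨w, A⟩ := H.exists_axial_of_three T ht h3
      rw [if_pos h3, if_neg (by omega), if_neg (by omega), if_neg (fun hgm => hgm.2.2.1 h3),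
        H.card_inverters_axial T A, if_pos h3]
      rfl
    by_cases h5 : orderOf g = 5
    · obtain ⟨w, A⟩ := H.exists_axial_of_five T ht h5
      rw [if_neg h3, if_pos h5, if_neg (by omega), if_neg (fun hgm => hgm.2.2.2.1 h5),
        H.card_inverters_axial T A, if_neg h3]
      simp only [zero_add, add_zero]
      rfl
    by_cases h15 : orderOf g = 15
    · rw [if_neg h3, if_neg h5, if_pos h15, if_neg (fun hgm => hgm.2.2.2.2.1 h15),
        (H.fifteen_facts T ht h15).2.2]
    rw [if_neg h3, if_neg h5, if_neg h15]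
    by_cases hgm : g ∈ genSet G
    · rw [if_pos hgm]; simp
    · rw [if_neg hgm]
      simp only [add_zero]
      rw [Set.ncard_eq_zero (Set.toFinite _), Set.eq_empty_iff_forall_notMem]
      exact fun w hw => hgm ⟨ho, h1, h3, h5, h15, w, hw⟩
  have hsub : ∀ (p : G → Prop) [DecidablePred p], (∀ g, p g → Odd (orderOf g) ∧ g ≠ 1) →
      ∀ φ : G → ℕ, (∑ g ∈ Finset.univ.filter (fun g : G => Odd (orderOf g) ∧ g ≠ 1),
        if p g then φ g else 0) = ∑ g ∈ Finset.univ.filter p, φ g := by
    intro p _ hp φ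
    rw [← Finset.sum_filter, Finset.filter_filter]
    refine Finset.sum_congr (Finset.filter_congr fun g _ => ?_) fun _ _ => rfl
    exact ⟨fun h => h.2, fun h => ⟨hp g h, h⟩⟩
  have hordodd : ∀ {g : G} {n : ℕ}, orderOf g = n → Odd n → n ≠ 1 → Odd (orderOf g) ∧ g ≠ 1 :=
    fun h hn hn1 => ⟨by rw [h]; exact hn, fun e => hn1 (by rw [← h, e, orderOf_one])⟩
  have hcardn : ∀ n : ℕ, (Finset.univ.filter fun g : G => orderOf g = n).card =
      {g : G | orderOf g = n}.ncard := fun n => by
    rw [← Set.ncard_coe_finset]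
    simp
  have hcount : f * (oddInv t).ncard = X * i3 + Y * i5 + Z * 15 + 120 * f * ∑ i ∈ S, (a i - 1) / e i := by
    rw [hf, ← H.sum_inverters ht, Finset.sum_congr rfl hpt, Finset.sum_add_distrib,
      Finset.sum_add_distrib, Finset.sum_add_distrib,
      hsub (fun g => orderOf g = 3) (fun g h => hordodd h (by decide) (by norm_num)),
      hsub (fun g => orderOf g = 5) (fun g h => hordodd h (by decide) (by norm_num)),
      hsub (fun g => orderOf g = 15) (fun g h => hordodd h (by decide) (by norm_num)),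
      hsub (fun g => g ∈ genSet G) (fun g h => ⟨h.1, h.2.1⟩), hsum, ← hf]
    simp only [Finset.sum_const, smul_eq_mul, hcardn, hXdef, hYdef, hZdef]
  -- disjoint sets of elements
  have htotal : 1 + f * 45 + X + Y + Z + (genSet G).ncard ≤ f * 120 := by
    rw [hG, ← Nat.card_coe_set_eq (genSet G), Nat.card_coe_set_eq, hXdef, hYdef, hZdef, hf,
      ← H.card_even, ← Set.ncard_univ G]
    have key : ∀ (A B : Set G), Disjoint A B → A.ncard + B.ncard = (A ∪ B).ncard := fun A B h =>
      (Set.ncard_union_eq h (Set.toFinite _) (Set.toFinite _)).symm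
    rw [← Set.ncard_singleton (1 : G), key _ _ ?_, key _ _ ?_, key _ _ ?_, key _ _ ?_, key _ _ ?_]
    · exact Set.ncard_le_ncard (Set.subset_univ _) (Set.toFinite _)
    · rw [Set.disjoint_left]
      rintro g ((((h | h) | h) | h) | h) ⟨g1, g2, g3, g5, g15, -⟩
      · exact g2 h
      · exact h g1
      · exact g3 h
      · exact g5 h
      · exact g15 h
    · rw [Set.disjoint_left]
      rintro g (((h | h) | h) | h) (h' : orderOf g = 15)
      · rw [Set.mem_singleton_iff.mp h, orderOf_one] at h'; omega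
      · exact h (by rw [h']; decide)
      · have e : orderOf g = 3 := h; omega
      · have e : orderOf g = 5 := h; omega
    · rw [Set.disjoint_left]
      rintro g ((h | h) | h) (h' : orderOf g = 5)
      · rw [Set.mem_singleton_iff.mp h, orderOf_one] at h'; omega
      · exact h (by rw [h']; decide)
      · have e : orderOf g = 3 := h; omega
    · rw [Set.disjoint_left]
      rintro g (h | h) (h' : orderOf g = 3)
      · rw [Set.mem_singleton_iff.mp h, orderOf_one] at h'; omega
      · exact h (by rw [h']; decide)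
    · rw [Set.disjoint_singleton_left]
      exact fun h => h (by rw [orderOf_one]; exact odd_one)
  have h7 : 7 ∣ f := (Nat.Coprime.dvd_of_dvd_mul_right (by norm_num : Nat.Coprime 7 120)
    (hG ▸ H.seven))
  have hwq : ∀ w : ℕ, (genSet G).ncard < w * f →
      (∑ i ∈ S, (120 * (((a i - 1) / e i : ℕ) : ℚ)) / (a i : ℚ)) < (w : ℚ) := by
    intro w hw
    have h1 : ((genSet G).ncard : ℚ) < (w : ℚ) * f := by exact_mod_cast hw
    rw [hweight, mul_comm (w : ℚ)] at h1
    exact lt_of_mul_lt_mul_left h1 (by positivity)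
  rcases T.admissible with ⟨e3, e5⟩ | ⟨e3, e5⟩
  · rw [if_pos e3, mul_zero]
    rw [e3] at hX hZ
    rw [if_neg (by norm_num)] at hZ
    rw [e5] at hY
    rw [hi3, hi5, e3, e5, if_pos rfl, if_pos rfl] at hcount
    have hc2 : f * (oddInv t).ncard = f * (360 + 120 * ∑ i ∈ S, (a i - 1) / e i) := by
      rw [hcount, hZ, show X = 20 * f by omega, show Y = 24 * f by omega]; ring
    have hR := Nat.eq_of_mul_eq_mul_left hfpos hc2
    exact arith_target S e a chk_small (by norm_num) (by norm_num) (by norm_num) (by norm_num)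
      (by norm_num) hgood hco hdvd (by omega) h7 (hwq 31 (by omega))
  · rw [if_neg (by omega)]
    rw [e3] at hX hZ
    rw [if_pos rfl] at hZ
    rw [e5] at hY
    rw [hi3, hi5, e3, e5, if_neg (by norm_num), if_neg (by norm_num)] at hcount
    have hc2 : f * (oddInv t).ncard = f * (472 + 120 * ∑ i ∈ S, (a i - 1) / e i) := by
      rw [hcount, hZ, show X = 4 * f by omega, show Y = 8 * f by omega]; ring
    have hR := Nat.eq_of_mul_eq_mul_left hfpos hc2
    exact arith_target S e a chk_j1 (by norm_num) (by norm_num) (by norm_num) (by norm_num)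
      (by norm_num) hgood hco hdvd (by omega) h7 (hwq 47 (by omega))

end Hyp

/-- The local type is the one of the Janko group. -/
theorem Hyp.localType_janko (H : Hyp G) {t : G} (ht2 : orderOf t = 2) : LocalType G 15 15 := by
  have hG := H.card_group ht2
  rcases H.localType ht2 with T | T
  · have h := H.card_count (⟨T, Or.inl ⟨rfl, rfl⟩⟩ : TypeData G 3 5) ht2
    rw [if_pos rfl, mul_zero] at h
    rw [h, zero_mul] at hG
    exact absurd hG.symm Nat.card_pos.ne'
  · exact T

/-- The order, from the working hypothesis. -/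
theorem Hyp.card_eq_of_hyp (H : Hyp G) {t : G} (ht2 : orderOf t = 2) : Nat.card G = 175560 := by
  have hG := H.card_group ht2
  have h := H.card_count (⟨H.localType_janko ht2, Or.inr ⟨rfl, rfl⟩⟩ : TypeData G 15 15) ht2
  rw [if_neg (by norm_num)] at h
  rw [← hG, h]

/-- The order theorem. -/
theorem card_eq [IsSimpleGroup G] (t : G) (ht : Cfsg.IsTwoCentralInvolution t)
    (e : centralizer ({t} : Set G) ≃* Multiplicative (ZMod 2) × alternatingGroup (Fin 5)) :
    Nat.card G = 175560 := by
  exact (hyp_of_centralizer t ht e).card_eq_of_hyp ht.1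

end Cfsg.Agent.Lib.JankoOrder
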