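import Mathlib

/-!
# Computations in `Z₂ × A₅`
-/

set_option autoImplicit false

namespace Cfsg.Agent.Lib.JankoOrder

/-- The model of the involution centraliser. -/
abbrev Cen2A5 : Type := Multiplicative (ZMod 2) × alternatingGroup (Fin 5)

/-- The central involution of the model. -/
def cz : Cen2A5 := (Multiplicative.ofAdd 1, 1)

/-- An element of order three. -/
def c3 : Cen2A5 := (1, ⟨(Equiv.swap 0 1 * Equiv.swap 1 2 : Equiv.Perm (Fin 5)), by rw [Equiv.Perm.mem_alternatingGroup]; decide⟩)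

/-- An element of order five. -/
def c5 : Cen2A5 :=
  (1, ⟨(Equiv.swap 0 1 * Equiv.swap 1 2 * (Equiv.swap 2 3 * Equiv.swap 3 4) : Equiv.Perm (Fin 5)), by rw [Equiv.Perm.mem_alternatingGroup]; decide⟩)

/-- A non-central involution with trivial first coordinate. -/
def ci : Cen2A5 := (1, ⟨(Equiv.swap 0 1 * Equiv.swap 2 3 : Equiv.Perm (Fin 5)), by rw [Equiv.Perm.mem_alternatingGroup]; decide⟩)

theorem cen_center : ∀ k : Cen2A5, k * c3 = c3 * k → k * c5 = c5 * k → k = 1 ∨ k = cz := by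
  decide +kernel

theorem cz_central : ∀ k : Cen2A5, k * cz = cz * k := by decide +kernel

theorem cen_exponent : ∀ k : Cen2A5, k ^ 6 = 1 ∨ k ^ 10 = 1 := by decide +kernel

theorem cen_card_involutions :
    (Finset.univ.filter fun k : Cen2A5 => k * k = 1 ∧ k ≠ 1).card = 31 := by decide +kernel

theorem cen_card_odd : (Finset.univ.filter fun k : Cen2A5 => k ^ 15 = 1).card = 45 := by
  decide +kernel

set_option synthInstance.maxSize 2048 in
theorem cen_involution_conj : ∀ k : Cen2A5, k * k = 1 → k ≠ 1 → k ≠ cz →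
    (∃ g : Cen2A5, g * ci * g⁻¹ = k) ∨ ∃ g : Cen2A5, g * (cz * ci) * g⁻¹ = k := by
  decide +kernel

theorem cen_card_class :
    (Finset.univ.filter fun k : Cen2A5 => ∃ g : Cen2A5, g * ci * g⁻¹ = k).card = 15 ∧
    (Finset.univ.filter fun k : Cen2A5 => ∃ g : Cen2A5, g * (cz * ci) * g⁻¹ = k).card = 15 := by
  decide +kernel

theorem cen_three_conj : ∀ k : Cen2A5, k ^ 3 = 1 → k ≠ 1 → ∃ g : Cen2A5, g * c3 * g⁻¹ = k := by
  decide +kernel

set_option synthInstance.maxSize 2048 in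
theorem cen_five_conj : ∀ k : Cen2A5, k ^ 5 = 1 → k ≠ 1 →
    ∃ g : Cen2A5, g * c5 * g⁻¹ = k ∨ g * (c5 * c5) * g⁻¹ = k := by
  decide +kernel

theorem cen_five_not_conj : ∀ g : Cen2A5, g * c5 * g⁻¹ ≠ c5 * c5 := by decide +kernel

theorem cen_three_cent : ∀ g : Cen2A5, g * c3 = c3 * g →
    ∃ i : Fin 2, ∃ j : Fin 3, g = cz ^ (i : ℕ) * c3 ^ (j : ℕ) := by
  decide +kernel

theorem cen_five_cent : ∀ g : Cen2A5, g * c5 = c5 * g →
    ∃ i : Fin 2, ∃ j : Fin 5, g = cz ^ (i : ℕ) * c5 ^ (j : ℕ) := by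
  decide +kernel

theorem cen_three_inverted : ci * cz = cz * ci ∧ ∃ g : Cen2A5, g * g = 1 ∧ g ≠ 1 ∧
    g * c3 * g⁻¹ = c3⁻¹ := by
  decide +kernel

theorem cen_five_inverted : ∃ g : Cen2A5, g * g = 1 ∧ g ≠ 1 ∧ g * c5 * g⁻¹ = c5⁻¹ := by
  decide +kernel

theorem cen_card_inverted : ∀ i : Cen2A5, i * i = 1 → i ≠ 1 → i ≠ cz →
    (Finset.univ.filter fun k : Cen2A5 => k ^ 15 = 1 ∧ k ≠ 1 ∧ i * k * i = k⁻¹).card = 12 := by
  decide +kernel

theorem cen_card_cent_involution : ∀ i : Cen2A5, i * i = 1 → i ≠ 1 → i ≠ cz →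
    (Finset.univ.filter fun k : Cen2A5 => i * k = k * i).card = 8 := by
  decide +kernel

theorem cen_card : Fintype.card Cen2A5 = 120 := by decide +kernel

end Cfsg.Agent.Lib.JankoOrder
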