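import Cfsg.Agent.Lib.JankoOrder.Cent
import Mathlib

/-!
# The odd part of the centraliser of an element of order three or five
-/

set_option autoImplicit false
set_option linter.unusedSectionVars false
set_option linter.style.haveILetI false

namespace Cfsg.Agent.Lib.JankoOrder

open Cfsg Subgroup

universe u

variable {G : Type u} [Group G] [Finite G]

/-- The subgroup generated by the elements of odd order centralising `g`. -/
def oddCent (g : G) : Subgroup G := closure {h | h * g = g * h ∧ Odd (orderOf h)}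

/-- `g` has order three or five and commutes with the involution `v`. -/
structure Axial (v g : G) : Prop where
  inv : orderOf v = 2
  comm : g * v = v * g
  ord : orderOf g = 3 ∨ orderOf g = 5

theorem oddCent_commute {g h : G} (hh : h ∈ oddCent g) : h * g = g * h := by
  have hle : oddCent g ≤ centralizer ({g} : Set G) := (closure_le _).mpr fun x hx =>
    mem_centralizer_singleton_iff.mpr hx.1
  exact mem_centralizer_singleton_iff.mp (hle hh)

theorem mem_oddCent_of {g h : G} (hc : h * g = g * h) (ho : Odd (orderOf h)) : h ∈ oddCent g :=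
  subset_closure ⟨hc, ho⟩

theorem map_oddCent (c g : G) :
    (oddCent g).map (MulAut.conj c).toMonoidHom = oddCent (c * g * c⁻¹) := by
  rw [oddCent, oddCent, MonoidHom.map_closure]
  congr 1
  ext x
  constructor
  · rintro ⟨y, ⟨hy, hyo⟩, rfl⟩
    refine ⟨?_, ?_⟩
    · show c * y * c⁻¹ * (c * g * c⁻¹) = c * g * c⁻¹ * (c * y * c⁻¹)
      calc c * y * c⁻¹ * (c * g * c⁻¹) = c * (y * g) * c⁻¹ := by group
        _ = c * (g * y) * c⁻¹ := by rw [hy]
        _ = _ := by group
    · show Odd (orderOf (c * y * c⁻¹))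
      rwa [Involution.orderOf_conj_eq]
  · rintro ⟨hx, hxo⟩
    refine ⟨c⁻¹ * x * c, ⟨?_, ?_⟩, ?_⟩
    · calc c⁻¹ * x * c * g = c⁻¹ * (x * (c * g * c⁻¹)) * c := by group
        _ = c⁻¹ * (c * g * c⁻¹ * x) * c := by rw [hx]
        _ = g * (c⁻¹ * x * c) := by group
    · have h := Involution.orderOf_conj_eq c⁻¹ x
      rw [inv_inv] at h
      rwa [h]
    · show c * (c⁻¹ * x * c) * c⁻¹ = x
      group

theorem mem_oddCent_conj {c g h : G} (hh : h ∈ oddCent g) :
    c * h * c⁻¹ ∈ oddCent (c * g * c⁻¹) := by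
  rw [← map_oddCent]
  exact mem_map_of_mem (MulAut.conj c).toMonoidHom hh

theorem card_oddCent_conj (c g : G) : Nat.card (oddCent (c * g * c⁻¹)) = Nat.card (oddCent g) := by
  rw [← map_oddCent]
  exact Nat.card_congr ((oddCent g).equivMapOfInjective _ (MulAut.conj c).injective).toEquiv.symm

namespace Axial

variable {v g : G} (A : Axial v g)
include A

theorem ne_one : g ≠ 1 := fun h => by
  have := A.ord; rw [h, orderOf_one] at this; omega

theorem odd : Odd (orderOf g) := by rcases A.ord with h | h <;> rw [h] <;> decide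

theorem conj (c : G) : Axial (c * v * c⁻¹) (c * g * c⁻¹) := by
  refine ⟨by rw [Involution.orderOf_conj_eq]; exact A.inv, ?_,
    by rw [Involution.orderOf_conj_eq]; exact A.ord⟩
  calc c * g * c⁻¹ * (c * v * c⁻¹) = c * (g * v) * c⁻¹ := by group
    _ = c * (v * g) * c⁻¹ := by rw [A.comm]
    _ = _ := by group

end Axial

namespace Hyp

variable (H : Hyp G)
include H

theorem exists_conj_in_cent {v g : G} (A : Axial v g) {w : G} (hw : orderOf w = 2)
    (hwg : w * g = g * w) : ∃ c : G, c * g = g * c ∧ c * w * c⁻¹ = v := by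
  rcases Nat.even_or_odd (orderOf (w * v)) with heven | hodd
  · exfalso
    have hw2 := Involution.mul_self_eq_one hw
    have hv2 := Involution.mul_self_eq_one A.inv
    have hz := Involution.orderOf_half_pow (a := w * v) heven
    have hzv := Involution.commute_half_pow_right (x := w) (y := v) hw2 hv2 heven
    have hzw := Involution.commute_half_pow_left (x := w) (y := v) hw2 hv2 heven
    have hzg : Commute ((w * v) ^ (orderOf (w * v) / 2)) g :=
      ((show Commute w g from hwg).mul_left (show Commute v g from A.comm.symm)).pow_left _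
    have key : ∀ x : G, orderOf x = 2 → x * v = v * x → x * g = g * x → x = v := by
      intro x hx hxv hxg
      obtain ⟨i, j, rfl⟩ := H.cent_form A.inv A.comm A.ord hxv hxg
      have hc : Commute (v ^ i) (g ^ j) := Commute.pow_pow A.comm.symm i j
      have h2 : (v ^ i) * (v ^ i) * (g ^ j * g ^ j) = 1 := by
        rw [← Involution.mul_self_eq_one hx]
        calc v ^ i * v ^ i * (g ^ j * g ^ j) = v ^ i * (v ^ i * g ^ j) * g ^ j := by group
          _ = v ^ i * (g ^ j * v ^ i) * g ^ j := by rw [hc.eq]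
          _ = _ := by group
      have hvi : v ^ i * v ^ i = 1 := by rw [← (Commute.refl v).mul_pow, hv2, one_pow]
      rw [hvi, one_mul, ← pow_add] at h2
      have hgj : g ^ j = 1 := by
        refine orderOf_dvd_iff_pow_eq_one.mp ((Nat.coprime_two_right.mpr A.odd).dvd_of_dvd_mul_right
          (m := j) ?_)
        rw [show j * 2 = j + j by ring]
        exact orderOf_dvd_of_pow_eq_one h2
      rw [hgj, mul_one] at hx ⊢
      rcases Nat.even_or_odd i with ⟨k, hk⟩ | ⟨k, hk⟩
      · rw [hk, pow_add, ← (Commute.refl v).mul_pow, hv2, one_pow, orderOf_one] at hx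
        omega
      · rw [hk, pow_add, pow_mul, pow_two, hv2, one_pow, one_mul, pow_one]
    have hzeq := key _ hz hzv.eq hzg
    have hwv : w * v = v * w := by rw [hzeq] at hzw; exact hzw.eq.symm
    have := key w hw hwv hwg
    rw [this, hv2] at heven
    simp at heven
  · obtain ⟨d, hd, hconj⟩ :=
      Involution.exists_conj_of_odd (x := w) (y := v) (Involution.mul_self_eq_one hw)
        (Involution.mul_self_eq_one A.inv) hodd
    refine ⟨d, ?_, hconj⟩
    have hle : closure ({w, v} : Set G) ≤ centralizer ({g} : Set G) := by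
      refine (closure_le _).mpr fun x hx => mem_centralizer_singleton_iff.mpr ?_
      rcases hx with rfl | rfl
      · exact hwg
      · exact A.comm.symm
    exact mem_centralizer_singleton_iff.mp (hle hd)

theorem oddCent_facts {v g : G} (A : Axial v g) :
    Odd (Nat.card (oddCent g)) ∧ Nat.card (centralizer ({g} : Set G)) = 2 * Nat.card (oddCent g) := by
  classical
  haveI : Fact (Nat.Prime 2) := ⟨Nat.prime_two⟩
  let C := centralizer ({g} : Set G)
  let vC : C := ⟨v, mem_centralizer_singleton_iff.mpr A.comm.symm⟩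
  have hvC : orderOf vC = 2 := by rw [← Subgroup.orderOf_coe]; exact A.inv
  have hp : IsPGroup 2 (zpowers vC) := IsPGroup.of_card (n := 1) (by rw [Nat.card_zpowers, hvC]; rfl)
  obtain ⟨T, hT⟩ := hp.exists_le_sylow
  have hTle : ∀ x ∈ (T : Subgroup C), x ∈ zpowers vC := by
    intro x hx
    have hvT : vC ∈ (T : Subgroup C) := hT (mem_zpowers _)
    have hpair : IsPGroup 2 (closure ({(x : G), v} : Set G)) := by
      refine (T.2.map C.subtype).to_le ((closure_le _).mpr ?_)
      rintro y (rfl | rfl)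
      · exact ⟨x, hx, rfl⟩
      · exact ⟨vC, hvT, rfl⟩
    obtain ⟨i, j, hij⟩ := H.cent_form A.inv A.comm A.ord (H.commute_of_two hpair)
      (mem_centralizer_singleton_iff.mp x.2)
    obtain ⟨k, hk⟩ := T.2 ⟨x, hx⟩
    have hk' : ((x : G)) ^ 2 ^ k = 1 := congrArg (fun z => ((z : C) : G)) (congrArg Subtype.val hk)
    have hc : Commute (v ^ i) (g ^ j) := Commute.pow_pow A.comm.symm i j
    have hvi : (v ^ i) ^ 2 = 1 := by
      rw [← pow_mul, mul_comm, pow_mul, pow_two, Involution.mul_self_eq_one A.inv, one_pow]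
    have h2 := H.two_exp _ k hk'
    rw [hij, ← pow_two, hc.mul_pow, hvi, one_mul, ← pow_mul] at h2
    have hgj : g ^ j = 1 := orderOf_dvd_iff_pow_eq_one.mp
      ((Nat.coprime_two_right.mpr A.odd).dvd_of_dvd_mul_right (m := j) (orderOf_dvd_of_pow_eq_one h2))
    rw [hgj, mul_one] at hij
    exact mem_zpowers_iff.mpr ⟨i, Subtype.ext (by simp [hij, vC])⟩
  have hTeq : (T : Subgroup C) = zpowers vC := le_antisymm hTle hT
  have hcyc : IsCyclic (T : Subgroup C) := by rw [hTeq]; infer_instance
  have heven : Even (Nat.card C) := even_iff_two_dvd.mpr (hvC ▸ orderOf_dvd_natCard vC)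
  obtain ⟨K, hKn, hK⟩ := Involution.exists_index_two_of_isCyclic_sylow heven T hcyc
  have hmul := K.card_mul_index
  rw [hK] at hmul
  have hT2 : Nat.card (T : Subgroup C) = 2 := by rw [hTeq, Nat.card_zpowers, hvC]
  have hKodd : Odd (Nat.card K) := by
    rw [← Nat.not_even_iff_odd, even_iff_two_dvd]
    intro h
    have h1 : 2 ^ 2 ∣ Nat.card (T : Subgroup C) := T.pow_dvd_card_of_pow_dvd_card
      (by rw [← hmul, pow_two]; exact Nat.mul_dvd_mul h dvd_rfl)
    rw [hT2] at h1
    exact absurd (Nat.le_of_dvd (by norm_num) h1) (by norm_num)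
  have hmap : oddCent g = K.map C.subtype := by
    refine le_antisymm ((closure_le _).mpr fun x hx => ?_) ?_
    · refine ⟨⟨x, mem_centralizer_singleton_iff.mpr hx.1⟩, ?_, rfl⟩
      obtain ⟨k, hk⟩ := hx.2
      have hsq : (⟨x, mem_centralizer_singleton_iff.mpr hx.1⟩ : C) ^ (2 * (k + 1)) ∈ K := by
        rw [pow_mul]; exact pow_mem (sq_mem_of_index_two hK _) _
      have he : (⟨x, mem_centralizer_singleton_iff.mpr hx.1⟩ : C) ^ (2 * (k + 1)) =
          ⟨x, mem_centralizer_singleton_iff.mpr hx.1⟩ := by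
        refine Subtype.ext ?_
        show x ^ (2 * (k + 1)) = x
        rw [show 2 * (k + 1) = orderOf x + 1 by omega, pow_add, pow_orderOf_eq_one, one_mul, pow_one]
      rwa [he] at hsq
    · rintro _ ⟨y, hy, rfl⟩
      refine mem_oddCent_of (mem_centralizer_singleton_iff.mp y.2) ?_
      rw [Subgroup.coe_subtype, Subgroup.orderOf_coe]
      exact hKodd.of_dvd_nat (K.orderOf_dvd_natCard hy)
  have hcardK : Nat.card (oddCent g) = Nat.card K := by
    rw [hmap]
    exact Nat.card_congr (K.equivMapOfInjective _ C.subtype_injective).toEquiv.symm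
  refine ⟨hcardK ▸ hKodd, ?_⟩
  rw [hcardK, ← hmul, mul_comm]

theorem mem_oddCent_iff {v g : G} (A : Axial v g) {h : G} :
    h ∈ oddCent g ↔ h * g = g * h ∧ Odd (orderOf h) :=
  ⟨fun hh => ⟨oddCent_commute hh, (H.oddCent_facts A).1.of_dvd_nat
    ((oddCent g).orderOf_dvd_natCard hh)⟩, fun hh => mem_oddCent_of hh.1 hh.2⟩

theorem card_invol_cent {v : G} (hv : orderOf v = 2) :
    {w : G | w * v = v * w ∧ orderOf w = 2}.ncard = 31 := by
  obtain ⟨φ, -⟩ := H.model v hv
  rw [ncard_commuting φ _ (fun k => k * k = 1 ∧ k ≠ 1), cen_card_involutions]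
  intro x
  rw [← map_mul, map_eq_one_iff φ φ.injective, ne_eq, map_eq_one_iff φ φ.injective]
  refine ⟨fun hx => ⟨Subtype.ext (Involution.mul_self_eq_one hx), fun e => Involution.ne_one hx
    (congrArg Subtype.val e)⟩, fun hx => Involution.orderOf_eq_two (congrArg Subtype.val hx.1)
    fun e => hx.2 (Subtype.ext e)⟩

theorem odd_iff_pow {v : G} (hv : orderOf v = 2) {x : G} (hx : x * v = v * x) :
    Odd (orderOf x) ↔ x ^ 15 = 1 := by
  refine ⟨fun ho => ?_, fun h => Odd.of_dvd_nat (by decide) (orderOf_dvd_of_pow_eq_one h)⟩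
  rw [← orderOf_dvd_iff_pow_eq_one]
  rcases H.odd_cases hv hx ho with h | h | h
  · rw [h, orderOf_one]; norm_num
  · rw [h]; norm_num
  · rw [h]; norm_num

theorem card_odd_cent {v : G} (hv : orderOf v = 2) :
    {g : G | g * v = v * g ∧ Odd (orderOf g)}.ncard = 45 := by
  obtain ⟨φ, -⟩ := H.model v hv
  rw [ncard_commuting φ _ (fun k => k ^ 15 = 1), cen_card_odd]
  intro x
  rw [← map_pow, map_eq_one_iff φ φ.injective, H.odd_iff_pow hv (mem_centralizer_singleton_iff.mp x.2),
    Subtype.ext_iff, coe_pow, coe_one]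

theorem card_inverted_cent {v w : G} (hv : orderOf v = 2) (hw : orderOf w = 2) (hwv : w * v = v * w)
    (hne : w ≠ v) :
    {g : G | g * v = v * g ∧ (Odd (orderOf g) ∧ g ≠ 1 ∧ w * g * w = g⁻¹)}.ncard = 12 := by
  obtain ⟨φ, hφ⟩ := H.model v hv
  let wC : centralizer ({v} : Set G) := ⟨w, mem_centralizer_singleton_iff.mpr hwv⟩
  rw [ncard_commuting φ _ (fun k => k ^ 15 = 1 ∧ k ≠ 1 ∧ φ wC * k * φ wC = k⁻¹), cen_card_inverted]
  · rw [← map_mul, map_eq_one_iff φ φ.injective]
    exact Subtype.ext (Involution.mul_self_eq_one hw)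
  · rw [ne_eq, map_eq_one_iff φ φ.injective]
    exact fun h => Involution.ne_one hw (congrArg Subtype.val h)
  · rw [← hφ ⟨v, mem_centralizer_singleton_iff.mpr rfl⟩ rfl]
    exact fun h => hne (congrArg Subtype.val (φ.injective h))
  intro x
  beta_reduce
  rw [← map_inv φ, ← map_mul, ← map_mul, φ.injective.eq_iff, ← map_pow, map_eq_one_iff φ φ.injective,
    ne_eq, ne_eq, map_eq_one_iff φ φ.injective,
    H.odd_iff_pow hv (mem_centralizer_singleton_iff.mp x.2)]
  simp only [Subtype.ext_iff, coe_pow, coe_one, coe_mul, coe_inv, ne_eq, wC]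

theorem card_cent_pair {v w : G} (hv : orderOf v = 2) (hw : orderOf w = 2) (hwv : w * v = v * w)
    (hne : w ≠ v) :
    Nat.card ↥(centralizer ({v} : Set G) ⊓ centralizer ({w} : Set G)) = 8 := by
  obtain ⟨φ, hφ⟩ := H.model v hv
  let wC : centralizer ({v} : Set G) := ⟨w, mem_centralizer_singleton_iff.mpr hwv⟩
  have hset : ((centralizer ({v} : Set G) ⊓ centralizer ({w} : Set G) : Subgroup G) : Set G) =
      {g : G | g * v = v * g ∧ g * w = w * g} := by
    ext g
    simp only [coe_inf, Set.mem_inter_iff, SetLike.mem_coe, mem_centralizer_singleton_iff,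
      Set.mem_ofPred_eq]
  rw [← SetLike.coe_sort_coe, Nat.card_coe_set_eq, hset,
    ncard_commuting φ _ (fun k => φ wC * k = k * φ wC), cen_card_cent_involution]
  · rw [← map_mul, map_eq_one_iff φ φ.injective]
    exact Subtype.ext (Involution.mul_self_eq_one hw)
  · rw [ne_eq, map_eq_one_iff φ φ.injective]
    exact fun h => Involution.ne_one hw (congrArg Subtype.val h)
  · rw [← hφ ⟨v, mem_centralizer_singleton_iff.mpr rfl⟩ rfl]
    exact fun h => hne (congrArg Subtype.val (φ.injective h))
  intro x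
  rw [← map_mul, ← map_mul, φ.injective.eq_iff, Subtype.ext_iff, coe_mul, coe_mul]
  exact eq_comm

end Hyp

end Cfsg.Agent.Lib.JankoOrder
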