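import Mathlib

/-!
# Small groups of odd order with a central element
-/

set_option autoImplicit false
set_option linter.unusedSectionVars false
set_option linter.style.haveILetI false

namespace Cfsg.Agent.Lib.JankoOrder

open Subgroup

variable {Q : Type*} [Group Q] [Finite Q]

theorem zmod_five_cube : ∀ a : ZMod 5, a ^ 3 - 1 = 0 → a - 1 = 0 := by decide

theorem isCyclic_of_card_fifteen (h : Nat.card Q = 15) : IsCyclic Q := by
  haveI : Fact (Nat.Prime 3) := ⟨Nat.prime_three⟩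
  haveI : Fact (Nat.Prime 5) := ⟨Nat.prime_five⟩
  obtain ⟨z, hz⟩ := exists_prime_orderOf_dvd_card' (G := Q) 3 (by rw [h]; norm_num)
  obtain ⟨w, hw⟩ := exists_prime_orderOf_dvd_card' (G := Q) 5 (by rw [h]; norm_num)
  have hindex : (zpowers w).index = 3 := by
    have h1 := (zpowers w).card_mul_index
    rw [Nat.card_zpowers, hw, h] at h1
    omega
  have hn : (zpowers w).Normal := by
    refine Subgroup.normal_of_index_eq_minFac_card ?_
    rw [hindex, h]; norm_num
  obtain ⟨k, hk⟩ := mem_zpowers_iff.mp (hn.conj_mem w (mem_zpowers w) z)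
  have hiter : ∀ n : ℕ, z ^ n * w * (z ^ n)⁻¹ = w ^ (k ^ n) := by
    intro n
    induction n with
    | zero => simp
    | succ n ih =>
      calc z ^ (n + 1) * w * (z ^ (n + 1))⁻¹ = z * (z ^ n * w * (z ^ n)⁻¹) * z⁻¹ := by
            rw [pow_succ']; group
        _ = (z * w * z⁻¹) ^ (k ^ n) := by rw [ih, conj_zpow]
        _ = w ^ (k ^ (n + 1)) := by rw [← hk, ← zpow_mul, pow_succ']
  have h3 := hiter 3
  rw [show z ^ 3 = 1 by rw [← hz, pow_orderOf_eq_one], one_mul, inv_one, mul_one] at h3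
  have hdvd : (5 : ℤ) ∣ k ^ 3 - 1 := by
    have : w ^ (k ^ 3 - 1) = 1 := by rw [zpow_sub, ← h3, zpow_one, mul_inv_cancel]
    rw [← orderOf_dvd_iff_zpow_eq_one, hw] at this
    exact this
  have hk1 : (5 : ℤ) ∣ k - 1 := by
    have h0 : ((k ^ 3 - 1 : ℤ) : ZMod 5) = 0 := (ZMod.intCast_zmod_eq_zero_iff_dvd _ 5).mpr hdvd
    refine (ZMod.intCast_zmod_eq_zero_iff_dvd _ 5).mp ?_
    push_cast at h0 ⊢
    exact zmod_five_cube _ h0
  have hcomm : Commute z w := by
    have h1 : w ^ k = w := by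
      obtain ⟨j, hj⟩ := hk1
      rw [show k = 5 * j + 1 by omega, zpow_add, zpow_mul, show (5 : ℤ) = ((5 : ℕ) : ℤ) from rfl,
        zpow_natCast, ← hw, pow_orderOf_eq_one, one_zpow, one_mul, zpow_one]
    rw [h1] at hk
    exact (mul_inv_eq_iff_eq_mul.mp hk.symm)
  exact isCyclic_of_orderOf_eq_card (z * w) (by
    rw [hcomm.orderOf_mul_eq_mul_orderOf_of_coprime (by rw [hz, hw]; norm_num), hz, hw, h])

theorem commute_of_card_prime_mul_sq {g : Q} (hg : ∀ x : Q, g * x = x * g) {p q : ℕ} [Fact p.Prime]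
    [Fact q.Prime] (hpq : p ≠ q) (hgo : orderOf g = p) (hcard : Nat.card Q = p * q ^ 2) (x y : Q) :
    x * y = y * x := by
  classical
  obtain ⟨P⟩ : Nonempty (Sylow q Q) := inferInstance
  have hP : Nat.card (P : Subgroup Q) = q ^ 2 := by
    rw [P.card_eq_multiplicity, hcard]
    congr 1
    have hp : p.Prime := Fact.out
    have hq : q.Prime := Fact.out
    rw [Nat.factorization_mul hp.ne_zero (pow_ne_zero _ hq.ne_zero), hq.factorization_pow,
      hp.factorization]
    simp [hpq]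
  have hPc : ∀ a b : (P : Subgroup Q), a * b = b * a := fun a b =>
    (IsPGroup.commGroupOfCardEqPrimeSq hP).mul_comm a b
  have hcg : ∀ i : ℤ, ∀ a : Q, g ^ i * a = a * g ^ i := fun i a => (Commute.zpow_left (hg a) i).eq
  let f : zpowers g × (P : Subgroup Q) → Q := fun r => (r.1 : Q) * r.2
  have hinf : ∀ a : Q, a ∈ zpowers g → a ∈ (P : Subgroup Q) → a = 1 := by
    intro a ha ha'
    have hco : (p).Coprime (q ^ 2) :=
      ((Nat.coprime_primes Fact.out Fact.out).mpr hpq).pow_right 2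
    exact orderOf_eq_one_iff.mp (Nat.eq_one_of_dvd_coprimes hco
      (hgo ▸ (Nat.card_zpowers g ▸ (zpowers g).orderOf_dvd_natCard ha))
      (hP ▸ (P : Subgroup Q).orderOf_dvd_natCard ha'))
  have hinj : Function.Injective f := by
    rintro ⟨⟨a, ha⟩, b, hb⟩ ⟨⟨c, hc⟩, d, hd⟩ h
    have h' : a * b = c * d := h
    have e : c⁻¹ * a = d * b⁻¹ := by
      calc c⁻¹ * a = c⁻¹ * (a * b) * b⁻¹ := by group
        _ = d * b⁻¹ := by rw [h']; group
    have h1 := hinf _ (mul_mem (inv_mem hc) ha) (e ▸ mul_mem hd (inv_mem hb))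
    rw [inv_mul_eq_one] at h1
    subst h1
    rw [mul_right_inj] at h'
    subst h'
    rfl
  have hbij := (Nat.bijective_iff_injective_and_card f).mpr
    ⟨hinj, by rw [Nat.card_prod, Nat.card_zpowers, hgo, hP, hcard]⟩
  obtain ⟨⟨⟨a, ha⟩, b⟩, rfl⟩ := hbij.2 x
  obtain ⟨⟨⟨c, hc⟩, d⟩, rfl⟩ := hbij.2 y
  obtain ⟨i, rfl⟩ := mem_zpowers_iff.mp ha
  obtain ⟨j, rfl⟩ := mem_zpowers_iff.mp hc
  have hbd : (b : Q) * d = d * b := congrArg Subtype.val (hPc b d)
  show g ^ i * (b : Q) * (g ^ j * d) = g ^ j * d * (g ^ i * b)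
  calc g ^ i * (b : Q) * (g ^ j * d) = g ^ i * ((b : Q) * g ^ j) * d := by group
    _ = g ^ i * (g ^ j * b) * d := by rw [hcg j b]
    _ = g ^ j * g ^ i * ((b : Q) * d) := by group
    _ = g ^ j * g ^ i * ((d : Q) * b) := by rw [hbd]
    _ = g ^ j * (g ^ i * d) * b := by group
    _ = g ^ j * (d * g ^ i) * b := by rw [hcg i d]
    _ = _ := by group

/-- A central subgroup with cyclic quotient, by cardinality. -/
theorem commute_of_central_quot {g : Q} (hg : ∀ x : Q, g * x = x * g) {m : ℕ}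
    (hm : m = 1 ∨ m.Prime ∨ m = 15) (hcard : Nat.card Q = orderOf g * m) (x y : Q) :
    x * y = y * x := by
  haveI hn : (zpowers g).Normal := ⟨fun a ha c => by
    obtain ⟨i, rfl⟩ := mem_zpowers_iff.mp ha
    have hc : g ^ i * c = c * g ^ i := (Commute.zpow_left (hg c) i).eq
    rw [← hc, mul_inv_cancel_right]
    exact zpow_mem (mem_zpowers g) i⟩
  have hq : Nat.card (Q ⧸ zpowers g) = m := by
    have h1 := (zpowers g).card_mul_index
    rw [Nat.card_zpowers, hcard] at h1
    rw [← Subgroup.index_eq_card]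
    exact Nat.eq_of_mul_eq_mul_left (orderOf_pos g) h1
  haveI : IsCyclic (Q ⧸ zpowers g) := by
    rcases hm with rfl | hm | rfl
    · haveI : Subsingleton (Q ⧸ zpowers g) := (Nat.card_eq_one_iff_unique.mp hq).1
      exact inferInstance
    · haveI := Fact.mk hm
      exact isCyclic_of_prime_card hq
    · exact isCyclic_of_card_fifteen hq
  exact (MonoidHom.isMulCommutative_of_isCyclic_of_ker_le_center (QuotientGroup.mk' (zpowers g)) (by
    rw [QuotientGroup.ker_mk']
    exact zpowers_le.mpr (mem_center_iff.mpr fun a => (hg a).symm))).is_comm.comm x y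

end Cfsg.Agent.Lib.JankoOrder
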