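import Cfsg.Agent.Lib.JankoOrder.Axes
import Cfsg.Agent.Lib.JankoOrder.Small
import Mathlib

/-!
# The possible orders of the odd parts
-/

set_option autoImplicit false
set_option linter.unusedSectionVars false
set_option linter.style.haveILetI false

namespace Cfsg.Agent.Lib.JankoOrder

open Cfsg Subgroup

universe u

variable {G : Type u} [Group G] [Finite G]

theorem oddCent_eq_of_zpowers_eq {g h : G} (e : zpowers g = zpowers h) : oddCent g = oddCent h := by
  have key : ∀ {a b : G}, zpowers a = zpowers b → ∀ x : G, x * a = a * x → x * b = b * x := by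
    intro a b he x hx
    obtain ⟨i, hi⟩ := mem_zpowers_iff.mp (he ▸ mem_zpowers b : b ∈ zpowers a)
    rw [← hi]
    exact ((show Commute x a from hx).zpow_right i).eq
  rw [oddCent, oddCent]
  congr 1
  ext x
  exact and_congr_left' ⟨key e x, key e.symm x⟩

theorem zpowers_eq_of_mem {g h : G} (hm : g ∈ zpowers h) (ho : orderOf g = orderOf h) :
    zpowers g = zpowers h :=
  Subgroup.eq_of_le_of_card_ge (zpowers_le.mpr hm) (by rw [Nat.card_zpowers, Nat.card_zpowers, ho])

theorem card_axis_map (c g w : G) :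
    Nat.card (axis (c * g * c⁻¹) (c * w * c⁻¹)) = Nat.card (axis g w) := by
  have : axis (c * g * c⁻¹) (c * w * c⁻¹) = (axis g w).map (MulAut.conj c).toMonoidHom := by
    ext x
    rw [mem_axis, ← map_oddCent]
    constructor
    · rintro ⟨⟨y, hy, rfl⟩, hx⟩
      refine ⟨y, mem_axis.mpr ⟨hy, ?_⟩, rfl⟩
      have hx' : c * y * c⁻¹ * (c * w * c⁻¹) = c * w * c⁻¹ * (c * y * c⁻¹) := hx
      calc y * w = c⁻¹ * (c * y * c⁻¹ * (c * w * c⁻¹)) * c := by group
        _ = c⁻¹ * (c * w * c⁻¹ * (c * y * c⁻¹)) * c := by rw [hx']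
        _ = w * y := by group
    · rintro ⟨y, hy, rfl⟩
      obtain ⟨h1, h2⟩ := mem_axis.mp hy
      refine ⟨⟨y, h1, rfl⟩, ?_⟩
      show c * y * c⁻¹ * (c * w * c⁻¹) = c * w * c⁻¹ * (c * y * c⁻¹)
      calc c * y * c⁻¹ * (c * w * c⁻¹) = c * (y * w) * c⁻¹ := by group
        _ = c * (w * y) * c⁻¹ := by rw [h2]
        _ = _ := by group
  rw [this]
  exact Nat.card_congr ((axis g w).equivMapOfInjective _ (MulAut.conj c).injective).toEquiv.symm

namespace Hyp

variable (H : Hyp G)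
include H

theorem exists_conj_axial {v g v' g' : G} (A : Axial v g) (A' : Axial v' g')
    (ho : orderOf g = orderOf g') :
    ∃ c : G, c * v * c⁻¹ = v' ∧ c * g * c⁻¹ ∈ zpowers g' := by
  obtain ⟨d, hd⟩ := isConj_iff.mp (H.conj_all v v' A.inv A'.inv)
  have hc := A.conj d
  rw [hd] at hc
  have ho' : orderOf (d * g * d⁻¹) = orderOf g' := by rw [Involution.orderOf_conj_eq, ho]
  have key : ∀ e : G, e * v' = v' * e → (e * d) * v * (e * d)⁻¹ = v' := fun e he => by
    calc (e * d) * v * (e * d)⁻¹ = e * (d * v * d⁻¹) * e⁻¹ := by group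
      _ = e * v' * e⁻¹ := by rw [hd]
      _ = v' := by rw [he, mul_inv_cancel_right]
  rcases A'.ord with h | h
  · obtain ⟨e, he, hee⟩ := H.conj_three A'.inv hc.comm (ho'.trans h) A'.comm h
    refine ⟨e * d, key e he, ?_⟩
    rw [show (e * d) * g * (e * d)⁻¹ = e * (d * g * d⁻¹) * e⁻¹ by group, hee]
    exact mem_zpowers _
  · obtain ⟨e, he, hee⟩ := H.conj_five A'.inv A'.comm h hc.comm (ho'.trans h)
    refine ⟨e⁻¹ * d, key _ ?_, ?_⟩
    · exact ((show Commute e v' from he).inv_left).eq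
    rcases hee with hee | hee <;>
      rw [show (e⁻¹ * d) * g * (e⁻¹ * d)⁻¹ = e⁻¹ * (d * g * d⁻¹) * e by group, ← hee]
    · rw [show e⁻¹ * (e * g' * e⁻¹) * e = g' by group]
      exact mem_zpowers _
    · rw [show e⁻¹ * (e * (g' * g') * e⁻¹) * e = g' * g' by group]
      exact mul_mem (mem_zpowers _) (mem_zpowers _)

theorem card_oddCent_eq {v g v' g' : G} (A : Axial v g) (A' : Axial v' g')
    (ho : orderOf g = orderOf g') : Nat.card (oddCent g) = Nat.card (oddCent g') := by
  obtain ⟨c, -, hg⟩ := H.exists_conj_axial A A' ho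
  rw [← card_oddCent_conj c g,
    oddCent_eq_of_zpowers_eq (zpowers_eq_of_mem hg (by rw [Involution.orderOf_conj_eq, ho]))]

end Hyp

namespace Frame

variable {v g s : G} (F : Frame v g s) (H : Hyp G)
include F H

/-- An axis of the order of `g` yields an element cycling the four group. -/
theorem exists_cycle {h : G} (hh : h ∈ axis g s) (ho : orderOf h = orderOf g) :
    ∃ c : G, c * v * c⁻¹ = s ∧ c * s * c⁻¹ = v * s ∧ c * (v * s) * c⁻¹ = v ∧
      c * g * c⁻¹ ∈ zpowers h := by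
  have h1 : h ≠ 1 := fun e => by
    have := F.ord; rw [← ho, e, orderOf_one] at this; omega
  obtain ⟨A, -, -⟩ := F.axis_structure H hh h1
  obtain ⟨c, hc, hcg⟩ := H.exists_conj_axial F.toAxial A ho.symm
  have F' := F.conj c
  rw [hc] at F'
  have hz : zpowers (c * g * c⁻¹) = zpowers h :=
    zpowers_eq_of_mem hcg (by rw [Involution.orderOf_conj_eq, ho])
  have hsinv : c * s * c⁻¹ * h * (c * s * c⁻¹)⁻¹ = h⁻¹ := by
    obtain ⟨i, hi⟩ := mem_zpowers_iff.mp (hz.symm ▸ mem_zpowers h : h ∈ zpowers (c * g * c⁻¹))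
    rw [← hi, ← conj_zpow, F'.s_act, inv_zpow]
  have hv := F.axis_inverted H hh
  have hv2 := Involution.mul_self_eq_one F.inv
  have hxh : (c * s * c⁻¹ * v) * h = h * (c * s * c⁻¹ * v) := by
    refine mul_inv_eq_iff_eq_mul.mp ?_
    calc c * s * c⁻¹ * v * h * (c * s * c⁻¹ * v)⁻¹ =
          c * s * c⁻¹ * (v * h * v⁻¹) * (c * s * c⁻¹)⁻¹ := by group
      _ = (c * s * c⁻¹ * h * (c * s * c⁻¹)⁻¹)⁻¹ := by rw [hv]; group
      _ = h := by rw [hsinv, inv_inv]
  have hxs : (c * s * c⁻¹ * v) * s = s * (c * s * c⁻¹ * v) := by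
    calc c * s * c⁻¹ * v * s = c * s * c⁻¹ * (s * v) := by rw [F.s_comm]; group
      _ = (c * s * c⁻¹ * s) * v := by group
      _ = _ := by rw [F'.s_comm]; group
  obtain ⟨i, j, hij⟩ := H.cent_form F.s_inv A.comm A.ord hxs hxh
  obtain ⟨k, hk⟩ := A.odd
  have hcs : c * s * c⁻¹ = s ^ i * h ^ j * v := by
    rw [← hij, mul_assoc, mul_assoc, hv2]; group
  have hvh : ∀ n : ℕ, v * h ^ n = (h ^ n)⁻¹ * v := fun n => by
    rw [← inv_pow, ← hv, conj_pow]; group
  have hsh : ∀ n : ℕ, h ^ n * s ^ i = s ^ i * h ^ n := fun n =>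
    (Commute.pow_pow (show Commute h s from A.comm) n i).eq
  set d := h ^ (j * k) with hd
  have hds : d * s * d⁻¹ = s := by
    rw [hd, (((show Commute h s from A.comm)).pow_left (j * k)).eq, mul_inv_cancel_right]
  have hdc : (d * c) * v * (d * c)⁻¹ = s := by
    rw [show (d * c) * v * (d * c)⁻¹ = d * (c * v * c⁻¹) * d⁻¹ by group, hc, hds]
  have hdcs : (d * c) * s * (d * c)⁻¹ = s ^ i * v := by
    rw [show (d * c) * s * (d * c)⁻¹ = d * (c * s * c⁻¹) * d⁻¹ by group, hcs, hd]
    have e1 : v * (h ^ (j * k))⁻¹ = h ^ (j * k) * v := by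
      have := hvh (j * k)
      calc v * (h ^ (j * k))⁻¹ = h ^ (j * k) * ((h ^ (j * k))⁻¹ * v) * (h ^ (j * k))⁻¹ := by group
        _ = h ^ (j * k) * (v * h ^ (j * k)) * (h ^ (j * k))⁻¹ := by rw [this]
        _ = h ^ (j * k) * v := by group
    calc h ^ (j * k) * (s ^ i * h ^ j * v) * (h ^ (j * k))⁻¹
        = (h ^ (j * k) * s ^ i) * h ^ j * (v * (h ^ (j * k))⁻¹) := by group
      _ = s ^ i * h ^ (j * k) * h ^ j * (h ^ (j * k) * v) := by rw [hsh, e1]
      _ = s ^ i * h ^ (j * k + j + j * k) * v := by rw [pow_add, pow_add]; group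
      _ = s ^ i * v := by
        rw [show j * k + j + j * k = orderOf h * j by rw [hk]; ring, pow_mul, pow_orderOf_eq_one,
          one_pow, mul_one]
  have hgmem : (d * c) * g * (d * c)⁻¹ ∈ zpowers h := by
    rw [show (d * c) * g * (d * c)⁻¹ = d * (c * g * c⁻¹) * d⁻¹ by group]
    exact mul_mem (mul_mem (pow_mem (mem_zpowers h) _) hcg) (inv_mem (pow_mem (mem_zpowers h) _))
  have hs2 := Involution.mul_self_eq_one F.s_inv
  rcases Nat.even_or_odd i with ⟨l, hl⟩ | ⟨l, hl⟩
  · rw [hl, pow_add, ← (Commute.refl s).mul_pow, hs2, one_pow, one_mul] at hdcs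
    exact (H.no_transposition F.inv F.s_inv F.s_comm.symm (Ne.symm F.ne) hdc hdcs).elim
  · rw [hl, pow_add, pow_mul, pow_two, hs2, one_pow, one_mul, pow_one, F.s_comm] at hdcs
    refine ⟨d * c, hdc, hdcs, ?_, hgmem⟩
    calc d * c * (v * s) * (d * c)⁻¹ = (d * c * v * (d * c)⁻¹) * (d * c * s * (d * c)⁻¹) := by group
      _ = s * (v * s) := by rw [hdc, hdcs]
      _ = s * (s * v) := by rw [F.s_comm]
      _ = v := by rw [← mul_assoc, hs2, one_mul]

theorem oddCent_axis_eq {h : G} (hh : h ∈ axis g s) (ho : orderOf h = orderOf g)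
    (hcomm : ∀ x ∈ oddCent g, ∀ y ∈ oddCent g, x * y = y * x) : oddCent h = oddCent g := by
  have h1 : h ≠ 1 := fun e => by
    have := F.ord; rw [← ho, e, orderOf_one] at this; omega
  obtain ⟨A, -, -⟩ := F.axis_structure H hh h1
  refine (Subgroup.eq_of_le_of_card_ge (fun x hx => ?_) ?_).symm
  · exact mem_oddCent_of (hcomm x hx h (mem_axis.mp hh).1) ((H.mem_oddCent_iff F.toAxial).mp hx).2
  · exact (H.card_oddCent_eq F.toAxial A ho.symm).ge

/-- With a commutative odd part, an axis of the order of `g` forces the other one. -/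
theorem card_axis_eq (hcomm : ∀ x ∈ oddCent g, ∀ y ∈ oddCent g, x * y = y * x)
    (ha : Nat.card (axis g s) = orderOf g) : Nat.card (axis g (v * s)) = orderOf g := by
  rcases F.card_axis H with h | ⟨h, hh, -, -, -, hc⟩
  · rw [h] at ha
    have := F.ord; omega
  have ho : orderOf h = orderOf g := hc.symm.trans ha
  obtain ⟨c, -, hcs, -, hcg⟩ := F.exists_cycle H hh ho
  have e : oddCent (c * g * c⁻¹) = oddCent g := by
    rw [oddCent_eq_of_zpowers_eq (zpowers_eq_of_mem hcg (by rw [Involution.orderOf_conj_eq, ho])),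
      F.oddCent_axis_eq H hh ho hcomm]
  have h2 := card_axis_map c g s
  rw [hcs] at h2
  rw [← ha, ← h2, axis, axis, e]

theorem commute_oddCent (hne : ¬ (Nat.card (axis g s) = orderOf g ∧
    Nat.card (axis g (v * s)) = orderOf g)) :
    ∀ x ∈ oddCent g, ∀ y ∈ oddCent g, x * y = y * x := by
  intro x hx y hy
  haveI : Fact (Nat.Prime 3) := ⟨Nat.prime_three⟩
  haveI : Fact (Nat.Prime 5) := ⟨Nat.prime_five⟩
  let gO : oddCent g := ⟨g, mem_oddCent_of rfl F.toAxial.odd⟩
  have hg : ∀ z : oddCent g, gO * z = z * gO := fun z => Subtype.ext (oddCent_commute z.2).symm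
  have hgo : orderOf gO = orderOf g := by rw [← Subgroup.orderOf_coe]
  have hc := F.card_oddCent H
  suffices h : ∀ a b : oddCent g, a * b = b * a from congrArg Subtype.val (h ⟨x, hx⟩ ⟨y, hy⟩)
  intro a b
  by_cases hsq : Nat.card (axis g s) = Nat.card (axis g (v * s)) ∧ Nat.card (axis g s) ≠ 1
  · obtain ⟨hab, ha1⟩ := hsq
    have hq : Nat.card (axis g s) = 8 - orderOf g ∧ (8 - orderOf g = 3 ∨ 8 - orderOf g = 5) := by
      have hna : Nat.card (axis g s) ≠ orderOf g := fun h => hne ⟨h, hab ▸ h⟩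
      rcases F.ord with hp | hp <;> rcases F.card_axis_cases H with ha | ha | ha <;> omega
    haveI : Fact (orderOf g).Prime := ⟨by rcases F.ord with h | h <;> rw [h] <;> norm_num⟩
    haveI : Fact (8 - orderOf g).Prime := ⟨by rcases hq.2 with h | h <;> rw [h] <;> norm_num⟩
    exact commute_of_card_prime_mul_sq hg (p := orderOf g) (q := 8 - orderOf g)
      (by rcases F.ord with h | h <;> omega) hgo (by rw [hc, ← hab, hq.1, pow_two]) a b
  refine commute_of_central_quot hg (m := Nat.card (axis g s) * Nat.card (axis g (v * s))) ?_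
    (by rw [hgo]; exact hc) a b
  rcases F.card_axis_cases H with ha | ha | ha <;> rcases F.swap.card_axis_cases H with hb | hb | hb <;>
    rw [ha, hb] at hsq ⊢ <;> simp_all <;> norm_num

theorem linked {h : G} (hh : h ∈ axis g s) (h1 : h ≠ 1) :
    orderOf g ∣ Nat.card (oddCent h) ∧
      ((∀ x ∈ oddCent g, ∀ y ∈ oddCent g, x * y = y * x) →
        Nat.card (oddCent g) ∣ Nat.card (oddCent h)) := by
  obtain ⟨A, -, hg⟩ := F.axis_structure H hh h1
  refine ⟨(oddCent h).orderOf_dvd_natCard hg, fun hcomm => card_dvd_of_le fun x hx => ?_⟩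
  exact mem_oddCent_of (hcomm x hx h (mem_axis.mp hh).1) ((H.mem_oddCent_iff F.toAxial).mp hx).2

end Frame

namespace Hyp

variable (H : Hyp G)
include H

theorem shape {v g : G} (A : Axial v g) {q : ℕ} (hq : orderOf g + q = 8) :
    Nat.card (oddCent g) = orderOf g ∨
    ((Nat.card (oddCent g) = orderOf g * q ∨ Nat.card (oddCent g) = orderOf g * q * q) ∧
      ∃ w h : G, Axial w h ∧ orderOf h = q ∧ orderOf g ∣ Nat.card (oddCent h) ∧
        Nat.card (oddCent g) ∣ Nat.card (oddCent h)) ∨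
    ∃ s, Frame v g s ∧ Nat.card (axis g s) = orderOf g ∧ Nat.card (axis g (v * s)) = orderOf g := by
  obtain ⟨s, F⟩ := H.exists_frame A
  by_cases hpp : Nat.card (axis g s) = orderOf g ∧ Nat.card (axis g (v * s)) = orderOf g
  · exact Or.inr (Or.inr ⟨s, F, hpp⟩)
  have hcomm := F.commute_oddCent H hpp
  have h1 : ∀ r, Frame v g r → Nat.card (axis g r) ≠ orderOf g → Nat.card (axis g r) = 1 ∨
      (Nat.card (axis g r) = q ∧ ∃ w h : G, Axial w h ∧ orderOf h = q ∧
        orderOf g ∣ Nat.card (oddCent h) ∧ Nat.card (oddCent g) ∣ Nat.card (oddCent h)) := by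
    intro r R hr
    rcases R.card_axis H with h | ⟨h, hh, A', -, -, hc⟩
    · exact Or.inl h
    right
    have hq' : orderOf h = q := by
      have h0 := hc ▸ hr
      rcases A.ord with h3 | h3 <;> rcases A'.ord with h4 | h4 <;> omega
    have hne : h ≠ 1 := A'.ne_one
    exact ⟨hc.trans hq', r, h, A', hq', (R.linked H hh hne).1, (R.linked H hh hne).2 hcomm⟩
  have ha : Nat.card (axis g s) ≠ orderOf g := fun ha => hpp ⟨ha, F.card_axis_eq H hcomm ha⟩
  have hb : Nat.card (axis g (v * s)) ≠ orderOf g := fun hb => by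
    refine hpp ⟨?_, hb⟩
    have := F.swap.card_axis_eq H hcomm hb
    rwa [F.vs_vs] at this
  have hc := F.card_oddCent H
  rcases h1 s F ha with ha' | ⟨ha', hw⟩ <;> rcases h1 _ F.swap hb with hb' | ⟨hb', hw'⟩
  · left; rw [hc, ha', hb', one_mul, mul_one]
  · right; left; exact ⟨Or.inl (by rw [hc, ha', hb', one_mul]), hw'⟩
  · right; left; exact ⟨Or.inl (by rw [hc, ha', hb', mul_one]), hw⟩
  · right; left; exact ⟨Or.inr (by rw [hc, ha', hb']; ring), hw⟩

end Hyp

end Cfsg.Agent.Lib.JankoOrder
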