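import Cfsg.Agent.Lib.JankoOrder.Cube
import Cfsg.Agent.Lib.JankoOrder.LocalThree
import Mathlib

/-!
# No odd part of order `27`
-/

set_option autoImplicit false
set_option linter.unusedSectionVars false
set_option linter.style.haveILetI false

namespace Cfsg.Agent.Lib.JankoOrder

open Cfsg Subgroup

universe u

variable {G : Type u} [Group G] [Finite G]

/-- The orbit of an element under conjugation by a subgroup. -/
def conjOrbit (N : Subgroup G) (x : G) : Set G := (fun n => n * x * n⁻¹) '' (N : Set G)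

theorem card_conjOrbit (N : Subgroup G) (x : G) :
    (conjOrbit N x).ncard * Nat.card (N ⊓ centralizer ({x} : Set G) : Subgroup G) = Nat.card N := by
  classical
  let f : N ⧸ (centralizer ({x} : Set G)).subgroupOf N → conjOrbit N x :=
    Quotient.lift (fun n : N => ⟨(n : G) * x * (n : G)⁻¹, n, n.2, rfl⟩) fun a b h => by
      have h' := mem_subgroupOf.mp (QuotientGroup.leftRel_apply.mp h)
      rw [mem_centralizer_singleton_iff] at h'
      refine Subtype.ext ?_
      show (a : G) * x * (a : G)⁻¹ = b * x * (b : G)⁻¹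
      calc (a : G) * x * (a : G)⁻¹ = a * (x * ((a⁻¹ * b : N) : G)) * (b : G)⁻¹ := by
            simp only [coe_mul, coe_inv]; group
        _ = a * (((a⁻¹ * b : N) : G) * x) * (b : G)⁻¹ := by rw [h']
        _ = _ := by simp only [coe_mul, coe_inv]; group
  have hf : Function.Bijective f := by
    refine ⟨fun p q h => ?_, fun ⟨_, n, hn, e⟩ => ⟨QuotientGroup.mk ⟨n, hn⟩, Subtype.ext e⟩⟩
    induction p using QuotientGroup.induction_on with
    | _ a =>
      induction q using QuotientGroup.induction_on with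
      | _ b =>
        have h' : (a : G) * x * (a : G)⁻¹ = b * x * (b : G)⁻¹ := congrArg Subtype.val h
        refine QuotientGroup.eq.mpr (mem_subgroupOf.mpr (mem_centralizer_singleton_iff.mpr ?_))
        simp only [coe_mul, coe_inv]
        calc (a : G)⁻¹ * b * x = (a : G)⁻¹ * (b * x * (b : G)⁻¹) * b := by group
          _ = (a : G)⁻¹ * (a * x * (a : G)⁻¹) * b := by rw [h']
          _ = x * ((a : G)⁻¹ * b) := by group
  rw [← Nat.card_coe_set_eq, ← Nat.card_eq_of_bijective f hf,
    ← Nat.card_congr (subgroupOfEquivOfLe (inf_le_left : N ⊓ centralizer ({x} : Set G) ≤ N)).toEquiv,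
    show (N ⊓ centralizer ({x} : Set G)).subgroupOf N = (centralizer ({x} : Set G)).subgroupOf N from
      inf_subgroupOf_left _ N,
    ← card_eq_card_quotient_mul_card_subgroup]

set_option maxHeartbeats 1600000 in
theorem Hyp.false_of_cube_three (H : Hyp G) {v g s : G} (F : Frame v g s) (hg : orderOf g = 3)
    (ha : Nat.card (axis g s) = 3) (hb : Nat.card (axis g (v * s)) = 3) : False := by
  classical
  haveI : Fact (Nat.Prime 2) := ⟨Nat.prime_two⟩
  haveI : Fact (Nat.Prime 3) := ⟨Nat.prime_three⟩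
  have ha' := ha.trans hg.symm
  have hb' := hb.trans hg.symm
  have hcomm := F.commute_cube H ha' hb'
  obtain ⟨r, w0, hro, A0, hrv, hrs, hrvs, hrO⟩ := F.exists_rotation H ha' hb'
  obtain ⟨h, hh, Ah, -, hho, hhz⟩ := F.exists_axis_gen H ha'
  set O := oddCent g with hOdef
  have hO27 : Nat.card O = 27 := by rw [F.card_oddCent H, ha, hb, hg]
  have hr3 : r ^ 3 = 1 := by rw [← hro, pow_orderOf_eq_one]
  have hhO : h ∈ O := (mem_axis.mp hh).1
  have hvh := F.axis_inverted H hh
  have hself : ∀ x : G, x * g = g * x → x * h = h * x → x ∈ O := by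
    intro x hxg hxh
    rcases F.mem_cent_cases H hxg with hx | hx
    · exact hx
    exfalso
    have e := hcomm (x * v) hx h hhO
    have e' : v * h * v⁻¹ = h := by
      calc v * h * v⁻¹ = x⁻¹ * (x * v * h) * v⁻¹ := by group
        _ = x⁻¹ * (h * (x * v)) * v⁻¹ := by rw [e]
        _ = x⁻¹ * (h * x) := by group
        _ = x⁻¹ * (x * h) := by rw [hxh]
        _ = h := by group
    rw [hvh] at e'
    have h2 : h ^ 2 = 1 := by rw [pow_two]; exact eq_inv_iff_mul_eq_one.mp e'.symm
    have := Nat.le_of_dvd (by norm_num) (orderOf_dvd_of_pow_eq_one h2)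
    omega
  have hkill : ∀ f ∈ O, r * f = f * r → v * f * v⁻¹ = f⁻¹ → f = 1 := by
    intro f hf hrf hvf
    have hrf' : r * f * r⁻¹ = f := mul_inv_eq_iff_eq_mul.mpr hrf
    have key : ∀ a : G, a * f * a⁻¹ = f⁻¹ → (r * a * r⁻¹) * f * (r * a * r⁻¹)⁻¹ = f⁻¹ := by
      intro a e
      calc (r * a * r⁻¹) * f * (r * a * r⁻¹)⁻¹ = r * (a * (r⁻¹ * f * r) * a⁻¹) * r⁻¹ := by group
        _ = r * (a * (r⁻¹ * (r * f * r⁻¹) * r) * a⁻¹) * r⁻¹ := by rw [hrf']
        _ = r * (a * f * a⁻¹) * r⁻¹ := by group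
        _ = (r * f * r⁻¹)⁻¹ := by rw [e]; group
        _ = f⁻¹ := by rw [hrf']
    have e1 := key v hvf
    rw [hrv] at e1
    have e2 := key s e1
    rw [hrs] at e2
    have e3 : v * s * f * (v * s)⁻¹ = f := by
      calc v * s * f * (v * s)⁻¹ = v * (s * f * s⁻¹) * v⁻¹ := by group
        _ = (v * f * v⁻¹)⁻¹ := by rw [e1]; group
        _ = f := by rw [hvf, inv_inv]
    rw [e2] at e3
    have h2 : f ^ 2 = 1 := by rw [pow_two]; exact eq_inv_iff_mul_eq_one.mp e3.symm
    exact orderOf_eq_one_iff.mp ((Nat.coprime_two_right.mpr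
      ((H.mem_oddCent_iff F.toAxial).mp hf).2).eq_one_of_dvd (orderOf_dvd_of_pow_eq_one h2))
  have hrO' : r ∉ O := fun hr => by
    have h1 := F.s_act
    rw [← hrv] at h1
    have h2 : r * g = g * r := oddCent_commute hr
    have h2' : r * g * r⁻¹ = g := mul_inv_eq_iff_eq_mul.mpr h2
    refine F.ne_inv ?_
    rw [← h1]
    calc r * v * r⁻¹ * g * (r * v * r⁻¹)⁻¹ = r * (v * (r⁻¹ * g * r) * v⁻¹) * r⁻¹ := by group
      _ = r * (v * (r⁻¹ * (r * g * r⁻¹) * r) * v⁻¹) * r⁻¹ := by rw [h2']
      _ = r * (v * g * v⁻¹) * r⁻¹ := by group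
      _ = g := by rw [F.toAxial.commute_conj, h2']
  have hfix : ∀ K : Subgroup G, K ≤ O → (∀ x ∈ K, r * x = x * r) → Nat.card K ≤ 3 := by
    intro K hK hKr
    let ψ : K →* G := MonoidHom.mk' (fun x => (x : G) * (v * (x : G) * v⁻¹)) fun x y => by
      show (x : G) * y * (v * ((x : G) * y) * v⁻¹) = x * (v * x * v⁻¹) * (y * (v * y * v⁻¹))
      have e := hcomm (y : G) (hK y.2) _ (F.conj_v_mem x (hK x.2))
      calc (x : G) * y * (v * ((x : G) * y) * v⁻¹)
          = x * ((y : G) * (v * x * v⁻¹)) * (v * y * v⁻¹) := by group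
        _ = x * ((v * x * v⁻¹) * y) * (v * y * v⁻¹) := by rw [e]
        _ = _ := by group
    have hinj : Function.Injective ψ := by
      rw [← MonoidHom.ker_eq_bot_iff, eq_bot_iff]
      rintro ⟨x, hx⟩ hxk
      exact Subgroup.mem_bot.mpr (Subtype.ext (hkill x (hK hx) (hKr x hx)
        (eq_inv_of_mul_eq_one_right hxk)))
    have hrange : ψ.range ≤ axis g v := by
      rintro _ ⟨⟨x, hx⟩, rfl⟩
      refine mem_axis.mpr ⟨mul_mem (hK hx) (F.conj_v_mem x (hK hx)), ?_⟩
      show x * (v * x * v⁻¹) * v = v * (x * (v * x * v⁻¹))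
      have e := hcomm x (hK hx) _ (F.conj_v_mem x (hK hx))
      have hv := Involution.mul_self_eq_one F.inv
      calc x * (v * x * v⁻¹) * v = (v * x * v⁻¹) * x * v := by rw [e]
        _ = v * x * (v⁻¹ * x * v) := by group
        _ = v * x * (v * x * v⁻¹) := by rw [Involution.inv_eq_self hv]
        _ = v * (x * (v * x * v⁻¹)) := by group
    rw [Nat.card_congr (MonoidHom.ofInjective hinj).toEquiv]
    exact (card_le_of_le hrange).trans (by rw [F.card_axis_self H, hg])
  obtain ⟨z, hzO, hz1, hzr⟩ := exists_fixed_of_card hr3 hrO (by rw [hO27]; norm_num)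
  have hzw : ∀ w : G, orderOf w = 2 → z * w ≠ w * z := by
    intro w hw hwz
    have hzodd := ((H.mem_oddCent_iff F.toAxial).mp hzO).2
    have Az : Axial w z := ⟨hw, hwz, (H.odd_cases hw hwz hzodd).resolve_left hz1⟩
    have hz3 : orderOf z = 3 := by
      have h1 := O.orderOf_dvd_natCard hzO
      rw [hO27] at h1
      rcases Az.ord with h2 | h2
      · exact h2
      · rw [h2] at h1; norm_num at h1
    have hle : O ≤ oddCent z := fun x hx =>
      mem_oddCent_of (hcomm x hx z hzO) ((H.mem_oddCent_iff F.toAxial).mp hx).2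
    have he : O = oddCent z := Subgroup.eq_of_le_of_card_ge hle
      (H.card_oddCent_eq F.toAxial Az (hg.trans hz3.symm)).ge
    exact hrO' (he ▸ mem_oddCent_of hzr (by rw [hro]; decide))
  -- the centraliser of `z`
  set M := centralizer ({z} : Set G) with hMdef
  have hModd : Odd (Nat.card M) := by
    rw [← Nat.not_even_iff_odd, even_iff_two_dvd]
    intro hd
    obtain ⟨y, hy⟩ := exists_prime_orderOf_dvd_card' (G := M) 2 hd
    exact hzw y (by rw [Subgroup.orderOf_coe]; exact hy) (mem_centralizer_singleton_iff.mp y.2).symm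
  -- the normaliser of the odd part
  set N := normalizer (O : Set G) with hNdef
  have hnorm : ∀ n : G, (∀ x ∈ O, n * x * n⁻¹ ∈ O) → n ∈ N := by
    intro n hn
    have he : O.map (MulAut.conj n).toMonoidHom = O := Subgroup.eq_of_le_of_card_ge
      (map_le_iff_le_comap.mpr hn)
      (by rw [card_map_of_injective (MulAut.conj n).injective])
    rw [hNdef, mem_normalizer_iff]
    refine fun x => ⟨hn x, fun hx => ?_⟩
    rw [← he] at hx
    obtain ⟨y, hy, e⟩ := hx
    have e' : n * y * n⁻¹ = n * x * n⁻¹ := e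
    rw [mul_left_inj, mul_right_inj] at e'
    exact e' ▸ hy

  have hrN : r ∈ N := hnorm r hrO
  have hvN : v ∈ N := hnorm v F.conj_v_mem
  have hsN : s ∈ N := hnorm s F.conj_s_mem
  have hCN : centralizer ({g} : Set G) ≤ N := fun x hx => hnorm x fun y hy =>
    conj_mem_oddCent (Or.inl (mul_inv_eq_iff_eq_mul.mpr (mem_centralizer_singleton_iff.mp hx))) hy
  have hOle : O ≤ centralizer ({g} : Set G) := fun x hx =>
    mem_centralizer_singleton_iff.mpr (oddCent_commute hx)
  have hON : O ≤ N := hOle.trans hCN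
  have hC54 : Nat.card (centralizer ({g} : Set G)) = 54 := by
    rw [(H.oddCent_facts F.toAxial).2, ← hOdef, hO27]
  set X := conjOrbit N g with hX
  have hNk : X.ncard * 54 = Nat.card N := by
    have := card_conjOrbit N g
    rwa [inf_eq_right.mpr hCN, hC54] at this
  have hgO : g ∈ O := mem_oddCent_of rfl F.toAxial.odd
  have hXsub : ∀ x ∈ X, x ∈ O ∧ x ≠ 1 ∧ ∃ u : G, orderOf u = 2 ∧ x * u = u * x := by
    rintro _ ⟨n, hn, rfl⟩
    refine ⟨(mem_normalizer_iff.mp hn g).mp hgO, fun e => F.toAxial.ne_one (conj_eq_one_iff.mp e),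
      n * v * n⁻¹, by rw [Involution.orderOf_conj_eq]; exact F.inv, (F.toAxial.conj n).comm⟩
  set Y := conjOrbit N z with hY
  have hYk : Y.ncard * Nat.card (N ⊓ M : Subgroup G) = Nat.card N := card_conjOrbit N z
  have hYsub : ∀ y ∈ Y, y ∈ O ∧ y ≠ 1 ∧ y ∉ X := by
    rintro _ ⟨n, hn, rfl⟩
    refine ⟨(mem_normalizer_iff.mp hn z).mp hzO, fun e => hz1 (conj_eq_one_iff.mp e), fun hx => ?_⟩
    obtain ⟨-, -, u, hu, hcu⟩ := hXsub _ hx
    refine hzw (n⁻¹ * u * n) ?_ ?_
    · have := Involution.orderOf_conj_eq n⁻¹ u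
      rw [inv_inv] at this
      rw [this, hu]
    · have hcu' : n * z * n⁻¹ * u = u * (n * z * n⁻¹) := hcu
      calc z * (n⁻¹ * u * n) = n⁻¹ * (n * z * n⁻¹ * u) * n := by group
        _ = n⁻¹ * (u * (n * z * n⁻¹)) * n := by rw [hcu']
        _ = _ := by group
  have hcount : X.ncard + Y.ncard ≤ 26 := by
    rw [← Set.ncard_union_eq (Set.disjoint_left.mpr fun x hx hy => (hYsub x hy).2.2 hx)
      (Set.toFinite _) (Set.toFinite _)]
    refine (Set.ncard_le_ncard (t := (O : Set G) \ {1}) ?_ (Set.toFinite _)).trans ?_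
    · rintro x (hx | hx)
      · exact ⟨(hXsub x hx).1, (hXsub x hx).2.1⟩
      · exact ⟨(hYsub x hx).1, (hYsub x hx).2.1⟩
    · rw [Set.ncard_sdiff_singleton_of_mem (one_mem _), ← Nat.card_coe_set_eq]
      exact (congrArg (· - 1) hO27).le
  have h4N : 4 ∣ Nat.card N := by
    set S := centralizer ({v} : Set G) ⊓ centralizer ({s} : Set G) ⊓ N with hS
    have hS8 : Nat.card S ∣ 8 := H.card_cent_pair F.inv F.s_inv F.s_comm F.ne ▸ card_dvd_of_le inf_le_left
    have hmem : ∀ x : G, x * v = v * x → x * s = s * x → x ∈ N → x ∈ S := fun x h1 h2 h3 =>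
      mem_inf.mpr ⟨mem_inf.mpr ⟨mem_centralizer_singleton_iff.mpr h1,
        mem_centralizer_singleton_iff.mpr h2⟩, h3⟩
    have h3 : 3 ≤ Nat.card S := by
      have hsub : ({1, v, s} : Set G) ⊆ S := by
        rintro x (rfl | rfl | rfl)
        · exact one_mem _
        · exact hmem _ rfl F.s_comm.symm hvN
        · exact hmem _ F.s_comm rfl hsN
      have h3' : ({1, v, s} : Set G).ncard = 3 := by
        rw [Set.ncard_insert_of_notMem (by
          simp only [Set.mem_insert_iff, Set.mem_singleton_iff, not_or]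
          exact ⟨(Involution.ne_one F.inv).symm, (Involution.ne_one F.s_inv).symm⟩) (Set.toFinite _),
          Set.ncard_pair F.ne.symm]
      rw [← h3', ← SetLike.coe_sort_coe, Nat.card_coe_set_eq]
      exact Set.ncard_le_ncard hsub (Set.toFinite _)
    have hSN : Nat.card S ∣ Nat.card N := card_dvd_of_le inf_le_right
    obtain ⟨k, hk, hk'⟩ := (Nat.dvd_prime_pow Nat.prime_two (m := 3)).mp hS8
    rw [hk'] at h3 hSN
    refine dvd_trans (pow_dvd_pow 2 (m := 2) ?_) hSN
    by_contra hlt
    have h2 : 2 ^ k ≤ 2 ^ 1 := Nat.pow_le_pow_right (by norm_num) (by omega)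
    omega
  have h8N : ¬ 8 ∣ Nat.card N := by
    intro h8
    let vN : N := ⟨v, hvN⟩
    let sN : N := ⟨s, hsN⟩
    have hv2 : vN * vN = 1 := Subtype.ext (Involution.mul_self_eq_one F.inv)
    have hs2 : sN * sN = 1 := Subtype.ext (Involution.mul_self_eq_one F.s_inv)
    have hcvs : vN * sN = sN * vN := Subtype.ext F.s_comm.symm
    have hvs : orderOf (vN * sN) = 2 := by
      rw [← Subgroup.orderOf_coe]; exact F.vs_inv
    have hp : IsPGroup 2 (closure ({vN, sN} : Set N)) := Involution.isPGroup_two_closure_pair hv2 hs2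
      (k := 1) (by rw [pow_one, ← hvs, pow_orderOf_eq_one])
    obtain ⟨Q, hQ⟩ := hp.exists_le_sylow
    have hQ8 : 8 ∣ Nat.card (Q : Subgroup N) := Q.pow_dvd_card_of_pow_dvd_card (n := 3) h8
    set Q' := (Q : Subgroup N).map N.subtype with hQ'
    have hQp : IsPGroup 2 Q' := Q.2.map _
    have hvQ : v ∈ Q' := ⟨vN, hQ (subset_closure (by simp)), rfl⟩
    have hsQ : s ∈ Q' := ⟨sN, hQ (subset_closure (by simp)), rfl⟩
    have habel : ∀ a ∈ Q', ∀ b ∈ Q', a * b = b * a := fun a ha b hb =>
      H.commute_of_two (hQp.to_le ((closure_le _).mpr (by rintro y (rfl | rfl) <;> assumption)))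
    have h2C : ∀ R : Subgroup G, R ≤ Q' → R ≤ centralizer ({g} : Set G) → Nat.card R ∣ 2 := by
      intro R hRQ hRC
      have h1 := card_dvd_of_le hRC
      rw [hC54] at h1
      obtain ⟨k, hk⟩ := IsPGroup.iff_card.mp (hQp.to_le hRQ)
      rw [hk] at h1 ⊢
      exact (Nat.Coprime.pow_left k (by norm_num : Nat.Coprime 2 27)).dvd_of_dvd_mul_right
        (show 2 ^ k ∣ 2 * 27 from h1)
    have hconjg : ∀ q ∈ Q', q * g * q⁻¹ = g ∨ q * g * q⁻¹ = g⁻¹ := by
      intro q hq
      obtain ⟨qN, hqQ, rfl⟩ := hq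
      have hqv := habel _ ⟨qN, hqQ, rfl⟩ v hvQ
      have hmem : (qN : G) * g * (qN : G)⁻¹ ∈ axis g v := by
        refine mem_axis.mpr ⟨(mem_normalizer_iff.mp qN.2 g).mp hgO, ?_⟩
        have hqv' : (qN : G) * v = v * qN := hqv
        have hqv'' : (qN : G)⁻¹ * v = v * (qN : G)⁻¹ := ((show Commute (qN : G) v from hqv').inv_left).eq
        calc (qN : G) * g * (qN : G)⁻¹ * v = qN * g * ((qN : G)⁻¹ * v) := by group
          _ = qN * (g * v) * (qN : G)⁻¹ := by rw [hqv'']; group
          _ = qN * (v * g) * (qN : G)⁻¹ := by rw [F.comm]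
          _ = (qN : G) * v * g * (qN : G)⁻¹ := by group
          _ = _ := by rw [hqv']; group
      rw [F.axis_self H] at hmem
      obtain ⟨i, hi⟩ := mem_zpowers_iff.mp hmem
      have hi' : (qN : G) * g * (qN : G)⁻¹ = g ^ (i % 3) := by
        rw [← hi, show (3 : ℤ) = ((orderOf g : ℕ) : ℤ) by rw [hg]; rfl, zpow_mod_orderOf]
      have hne : (qN : G) * g * (qN : G)⁻¹ ≠ 1 := fun e => F.toAxial.ne_one (conj_eq_one_iff.mp e)
      rcases (show i % 3 = 0 ∨ i % 3 = 1 ∨ i % 3 = 2 by omega) with e | e | e <;> rw [e] at hi'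
      · exact absurd (hi'.trans (zpow_zero g)) hne
      · exact Or.inl (hi'.trans (zpow_one g))
      · right
        refine hi'.trans (eq_inv_of_mul_eq_one_left ?_)
        rw [show g ^ (2 : ℤ) * g = g ^ 3 by rw [zpow_ofNat, ← pow_succ], ← hg, pow_orderOf_eq_one]
    let R := Q' ⊓ centralizer ({g} : Set G)
    have hR : Nat.card R ∣ 2 := h2C R inf_le_left inf_le_right
    have hsub : (Q' : Set G) ⊆ (R : Set G) ∪ (fun x => x * s) '' (R : Set G) := by
      intro q hq
      rcases hconjg q hq with e | e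
      · exact Or.inl (mem_inf.mpr ⟨hq, mem_centralizer_singleton_iff.mpr (mul_inv_eq_iff_eq_mul.mp e)⟩)
      · refine Or.inr ⟨q * s⁻¹, mem_inf.mpr ⟨mul_mem hq (inv_mem hsQ),
          mem_centralizer_singleton_iff.mpr (mul_inv_eq_iff_eq_mul.mp ?_)⟩, by simp⟩
        have hs' : s⁻¹ * g * s = g⁻¹ := by
          have h1 := F.s_act
          rw [Involution.inv_eq_self (Involution.mul_self_eq_one F.s_inv)] at h1 ⊢
          exact h1
        calc q * s⁻¹ * g * (q * s⁻¹)⁻¹ = q * (s⁻¹ * g * s) * q⁻¹ := by group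
          _ = (q * g * q⁻¹)⁻¹ := by rw [hs']; group
          _ = g := by rw [e, inv_inv]
    have hle := Set.ncard_le_ncard hsub (Set.toFinite _)
    have h1 := Set.ncard_union_le (R : Set G) ((fun x => x * s) '' (R : Set G))
    rw [Set.ncard_image_of_injective _ (mul_left_injective s)] at h1
    have hRn : (R : Set G).ncard ≤ 2 := by
      rw [← Nat.card_coe_set_eq]; exact Nat.le_of_dvd (by norm_num) hR
    have hQn : 8 ≤ (Q' : Set G).ncard := by
      rw [← Nat.card_coe_set_eq]
      refine Nat.le_of_dvd Nat.card_pos ?_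
      show 8 ∣ Nat.card Q'
      rw [hQ', card_map_of_injective N.subtype_injective]; exact hQ8
    omega
  set P := O ⊔ zpowers r with hP
  have hPN : P ≤ N := sup_le hON (zpowers_le.mpr hrN)
  have hOM : O ≤ M := fun x hx => mem_centralizer_singleton_iff.mpr (hcomm x hx z hzO)
  have hrM : r ∈ M := mem_centralizer_singleton_iff.mpr hzr
  have hPM : P ≤ M := sup_le hOM (zpowers_le.mpr hrM)
  have h81 : 81 ∣ Nat.card P := by
    have h1 : O < P := lt_of_le_of_ne le_sup_left fun e =>
      hrO' (e ▸ mem_sup_right (mem_zpowers r))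
    have h2 : Nat.card O < Nat.card P := by
      refine lt_of_le_of_ne (card_le_of_le h1.le) fun e => h1.ne ?_
      exact Subgroup.eq_of_le_of_card_ge h1.le e.ge
    have hPp : IsPGroup 3 P := (IsPGroup.of_card (p := 3) (n := 3) (by rw [hO27]; norm_num)).to_sup_of_normal_left'
      (IsPGroup.of_card (p := 3) (n := 1) (by rw [Nat.card_zpowers, hro, pow_one]))
      (zpowers_le.mpr hrN)
    obtain ⟨k, hk⟩ := IsPGroup.iff_card.mp hPp
    rw [hk] at h2 ⊢
    rw [hO27, show (27 : ℕ) = 3 ^ 3 by norm_num] at h2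
    exact (pow_dvd_pow 3 ((Nat.pow_lt_pow_iff_right (by norm_num)).mp h2 : 3 < k) :)
  have h81N : 81 ∣ Nat.card N := h81.trans (card_dvd_of_le hPN)
  have hk : X.ncard = 6 ∨ X.ncard = 18 := by
    have h324 : 81 * 4 ∣ Nat.card N := Nat.Coprime.mul_dvd_of_dvd_of_dvd (by norm_num) h81N h4N
    omega
  have hNMp : ∀ d, Nat.card (N ⊓ M : Subgroup G) = d → Odd d ∧ 81 ∣ d := fun d hd =>
    ⟨hd ▸ hModd.of_dvd_nat (card_dvd_of_le inf_le_right), hd ▸ h81.trans (card_dvd_of_le (le_inf hPN hPM))⟩
  have hvz : v * z * v⁻¹ ≠ z := fun e => hzw v F.inv (mul_inv_eq_iff_eq_mul.mp e).symm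
  have hsz : s * z * s⁻¹ ≠ z := fun e => hzw s F.s_inv (mul_inv_eq_iff_eq_mul.mp e).symm
  have hvsz : (v * s) * z * (v * s)⁻¹ ≠ z := fun e => hzw _ F.vs_inv (mul_inv_eq_iff_eq_mul.mp e).symm
  have hX6 : X.ncard = 6 := by
    refine hk.resolve_right fun h18 => ?_
    obtain ⟨hodd, hd81⟩ := hNMp _ rfl
    have hN972 : Nat.card N = 972 := by omega
    obtain ⟨m, hm⟩ := hd81
    rw [hm] at hodd hYk
    rw [hN972] at hYk
    have hm3 : Nat.card (N ⊓ M : Subgroup G) = 243 ∧ Y.ncard = 4 := by
      have h12 : Y.ncard * m = 12 := by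
        have : 81 * (Y.ncard * m) = 81 * 12 := by
          rw [← mul_assoc, mul_comm 81, mul_assoc]; exact hYk
        omega
      have hmodd : Odd m := (Nat.odd_mul.mp hodd).2
      have hY8 : Y.ncard ≤ 8 := by omega
      obtain ⟨j, rfl⟩ := hmodd
      have hj : 2 * j + 1 ≤ 12 := Nat.le_of_dvd (by norm_num) (Dvd.intro_left _ h12)
      have : j ≤ 6 := by omega
      interval_cases j <;> omega
    obtain ⟨hK243, hY4⟩ := hm3
    -- the centraliser of `z` permutes three points
    set a := v * z * v⁻¹ with haa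
    set b := s * z * s⁻¹ with hbb
    set c := (v * s) * z * (v * s)⁻¹ with hcc
    have hab : a ≠ b := fun e => hvsz (by
      calc v * s * z * (v * s)⁻¹ = v * (s * z * s⁻¹) * v⁻¹ := by group
        _ = v * (v * z * v⁻¹) * v⁻¹ := congrArg (fun y => v * y * v⁻¹) e.symm
        _ = (v * v) * z * (v * v)⁻¹ := by group
        _ = z := by rw [Involution.mul_self_eq_one F.inv, one_mul, inv_one, mul_one])
    have hYeq : ({z, a, b, c} : Finset G) = Y.toFinite.toFinset := by
      refine Finset.eq_of_subset_of_card_le ?_ ?_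
      · intro x hx
        simp only [Finset.mem_insert, Finset.mem_singleton] at hx
        rw [Set.Finite.mem_toFinset]
        rcases hx with rfl | rfl | rfl | rfl
        · exact ⟨1, one_mem N, by simp⟩
        · exact ⟨v, hvN, rfl⟩
        · exact ⟨s, hsN, rfl⟩
        · exact ⟨v * s, mul_mem hvN hsN, rfl⟩
      · rw [← Set.ncard_eq_toFinset_card Y, hY4]
        have hac : a ≠ c := fun e => hsz (by
          have e' : v * z * v⁻¹ = v * (s * z * s⁻¹) * v⁻¹ := by
            calc v * z * v⁻¹ = v * s * z * (v * s)⁻¹ := e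
              _ = _ := by group
          rw [mul_left_inj, mul_right_inj] at e'
          exact e'.symm)
        have hbc : b ≠ c := fun e => hvz (by
          have e' : s * z * s⁻¹ = s * (v * z * v⁻¹) * s⁻¹ := by
            calc s * z * s⁻¹ = v * s * z * (v * s)⁻¹ := e
              _ = s * v * z * (s * v)⁻¹ := by rw [F.s_comm]
              _ = _ := by group
          rw [mul_left_inj, mul_right_inj] at e'
          exact e'.symm)
        rw [Finset.card_insert_of_notMem (by simp [hvz.symm, hsz.symm, hvsz.symm]),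
          Finset.card_insert_of_notMem (by simp [hab, hac]),
          Finset.card_insert_of_notMem (by simp [hbc]), Finset.card_singleton]
    set K := N ⊓ M with hK
    have hmap : ∀ n ∈ K, ∀ y ∈ ({a, b, c} : Finset G), n * y * n⁻¹ ∈ ({a, b, c} : Finset G) := by
      intro n hn y hy
      obtain ⟨hnN, hnM⟩ := mem_inf.mp hn
      have hyY : y ∈ Y.toFinite.toFinset := hYeq ▸ Finset.mem_insert_of_mem hy
      rw [Set.Finite.mem_toFinset] at hyY
      obtain ⟨m, hm, rfl⟩ := hyY
      have hin : n * (m * z * m⁻¹) * n⁻¹ ∈ Y.toFinite.toFinset := by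
        rw [Set.Finite.mem_toFinset]
        refine ⟨n * m, mul_mem hnN hm, ?_⟩
        show n * m * z * (n * m)⁻¹ = _
        group
      rw [← hYeq, Finset.mem_insert] at hin
      refine hin.resolve_left fun e => ?_
      have hnz : n * z * n⁻¹ = z := mul_inv_eq_iff_eq_mul.mpr (mem_centralizer_singleton_iff.mp hnM)
      have e' : m * z * m⁻¹ = z := by
        have h2 : n * (m * z * m⁻¹) * n⁻¹ = n * z * n⁻¹ := e.trans hnz.symm
        rwa [mul_left_inj, mul_right_inj] at h2
      simp only [e', Finset.mem_insert, Finset.mem_singleton] at hy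
      rcases hy with hy | hy | hy
      · exact hvz hy.symm
      · exact hsz hy.symm
      · exact hvsz hy.symm
    -- elements fixing the three points lie in the odd part
    have hker : ∀ n : G, n * z * n⁻¹ = z → n * a * n⁻¹ = a → n * b * n⁻¹ = b → n ∈ O := by
      intro n h1 h2 h3
      have haO : a ∈ O := F.conj_v_mem z hzO
      have hbO : b ∈ O := F.conj_s_mem z hzO
      have hza : z * a ∈ zpowers g := by
        rw [← F.axis_self H]
        refine mem_axis.mpr ⟨mul_mem hzO haO, ?_⟩
        have e := hcomm z hzO a haO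
        have hv := Involution.mul_self_eq_one F.inv
        calc z * a * v = a * z * v := by rw [e]
          _ = v * z * (v⁻¹ * z * v) := by rw [haa]; group
          _ = v * z * (v * z * v⁻¹) := by rw [Involution.inv_eq_self hv]
          _ = v * (z * a) := by rw [haa]; group
      have hzb : z * b ∈ zpowers h := by
        rw [← hhz]
        refine mem_axis.mpr ⟨mul_mem hzO hbO, ?_⟩
        have e := hcomm z hzO b hbO
        have hs := Involution.mul_self_eq_one F.s_inv
        calc z * b * s = b * z * s := by rw [e]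
          _ = s * z * (s⁻¹ * z * s) := by rw [hbb]; group
          _ = s * z * (s * z * s⁻¹) := by rw [Involution.inv_eq_self hs]
          _ = s * (z * b) := by rw [hbb]; group
      have hza1 : z * a ≠ 1 := fun e => hz1 (hkill z hzO hzr (eq_inv_of_mul_eq_one_right e))
      have hzb1 : z * b ≠ 1 := fun e => by
        have e' : s * z * s⁻¹ = z⁻¹ := eq_inv_of_mul_eq_one_right e
        refine hz1 (hkill z hzO hzr ?_)
        have hrz : r⁻¹ * z * r = z := by rw [mul_assoc, ← hzr, inv_mul_cancel_left]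
        have hrz' : r * z * r⁻¹ = z := mul_inv_eq_iff_eq_mul.mpr hzr
        rw [← hrv] at e'
        calc v * z * v⁻¹ = r⁻¹ * (r * v * r⁻¹ * (r * z * r⁻¹) * (r * v * r⁻¹)⁻¹) * r := by group
          _ = r⁻¹ * z⁻¹ * r := by rw [hrz', e']
          _ = (r⁻¹ * z * r)⁻¹ := by group
          _ = z⁻¹ := by rw [hrz]
      have hgen : ∀ {x y : G}, x ∈ zpowers y → x ≠ 1 → orderOf y = 3 → n * x * n⁻¹ = x →
          n * y = y * n := by
        intro x y hxy hx1 hy hnx
        have hzp := zpowers_eq_of_mem hxy (by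
          rw [hy]
          have := (zpowers y).orderOf_dvd_natCard hxy
          rw [Nat.card_zpowers, hy] at this
          exact ((Nat.dvd_prime Nat.prime_three).mp this).resolve_left
            fun e => hx1 (orderOf_eq_one_iff.mp e))
        obtain ⟨i, hi⟩ := mem_zpowers_iff.mp (hzp.symm ▸ mem_zpowers y : y ∈ zpowers x)
        refine mul_inv_eq_iff_eq_mul.mp ?_
        rw [← hi, ← conj_zpow, hnx]
      refine hself n ?_ ?_
      · refine hgen hza hza1 hg ?_
        calc n * (z * a) * n⁻¹ = (n * z * n⁻¹) * (n * a * n⁻¹) := by group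
          _ = z * a := by rw [h1, h2]
      · refine hgen hzb hzb1 (hho.trans hg) ?_
        calc n * (z * b) * n⁻¹ = (n * z * n⁻¹) * (n * b * n⁻¹) := by group
          _ = z * b := by rw [h1, h3]
    let f : K ⧸ O.subgroupOf K → ({a, b, c} : Finset G).offDiag :=
      Quotient.lift (fun n : K => ⟨((n : G) * a * (n : G)⁻¹, (n : G) * b * (n : G)⁻¹),
        Finset.mem_offDiag.mpr ⟨hmap n n.2 a (by simp), hmap n n.2 b (by simp),
          fun e => hab (by rwa [mul_left_inj, mul_right_inj] at e)⟩⟩) fun n m e => by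
          have e' := mem_subgroupOf.mp (QuotientGroup.leftRel_apply.mp e)
          simp only [coe_mul, coe_inv] at e'
          have key : ∀ y ∈ O, (n : G) * y * (n : G)⁻¹ = m * y * (m : G)⁻¹ := fun y hy => by
            have h1 := hcomm _ e' y hy
            calc (n : G) * y * (n : G)⁻¹ = n * (y * ((n : G)⁻¹ * m)) * (m : G)⁻¹ := by group
              _ = n * ((n : G)⁻¹ * m * y) * (m : G)⁻¹ := by rw [h1]
              _ = _ := by group
          exact Subtype.ext (Prod.ext (key a (F.conj_v_mem z hzO)) (key b (F.conj_s_mem z hzO)))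
    have hfinj : Function.Injective f := by
      intro p q e
      induction p using QuotientGroup.induction_on with
      | _ n =>
        induction q using QuotientGroup.induction_on with
        | _ m =>
          have e' : ((n : G) * a * (n : G)⁻¹, (n : G) * b * (n : G)⁻¹) =
              ((m : G) * a * (m : G)⁻¹, (m : G) * b * (m : G)⁻¹) := congrArg Subtype.val e
          obtain ⟨e1, e2⟩ := Prod.ext_iff.mp e'
          have key : ∀ y : G, (n : G) * y * (n : G)⁻¹ = m * y * (m : G)⁻¹ →
              ((n : G)⁻¹ * m) * y * ((n : G)⁻¹ * m)⁻¹ = y := fun y h => by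
            calc ((n : G)⁻¹ * m) * y * ((n : G)⁻¹ * m)⁻¹ = (n : G)⁻¹ * (m * y * (m : G)⁻¹) * n := by group
              _ = (n : G)⁻¹ * (n * y * (n : G)⁻¹) * n := by rw [h]
              _ = y := by group
          refine QuotientGroup.eq.mpr (mem_subgroupOf.mpr ?_)
          simp only [coe_mul, coe_inv]
          refine hker _ (key z ?_) (key a e1) (key b e2)
          rw [mul_inv_eq_iff_eq_mul.mpr (mem_centralizer_singleton_iff.mp (mem_inf.mp n.2).2),
            mul_inv_eq_iff_eq_mul.mpr (mem_centralizer_singleton_iff.mp (mem_inf.mp m.2).2)]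
    have hq := Nat.card_le_card_of_injective f hfinj
    rw [← index_eq_card, Nat.card_eq_finsetCard, Finset.offDiag_card] at hq
    have hc3 : ({a, b, c} : Finset G).card ≤ 3 := Finset.card_le_three
    have hidx := (O.subgroupOf K).card_mul_index
    rw [Nat.card_congr (subgroupOfEquivOfLe (le_inf hON hOM : O ≤ K)).toEquiv, hO27, hK243] at hidx
    have hle6 : ({a, b, c} : Finset G).card * ({a, b, c} : Finset G).card -
        ({a, b, c} : Finset G).card ≤ 6 := by
      generalize ({a, b, c} : Finset G).card = k at hc3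
      interval_cases k <;> norm_num
    omega
  -- conclude inside `M`
  have hPeq : N ⊓ M = P := by
    obtain ⟨hodd, hd81⟩ := hNMp _ rfl
    have hle : Nat.card (N ⊓ M : Subgroup G) ≤ 81 := by
      have h1 : Nat.card (N ⊓ M : Subgroup G) ∣ 81 * 4 := by
        refine (card_dvd_of_le inf_le_left).trans (dvd_of_eq ?_)
        omega
      exact Nat.le_of_dvd (by norm_num)
        ((Nat.Coprime.pow_right 2 (Nat.coprime_two_right.mpr hodd) :
          Nat.Coprime _ (2 ^ 2)).dvd_of_dvd_mul_right h1)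
    exact (Subgroup.eq_of_le_of_card_ge (le_inf hPN hPM)
      (hle.trans (Nat.le_of_dvd Nat.card_pos h81))).symm
  have Ar : Axial w0 r := A0
  obtain ⟨sr, Fr⟩ := H.exists_frame Ar
  have hB27 : Nat.card (oddCent r) = 27 := by
    rw [H.card_oddCent_eq Ar F.toAxial (hro.trans hg.symm), ← hOdef, hO27]
  have hBcomm : ∀ x ∈ oddCent r, ∀ y ∈ oddCent r, x * y = y * x := by
    have hcF := Fr.card_oddCent H
    rw [hB27, hro] at hcF
    refine Fr.commute_cube H ?_ ?_ <;> rw [hro] <;>
      rcases Fr.card_axis_cases H with h1 | h1 | h1 <;>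
      rcases Fr.swap.card_axis_cases H with h2 | h2 | h2 <;>
      rw [h1, h2] at hcF <;> omega
  have hBM : oddCent r ≤ M := fun x hx => by
    refine mem_centralizer_singleton_iff.mpr ?_
    exact hBcomm x hx z (mem_oddCent_of hzr.symm ((H.mem_oddCent_iff F.toAxial).mp hzO).2)
  refine false_of_local (O.subgroupOf M) ⟨r, hrM⟩ ?_ ?_ (Subtype.ext hr3) hrO' ?_ ?_ ?_
    ((oddCent r).subgroupOf M) ?_ ?_
    (mem_oddCent_of rfl (by show Odd (orderOf r); rw [hro]; decide))
  · exact fun x hx y hy => Subtype.ext (hcomm x hx y hy)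
  · rw [Nat.card_congr (subgroupOfEquivOfLe hOM).toEquiv, hO27]
  · exact fun x hx => hrO x hx
  · intro K hK hKr
    rw [← card_map_of_injective M.subtype_injective]
    refine hfix _ (map_le_iff_le_comap.mpr hK) ?_
    rintro _ ⟨x, hx, rfl⟩
    exact congrArg Subtype.val (hKr x hx)
  · intro n hn
    have hnN : (n : G) ∈ N := hnorm n fun x hx => hn ⟨x, hOM hx⟩ hx
    have hnP : (n : G) ∈ P := hPeq ▸ mem_inf.mpr ⟨hnN, n.2⟩
    rw [show zpowers (⟨r, hrM⟩ : M) = (zpowers r).subgroupOf M from ?_,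
      ← subgroupOf_sup hOM (zpowers_le.mpr hrM)]
    · exact hnP
    · ext x
      simp only [mem_subgroupOf, mem_zpowers_iff, Subtype.ext_iff, SubgroupClass.coe_zpow]
  · exact fun x hx y hy => Subtype.ext (hBcomm x hx y hy)
  · rw [Nat.card_congr (subgroupOfEquivOfLe hBM).toEquiv, hB27]

end Cfsg.Agent.Lib.JankoOrder
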